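import Cfsg.Agent.Lib.Helper65.StemLemmas

/-!
# More lemmas on stem extensions

* `ker_le_zpowers_of_normalizer`: two-generator criterion for the kernel to lie in `⟨[α,β]⟩`.
* `stem_ker_eq_bot_quaternion`: stem extensions of (generalized) quaternion groups are trivial.
* `pow_index_eq_one_of_comm`: transfer into a commutative subgroup.
* `pairing_trivial`: an invariant biadditive pairing on a field vanishes.
-/

set_option autoImplicit false

namespace Cfsg.Agent.Lib.Helper65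

open scoped commutatorElement

universe u v

section TwoGen

variable {P : Type u} [Group P] {Q : Type v} [Group Q]

/-- If `σ : Q → P` is a stem extension, `σ α, σ β` generate `P` and `α, β` normalize the cyclic
group generated by `c = α β α⁻¹ β⁻¹`, then the kernel lies in `⟨c⟩`. -/
theorem ker_le_zpowers_of_normalizer (σ : Q →* P) (hσ : Cfsg.IsStemExtension σ) (α β : Q)
    (hgen : Subgroup.closure {σ α, σ β} = ⊤)
    (hα : α ∈ Subgroup.normalizer (Subgroup.zpowers (α * β * α⁻¹ * β⁻¹) : Set Q))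
    (hβ : β ∈ Subgroup.normalizer (Subgroup.zpowers (α * β * α⁻¹ * β⁻¹) : Set Q)) :
    σ.ker ≤ Subgroup.zpowers (α * β * α⁻¹ * β⁻¹) := by
  obtain ⟨hsurj, hcen, hcomm⟩ := hσ
  set c : Q := α * β * α⁻¹ * β⁻¹ with hc
  set N : Subgroup Q := Subgroup.zpowers c with hN
  have hgenQ : ∀ g : Q, ∃ x ∈ Subgroup.closure ({α, β} : Set Q), ∃ ζ ∈ σ.ker, g = x * ζ := by
    intro g
    have hmap : (Subgroup.closure ({α, β} : Set Q)).map σ = ⊤ := by
      rw [MonoidHom.map_closure, ← hgen]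
      congr 1
      simp [Set.image_pair]
    have : σ g ∈ (Subgroup.closure ({α, β} : Set Q)).map σ := by rw [hmap]; trivial
    obtain ⟨x, hx, hxg⟩ := this
    refine ⟨x, hx, x⁻¹ * g, ?_, by group⟩
    rw [MonoidHom.mem_ker, map_mul, map_inv, hxg, inv_mul_cancel]
  have hnorm : Subgroup.normalizer (N : Set Q) = ⊤ := by
    rw [eq_top_iff]
    intro g _
    obtain ⟨x, hx, ζ, hζ, rfl⟩ := hgenQ g
    apply mul_mem
    · have hle : Subgroup.closure ({α, β} : Set Q) ≤ Subgroup.normalizer (N : Set Q) := by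
        rw [Subgroup.closure_le]
        rintro y (rfl | rfl)
        · exact hα
        · exact hβ
      exact hle hx
    · have hζc := hcen hζ
      rw [Subgroup.mem_center_iff] at hζc
      rw [Subgroup.mem_normalizer_iff]
      intro y
      have : ζ * y * ζ⁻¹ = y := by rw [← hζc y]; group
      rw [this]
  have hNn : N.Normal := Subgroup.normalizer_eq_top_iff.1 hnorm
  have hquot : ∀ x y : Q ⧸ N, x * y = y * x := by
    set T : Set (Q ⧸ N) := (QuotientGroup.mk' N) '' ({α, β} ∪ (σ.ker : Set Q)) with hT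
    have hTtop : Subgroup.closure T = ⊤ := by
      rw [eq_top_iff]
      intro x _
      induction x using QuotientGroup.induction_on with
      | H g =>
        obtain ⟨x, hx, ζ, hζ, rfl⟩ := hgenQ g
        rw [QuotientGroup.mk_mul]
        apply mul_mem
        · have : (QuotientGroup.mk' N) x ∈ (Subgroup.closure ({α, β} : Set Q)).map (QuotientGroup.mk' N) :=
            ⟨x, hx, rfl⟩
          rw [MonoidHom.map_closure] at this
          exact Subgroup.closure_mono (Set.image_mono Set.subset_union_left) this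
        · exact Subgroup.subset_closure ⟨ζ, Or.inr hζ, rfl⟩
    have hTcomm : ∀ s ∈ T, ∀ t ∈ T, s * t = t * s := by
      have hαβ : (QuotientGroup.mk' N α) * (QuotientGroup.mk' N β)
          = (QuotientGroup.mk' N β) * (QuotientGroup.mk' N α) := by
        rw [← map_mul, ← map_mul]
        apply QuotientGroup.eq.2
        have : (α * β)⁻¹ * (β * α) = (β⁻¹ * α⁻¹ * c * α * β)⁻¹ := by rw [hc]; group
        rw [this]
        apply inv_mem
        have hn := hNn.conj_mem c (Subgroup.mem_zpowers c) (β⁻¹ * α⁻¹)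
        have e : β⁻¹ * α⁻¹ * c * (β⁻¹ * α⁻¹)⁻¹ = β⁻¹ * α⁻¹ * c * α * β := by group
        rwa [e] at hn
      have hker : ∀ ζ ∈ σ.ker, ∀ g : Q, (QuotientGroup.mk' N ζ) * (QuotientGroup.mk' N g)
          = (QuotientGroup.mk' N g) * (QuotientGroup.mk' N ζ) := by
        intro ζ hζ g
        have hζc := hcen hζ
        rw [Subgroup.mem_center_iff] at hζc
        rw [← map_mul, ← map_mul, hζc g]
      rintro s ⟨g, hg, rfl⟩ t ⟨g', hg', rfl⟩
      rcases hg with (rfl | rfl) | hg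
      · rcases hg' with (rfl | rfl) | hg'
        · rfl
        · exact hαβ
        · exact (hker g' hg' g).symm
      · rcases hg' with (rfl | rfl) | hg'
        · exact hαβ.symm
        · rfl
        · exact (hker g' hg' g).symm
      · exact hker g hg g'
    have hcenT : T ⊆ Subgroup.center (Q ⧸ N) := by
      intro s hs
      rw [SetLike.mem_coe, Subgroup.mem_center_iff]
      have hle : Subgroup.closure T ≤ Subgroup.centralizer {s} := by
        rw [Subgroup.closure_le]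
        intro t ht
        rw [SetLike.mem_coe, Subgroup.mem_centralizer_iff]
        rintro _ rfl
        exact hTcomm _ hs t ht
      intro g
      have : g ∈ Subgroup.centralizer {s} := hle (by rw [hTtop]; trivial)
      rw [Subgroup.mem_centralizer_iff] at this
      exact (this s rfl).symm
    have : Subgroup.center (Q ⧸ N) = ⊤ := by
      rw [eq_top_iff, ← hTtop, Subgroup.closure_le]
      exact hcenT
    intro x y
    have hy : y ∈ Subgroup.center (Q ⧸ N) := by rw [this]; trivial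
    rw [Subgroup.mem_center_iff] at hy
    exact (hy x)
  have hcomN : commutator Q ≤ N := by
    rw [commutator_def, Subgroup.commutator_le]
    intro g₁ _ g₂ _
    rw [← QuotientGroup.eq_one_iff, commutatorElement_def]
    simp only [QuotientGroup.mk_mul, QuotientGroup.mk_inv]
    rw [hquot (g₁ : Q ⧸ N) g₂]
    group
  exact hcomm.trans hcomN

end TwoGen

section Quaternion

open QuaternionGroup

theorem quaternion_closure (n : ℕ) [NeZero n] :
    Subgroup.closure ({xa 0, a 1} : Set (QuaternionGroup n)) = ⊤ := by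
  rw [eq_top_iff]
  intro x _
  have h0 : (xa 0 : QuaternionGroup n) ∈ Subgroup.closure ({xa 0, a 1} : Set (QuaternionGroup n)) :=
    Subgroup.subset_closure (by simp)
  have h1 : (a 1 : QuaternionGroup n) ∈ Subgroup.closure ({xa 0, a 1} : Set (QuaternionGroup n)) :=
    Subgroup.subset_closure (by simp)
  have hr : ∀ i : ZMod (2 * n), (a i : QuaternionGroup n) ∈
      Subgroup.closure ({xa 0, a 1} : Set (QuaternionGroup n)) := by
    intro i
    have : (a i : QuaternionGroup n) = a 1 ^ i.val := by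
      rw [a_one_pow, ZMod.natCast_zmod_val]
    rw [this]; exact pow_mem h1 _
  cases x with
  | a i => exact hr i
  | xa i =>
    have : (xa i : QuaternionGroup n) = xa 0 * a i := by
      rw [xa_mul_a]; simp
    rw [this]; exact mul_mem h0 (hr i)

/-- stem extensions of generalized quaternion groups are trivial -/
theorem stem_ker_eq_bot_quaternion (n : ℕ) [NeZero n] {Q : Type v} [Group Q]
    (σ : Q →* QuaternionGroup n) (hσ : Cfsg.IsStemExtension σ) : σ.ker = ⊥ := by
  obtain ⟨hsurj, hcen, hcomm⟩ := hσ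
  obtain ⟨ξ, hξ⟩ := hsurj (a 1)
  obtain ⟨η, hη⟩ := hsurj (xa 0)
  have hnn : ((n : ZMod (2 * n)) + n) = 0 := by
    have : ((2 * n : ℕ) : ZMod (2 * n)) = 0 := ZMod.natCast_self _
    rw [← this]; push_cast; ring
  have hxinv : (xa 0 : QuaternionGroup n)⁻¹ = xa n := by
    rw [inv_eq_iff_mul_eq_one, xa_mul_xa]
    simp [hnn]
  -- ζ = η ξ η⁻¹ ξ is in the kernel
  obtain ⟨ζ, hζdef⟩ : ∃ ζ : Q, ζ = η * ξ * η⁻¹ * ξ := ⟨_, rfl⟩
  have hζker : ζ ∈ σ.ker := by
    rw [MonoidHom.mem_ker, hζdef]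
    simp only [map_mul, map_inv, hξ, hη, hxinv]
    simp only [xa_mul_a, xa_mul_xa, a_mul_a]
    rw [← a_zero]
    congr 1
    linear_combination hnn
  have hζc : ∀ g : Q, g * ζ = ζ * g := by
    have := hcen hζker
    rwa [Subgroup.mem_center_iff] at this
  have hrel : η * ξ * η⁻¹ = ζ * ξ⁻¹ := by rw [hζdef]; group
  have hkerle0 := ker_le_zpowers_of_normalizer σ ⟨hsurj, hcen, hcomm⟩ η ξ
    (by rw [hη, hξ]; exact quaternion_closure n)
  obtain ⟨c, hc⟩ : ∃ c : Q, c = η * ξ * η⁻¹ * ξ⁻¹ := ⟨_, rfl⟩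
  rw [← hc] at hkerle0
  have hc' : c = ζ * ξ⁻¹ * ξ⁻¹ := by rw [hc, hrel]
  -- ξ centralizes c
  have hξc : ξ * c * ξ⁻¹ = c := by
    rw [hc']
    calc ξ * (ζ * ξ⁻¹ * ξ⁻¹) * ξ⁻¹ = (ξ * ζ) * ξ⁻¹ * ξ⁻¹ * ξ⁻¹ := by group
      _ = (ζ * ξ) * ξ⁻¹ * ξ⁻¹ * ξ⁻¹ := by rw [hζc ξ]
      _ = ζ * ξ⁻¹ * ξ⁻¹ := by group
  -- η inverts c
  have hηc : η * c * η⁻¹ = c⁻¹ := by
    have e1 : η * ξ⁻¹ * η⁻¹ = ξ * ζ⁻¹ := by
      have : η * ξ⁻¹ * η⁻¹ = (η * ξ * η⁻¹)⁻¹ := by group
      rw [this, hrel]; group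
    have hζinv : ∀ g : Q, g * ζ⁻¹ = ζ⁻¹ * g := by
      intro g
      have := hζc g
      calc g * ζ⁻¹ = ζ⁻¹ * (ζ * g) * ζ⁻¹ := by group
        _ = ζ⁻¹ * (g * ζ) * ζ⁻¹ := by rw [this]
        _ = ζ⁻¹ * g := by group
    calc η * c * η⁻¹ = (η * ζ) * η⁻¹ * (η * ξ⁻¹ * η⁻¹) * (η * ξ⁻¹ * η⁻¹) := by rw [hc']; group
      _ = (ζ * η) * η⁻¹ * (ξ * ζ⁻¹) * (ξ * ζ⁻¹) := by rw [hζc η, e1]
      _ = ζ * (ξ * ζ⁻¹) * ξ * ζ⁻¹ := by group
      _ = ζ * (ζ⁻¹ * ξ) * ξ * ζ⁻¹ := by rw [hζinv ξ]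
      _ = c⁻¹ := by
          rw [hc']
          simp only [mul_inv_rev, inv_inv, mul_inv_cancel_left, mul_assoc]
  have hηN : η ∈ Subgroup.normalizer (Subgroup.zpowers c : Set Q) :=
    mem_normalizer_zpowers_of_conj_inv hηc
  have hξN : ξ ∈ Subgroup.normalizer (Subgroup.zpowers c : Set Q) := by
    rw [Subgroup.mem_normalizer_iff]
    intro x
    have hcomm' : ∀ k : ℤ, ξ * c ^ k * ξ⁻¹ = c ^ k := by
      intro k
      rw [← conj_zpow, hξc]
    constructor
    · intro hx
      obtain ⟨k, rfl⟩ := Subgroup.mem_zpowers_iff.1 hx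
      rw [hcomm' k]; exact hx
    · intro hx
      obtain ⟨k, hk⟩ := Subgroup.mem_zpowers_iff.1 hx
      have : x = c ^ k := by
        have h1 : x = ξ⁻¹ * (ξ * x * ξ⁻¹) * ξ := by group
        rw [h1, ← hk]
        have := hcomm' k
        calc ξ⁻¹ * c ^ k * ξ = ξ⁻¹ * (ξ * c ^ k * ξ⁻¹) * ξ := by rw [this]
          _ = c ^ k := by group
      rw [this]; exact Subgroup.zpow_mem_zpowers c k
  have hkerle : σ.ker ≤ Subgroup.zpowers c := hkerle0 hηN hξN
  -- c ^ n = 1
  have hcn : c ^ n = 1 := by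
    -- ζ' = ξ^{-n} η² in the kernel
    have hζ' : ξ⁻¹ ^ n * (η * η) ∈ σ.ker := by
      rw [MonoidHom.mem_ker]
      simp only [map_mul, map_inv, map_pow, hξ, hη]
      rw [inv_pow, a_one_pow, xa_mul_xa, inv_mul_eq_one]
      simp
    have hζ'c := hcen hζ'
    rw [Subgroup.mem_center_iff] at hζ'c
    -- η commutes with ξ^n
    have h1 : η * ξ ^ n * η⁻¹ = ξ ^ n := by
      obtain ⟨X, hX⟩ : ∃ X : Q, X = ξ⁻¹ ^ n * (η * η) := ⟨_, rfl⟩
      rw [← hX] at hζ'c
      have hξn : ξ ^ n = (η * η) * X⁻¹ := by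
        rw [hX, inv_pow]; group
      have hXinv : η * X⁻¹ * η⁻¹ = X⁻¹ := by
        have e := hζ'c η
        calc η * X⁻¹ * η⁻¹ = (η * X * η⁻¹)⁻¹ := by group
          _ = (X * η * η⁻¹)⁻¹ := by rw [e]
          _ = X⁻¹ := by group
      calc η * ξ ^ n * η⁻¹ = η * ((η * η) * X⁻¹) * η⁻¹ := by rw [← hξn]
        _ = (η * η) * (η * X⁻¹ * η⁻¹) := by group
        _ = (η * η) * X⁻¹ := by rw [hXinv]
        _ = ξ ^ n := hξn.symm
    have h2 : η * ξ ^ n * η⁻¹ = (ζ * ξ⁻¹) ^ n := by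
      rw [← hrel, conj_pow]
    have hcomm1 : Commute ζ ξ⁻¹ := by
      have := hζc ξ⁻¹
      exact this.symm
    rw [hcomm1.mul_pow] at h2
    rw [hc']
    have hcomm2 : Commute (ζ * ξ⁻¹) ξ⁻¹ := by
      have : Commute ζ ξ⁻¹ := hcomm1
      exact (this.mul_left (Commute.refl _))
    rw [hcomm2.mul_pow, hcomm1.mul_pow]
    have h3 : ζ ^ n * ξ⁻¹ ^ n = ξ ^ n := by rw [← h2, h1]
    rw [h3, inv_pow, mul_inv_cancel]
  -- conclude
  rw [eq_bot_iff]
  intro x hx
  obtain ⟨k, rfl⟩ := Subgroup.mem_zpowers_iff.1 (hkerle hx)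
  rw [Subgroup.mem_bot]
  have hσc : σ c = (a 1 : QuaternionGroup n) ^ (-2 : ℤ) := by
    rw [hc]
    simp only [map_mul, map_inv, hξ, hη, hxinv]
    have : (a 1 : QuaternionGroup n)⁻¹ = a (-1) := by
      rw [inv_eq_iff_mul_eq_one, a_mul_a]; simp
    rw [this]
    simp only [xa_mul_a, xa_mul_xa, a_mul_a]
    rw [zpow_neg, zpow_ofNat, a_one_pow, eq_inv_iff_mul_eq_one, a_mul_a, ← a_zero]
    congr 1
    push_cast
    linear_combination hnn
  have hk1 : (a 1 : QuaternionGroup n) ^ (-2 * k) = 1 := by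
    rw [zpow_mul, ← hσc, ← map_zpow]
    exact hx
  have hdvd : ((2 * n : ℕ) : ℤ) ∣ -2 * k := by
    rw [← orderOf_a_one (n := n)]
    exact orderOf_dvd_iff_zpow_eq_one.2 hk1
  have hnk : (n : ℤ) ∣ k := by
    obtain ⟨m, hm⟩ := hdvd
    refine ⟨-m, ?_⟩
    push_cast at hm
    linarith
  obtain ⟨m, rfl⟩ := hnk
  rw [zpow_mul, zpow_natCast, hcn, one_zpow]

end Quaternion

section Transfer

/-- transfer into a commutative subgroup: a central element of `Γ` lying in the commutator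
subgroup and in the commutative finite-index subgroup `H` is killed by the index. -/
theorem pow_index_eq_one_of_comm {Γ : Type*} [Group Γ] (H : Subgroup Γ) [H.FiniteIndex]
    (hH : ∀ x ∈ H, ∀ y ∈ H, x * y = y * x) (z : Γ) (hzc : z ∈ Subgroup.center Γ)
    (hz' : z ∈ commutator Γ) : z ^ H.index = 1 := by
  have hcH : commutator H = ⊥ := by
    rw [commutator_def, Subgroup.commutator_eq_bot_iff_le_centralizer]
    intro a _
    rw [Subgroup.mem_centralizer_iff]
    intro b _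
    exact Subtype.ext (hH b.1 b.2 a.1 a.2)
  have key : ∀ (k : ℕ) (g₀ : Γ), g₀⁻¹ * z ^ k * g₀ ∈ H → g₀⁻¹ * z ^ k * g₀ = z ^ k := by
    intro k g₀ _
    have hzk : z ^ k ∈ Subgroup.center Γ := pow_mem hzc k
    rw [Subgroup.mem_center_iff] at hzk
    rw [mul_assoc, ← hzk g₀, ← mul_assoc, inv_mul_cancel, one_mul]
  have h1 := MonoidHom.transfer_eq_pow (ϕ := (Abelianization.of : H →* Abelianization H)) z key
  have h2 : MonoidHom.transfer (Abelianization.of : H →* Abelianization H) z = 1 := by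
    have := Abelianization.commutator_subset_ker
      (MonoidHom.transfer (Abelianization.of : H →* Abelianization H)) hz'
    exact this
  rw [h2] at h1
  have h3 : (⟨z ^ H.index, MonoidHom.transfer_eq_pow_aux z key⟩ : H) ∈ commutator H := by
    rw [← Abelianization.ker_of, MonoidHom.mem_ker]
    exact h1.symm
  rw [hcH, Subgroup.mem_bot] at h3
  exact congrArg Subtype.val h3

end Transfer

section Pairing

/-- a biadditive pairing on a field, invariant under simultaneous scaling by nonzero squares,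
is trivial as soon as there are nonzero `s, t` with `s² + 1 = t²` and `s⁴ + s² + 1 ≠ 0`. -/
theorem pairing_trivial {K M : Type*} [Field K] [CommGroup M] (b : K → K → M)
    (h1 : ∀ x x' y, b (x + x') y = b x y * b x' y)
    (h2 : ∀ x y y', b x (y + y') = b x y * b x y')
    (hinv : ∀ a : K, a ≠ 0 → ∀ x y, b (a ^ 2 * x) (a ^ 2 * y) = b x y)
    {s t : K} (hs : s ≠ 0) (ht : t ≠ 0) (hst : s ^ 2 + 1 = t ^ 2)
    (hd : (s ^ 2) ^ 2 + s ^ 2 + 1 ≠ 0) : ∀ x y, b x y = 1 := by
  have b0 : ∀ y, b 0 y = 1 := by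
    intro y
    have := h1 0 0 y
    rw [add_zero] at this
    exact (mul_eq_left (a := b 0 y)).1 this.symm
  have bneg : ∀ x y, b (-x) y = (b x y)⁻¹ := by
    intro x y
    have := h1 x (-x) y
    rw [add_neg_cancel, b0] at this
    exact (inv_eq_of_mul_eq_one_right this.symm).symm
  have key : ∀ a : K, a ≠ 0 → ∀ x y, b x (a ^ 2 * y) = b ((a ^ 2)⁻¹ * x) y := by
    intro a ha x y
    have := hinv a ha ((a ^ 2)⁻¹ * x) y
    rw [← mul_assoc, mul_inv_cancel₀ (pow_ne_zero 2 ha), one_mul] at this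
    exact this
  set d : K := (s ^ 2)⁻¹ + 1 - (t ^ 2)⁻¹ with hddef
  have hd0 : d ≠ 0 := by
    have hs2 : s ^ 2 ≠ 0 := pow_ne_zero 2 hs
    have ht2 : t ^ 2 ≠ 0 := pow_ne_zero 2 ht
    have : d = ((s ^ 2) ^ 2 + s ^ 2 + 1) / (s ^ 2 * t ^ 2) := by
      rw [hddef]
      field_simp
      rw [← hst]; ring
    rw [this]
    exact div_ne_zero hd (mul_ne_zero hs2 ht2)
  have hzero : ∀ x y, b (d * x) y = 1 := by
    intro x y
    have e1 : b x (t ^ 2 * y) = b x (s ^ 2 * y) * b x y := by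
      rw [← hst, add_mul, one_mul, h2]
    rw [key t ht, key s hs] at e1
    have e2 : d * x = (s ^ 2)⁻¹ * x + x + -((t ^ 2)⁻¹ * x) := by rw [hddef]; ring
    rw [e2, h1, h1, bneg, e1]
    exact mul_inv_cancel _
  intro x y
  have := hzero (d⁻¹ * x) y
  rwa [← mul_assoc, mul_inv_cancel₀ hd0, one_mul] at this

end Pairing

end Cfsg.Agent.Lib.Helper65
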