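import Cfsg.Agent.Lib.Helper75.D4gDefs
import Cfsg.Agent.Lib.Helper36.ChevTwPerf
import Cfsg.Agent.S1025

/-! # D4G-COMM (helper65, leaf of helper75's D4g mini-hive for S2407)

`x_{-S}(u) x_{S+L}(t) = x_{S+L}(t) x_{-S}(u) x_14(Tr(t u))`. -/

set_option autoImplicit false

namespace Cfsg.Agent.Lib.Helper75.D4g

open Cfsg Cfsg.Lie Cfsg.Agent.Lib.Helper36

section stack
variable {K : Type*} [Field K] (φ : K →+* K)

/-- single-term commutator formula in `D₄` -/
theorem d4gcomm_single (r s c : ℕ) (e : ℤ) (hr : r < chevD4.nroots) (hs : s < chevD4.nroots) (hne1 : s ≠ r)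
    (hne2 : s ≠ chevD4.neg r) (hterms : chevD4.commTerms r s = [(c, e, 1, 1)]) (t u : K) :
    xg K s u * xg K r t = xg K r t * xg K s u * xg K c ((e : K) * (-t) * u) := by
  have hcf := Cfsg.Agent.S1025.result (F := K) chevD4 hD4 r s hr hs hne1 hne2 t u
  have hw : chevD4.wordMat K (chevD4.commWord K r s t u) = chevD4.x K c ((e : K) * (-t) * u) := by
    unfold ChevalleyDatum.commWord ChevalleyDatum.wordMat
    rw [hterms]
    simp
  rw [hw] at hcf
  apply Units.ext
  simp only [Units.val_mul, xGL_coe]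
  exact hcf

/-- commuting root elements in `D₄` -/
theorem d4gcomm_nil (r s : ℕ) (hr : r < chevD4.nroots) (hs : s < chevD4.nroots) (hne1 : s ≠ r)
    (hne2 : s ≠ chevD4.neg r) (hterms : chevD4.commTerms r s = []) (t u : K) :
    xg K r t * xg K s u = xg K s u * xg K r t :=
  (xGL_commute_of_nil chevD4 hD4 K r s hr hs hne1 hne2 hterms t u)

theorem d4gcomm_sw {G : Type*} [Group G] {X Y : G} (h : X * Y = Y * X) (W : G) : X * (Y * W) = Y * (X * W) := by
  rw [← mul_assoc, h, mul_assoc]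

/-- the abstract group computation -/
theorem d4gcomm_abs {G : Type*} [Group G] (A B C P Q R Z1 Z2 Z3 : G)
    (hAP : A * P = P * A * Z1) (hBQ : B * Q = Q * B * Z2) (hCR : C * R = R * C * Z3)
    (cAQ : A * Q = Q * A) (cAR : A * R = R * A) (cBP : B * P = P * B) (cBR : B * R = R * B)
    (cCP : C * P = P * C) (cCQ : C * Q = Q * C)
    (z1B : Z1 * B = B * Z1) (z1C : Z1 * C = C * Z1) (z1Q : Z1 * Q = Q * Z1) (z1R : Z1 * R = R * Z1)
    (z2C : Z2 * C = C * Z2) (z2R : Z2 * R = R * Z2) :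
    (A * B * C) * (P * Q * R) = (P * Q * R) * (A * B * C) * (Z1 * Z2 * Z3) := by
  have e1 : C * (P * Q * R) = (P * Q * R) * C * Z3 := by
    calc C * (P * Q * R) = (C * P) * Q * R := by group
      _ = P * (C * Q) * R := by rw [cCP]; group
      _ = P * Q * (C * R) := by rw [cCQ]; group
      _ = (P * Q * R) * C * Z3 := by rw [hCR]; group
  have e2 : B * (P * Q * R) = (P * Q * R) * B * Z2 := by
    calc B * (P * Q * R) = (B * P) * Q * R := by group
      _ = P * (B * Q) * R := by rw [cBP]; group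
      _ = P * Q * (B * Z2 * R) := by rw [hBQ]; group
      _ = P * Q * (B * (Z2 * R)) := by group
      _ = P * Q * (B * R) * Z2 := by rw [z2R]; group
      _ = (P * Q * R) * B * Z2 := by rw [cBR]; group
  have e3 : A * (P * Q * R) = (P * Q * R) * A * Z1 := by
    calc A * (P * Q * R) = (A * P) * Q * R := by group
      _ = P * A * (Z1 * Q) * R := by rw [hAP]; group
      _ = P * (A * Q) * (Z1 * R) := by rw [z1Q]; group
      _ = P * Q * (A * R) * Z1 := by rw [cAQ, z1R]; group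
      _ = (P * Q * R) * A * Z1 := by rw [cAR]; group
  calc (A * B * C) * (P * Q * R) = A * B * (C * (P * Q * R)) := by group
    _ = A * (B * (P * Q * R)) * C * Z3 := by rw [e1]; group
    _ = A * (P * Q * R) * B * (Z2 * C) * Z3 := by rw [e2]; group
    _ = (P * Q * R) * A * (Z1 * B) * C * Z2 * Z3 := by rw [e3, z2C]; group
    _ = (P * Q * R) * A * B * (Z1 * C) * Z2 * Z3 := by rw [z1B]; group
    _ = (P * Q * R) * (A * B * C) * (Z1 * Z2 * Z3) := by rw [z1C]; group

theorem d4gcomm_lt : (5 < chevD4.nroots ∧ 10 < chevD4.nroots ∧ 11 < chevD4.nroots) ∧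
    (19 < chevD4.nroots ∧ 16 < chevD4.nroots ∧ 15 < chevD4.nroots) ∧ 14 < chevD4.nroots := by decide

theorem d4gcomm_neg : chevD4.neg 19 = 4 ∧ chevD4.neg 16 = 7 ∧ chevD4.neg 15 = 8 ∧ chevD4.neg 14 = 9 ∧
    chevD4.neg 5 = 18 ∧ chevD4.neg 10 = 13 ∧ chevD4.neg 11 = 12 := by decide

theorem d4gcomm_t1 : chevD4.commTerms 19 5 = [(14, 1, 1, 1)] := by decide +kernel
theorem d4gcomm_t2 : chevD4.commTerms 16 10 = [(14, -1, 1, 1)] := by decide +kernel
theorem d4gcomm_t3 : chevD4.commTerms 15 11 = [(14, -1, 1, 1)] := by decide +kernel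
theorem d4gcomm_n1 : chevD4.commTerms 16 5 = [] := by decide +kernel
theorem d4gcomm_n2 : chevD4.commTerms 15 5 = [] := by decide +kernel
theorem d4gcomm_n3 : chevD4.commTerms 19 10 = [] := by decide +kernel
theorem d4gcomm_n4 : chevD4.commTerms 15 10 = [] := by decide +kernel
theorem d4gcomm_n5 : chevD4.commTerms 19 11 = [] := by decide +kernel
theorem d4gcomm_n6 : chevD4.commTerms 16 11 = [] := by decide +kernel
theorem d4gcomm_m1 : chevD4.commTerms 14 5 = [] := by decide +kernel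
theorem d4gcomm_m2 : chevD4.commTerms 14 10 = [] := by decide +kernel
theorem d4gcomm_m3 : chevD4.commTerms 14 11 = [] := by decide +kernel
theorem d4gcomm_m4 : chevD4.commTerms 14 19 = [] := by decide +kernel
theorem d4gcomm_m5 : chevD4.commTerms 14 16 = [] := by decide +kernel
theorem d4gcomm_m6 : chevD4.commTerms 14 15 = [] := by decide +kernel

/-- D4G-COMM: the commutator of `x_{S+L}(t)` and `x_{-S}(u)` is the long root element `x_14(Tr(t u))`
(`commTerms 19 5 = [(14,1,1,1)]`, `commTerms 16 10 = commTerms 15 11 = [(14,-1,1,1)]`, all other pairs among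
`19,16,15,5,10,11,14` commute). -/
theorem xSn_mul_xSL (t u : K) :
    xSn K φ u * xSL K φ t = xSL K φ t * xSn K φ u * xg K 14 (t * u + φ (t * u) + φ (φ (t * u))) := by
  obtain ⟨⟨l5, l10, l11⟩, ⟨l19, l16, l15⟩, l14⟩ := d4gcomm_lt
  obtain ⟨g19, g16, g15, g14, g5, g10, g11⟩ := d4gcomm_neg
  have hAP := d4gcomm_single (K := K) 19 5 14 1 l19 l5 (by decide) (by rw [g19]; decide) d4gcomm_t1 (-t) u
  have hBQ := d4gcomm_single (K := K) 16 10 14 (-1) l16 l10 (by decide) (by rw [g16]; decide) d4gcomm_t2 (φ t) (φ u)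
  have hCR := d4gcomm_single (K := K) 15 11 14 (-1) l15 l11 (by decide) (by rw [g15]; decide) d4gcomm_t3
    (φ (φ t)) (φ (φ u))
  have e1 : ((1 : ℤ) : K) * (- -t) * u = t * u := by push_cast; ring
  have e2 : (((-1 : ℤ)) : K) * (-(φ t)) * φ u = φ (t * u) := by rw [map_mul]; push_cast; ring
  have e3 : (((-1 : ℤ)) : K) * (-(φ (φ t))) * φ (φ u) = φ (φ (t * u)) := by rw [map_mul, map_mul]; push_cast; ring
  rw [e1] at hAP
  rw [e2] at hBQ
  rw [e3] at hCR
  have h := d4gcomm_abs (xg K 5 u) (xg K 10 (φ u)) (xg K 11 (φ (φ u))) (xg K 19 (-t)) (xg K 16 (φ t))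
    (xg K 15 (φ (φ t))) (xg K 14 (t * u)) (xg K 14 (φ (t * u))) (xg K 14 (φ (φ (t * u)))) hAP hBQ hCR
    (d4gcomm_nil (K := K) 16 5 l16 l5 (by decide) (by rw [g16]; decide) d4gcomm_n1 _ _).symm
    (d4gcomm_nil (K := K) 15 5 l15 l5 (by decide) (by rw [g15]; decide) d4gcomm_n2 _ _).symm
    (d4gcomm_nil (K := K) 19 10 l19 l10 (by decide) (by rw [g19]; decide) d4gcomm_n3 _ _).symm
    (d4gcomm_nil (K := K) 15 10 l15 l10 (by decide) (by rw [g15]; decide) d4gcomm_n4 _ _).symm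
    (d4gcomm_nil (K := K) 19 11 l19 l11 (by decide) (by rw [g19]; decide) d4gcomm_n5 _ _).symm
    (d4gcomm_nil (K := K) 16 11 l16 l11 (by decide) (by rw [g16]; decide) d4gcomm_n6 _ _).symm
    (d4gcomm_nil (K := K) 14 10 l14 l10 (by decide) (by rw [g14]; decide) d4gcomm_m2 _ _)
    (d4gcomm_nil (K := K) 14 11 l14 l11 (by decide) (by rw [g14]; decide) d4gcomm_m3 _ _)
    (d4gcomm_nil (K := K) 14 16 l14 l16 (by decide) (by rw [g14]; decide) d4gcomm_m5 _ _)
    (d4gcomm_nil (K := K) 14 15 l14 l15 (by decide) (by rw [g14]; decide) d4gcomm_m6 _ _)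
    (d4gcomm_nil (K := K) 14 11 l14 l11 (by decide) (by rw [g14]; decide) d4gcomm_m3 _ _)
    (d4gcomm_nil (K := K) 14 15 l14 l15 (by decide) (by rw [g14]; decide) d4gcomm_m6 _ _)
  have hz : xg K 14 (t * u) * xg K 14 (φ (t * u)) * xg K 14 (φ (φ (t * u))) =
      xg K 14 (t * u + φ (t * u) + φ (φ (t * u))) := by
    unfold xg
    rw [xGL_add, xGL_add]
  rw [hz] at h
  unfold xSn xSL
  exact h

end stack

end Cfsg.Agent.Lib.Helper75.D4g
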