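import Cfsg.Agent.Lib.Helper12.D3Defs
import Cfsg.Agent.Lib.Helper65.D4gCOMM

/-! # D3-CMA (helper65, leaf of helper12's D3 hive for S2183): conjugation of `V(t,0,c,0,0)` by `x_{-a}(λ φ c)` -/

set_option autoImplicit false
set_option linter.unusedSimpArgs false

namespace Cfsg.Agent.Lib.Helper12.D3

open Cfsg Cfsg.Lie Cfsg.Agent.Lib.Helper36 Cfsg.Agent.Lib.Helper75.D4g

section gen
variable {K : Type*} [Field K]

/-- decidable side condition: the root elements of `r`, `s` commute -/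
abbrev d3cma_nilOK (r s : ℕ) : Prop :=
  r < chevD4.nroots ∧ s < chevD4.nroots ∧ s ≠ r ∧ s ≠ chevD4.neg r ∧ chevD4.commTerms r s = []

/-- decidable side condition: `r + s = c` with structure constant `±1` -/
abbrev d3cma_oneOK (r s c : ℕ) : Prop :=
  r < chevD4.nroots ∧ s < chevD4.nroots ∧ s ≠ r ∧ s ≠ chevD4.neg r ∧
    (chevD4.commTerms r s = [(c, 1, 1, 1)] ∨ chevD4.commTerms r s = [(c, -1, 1, 1)])

theorem d3cma_comm (r s : ℕ) (h : d3cma_nilOK r s) (t u : K) : xg K r t * xg K s u = xg K s u * xg K r t :=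
  d4gcomm_nil r s h.1 h.2.1 h.2.2.1 h.2.2.2.1 h.2.2.2.2 t u

theorem d3cma_comm' (r s : ℕ) (h : d3cma_nilOK r s) (t u : K) (W : GL chevD4.Idx K) :
    xg K r t * (xg K s u * W) = xg K s u * (xg K r t * W) := by
  rw [← mul_assoc, d3cma_comm r s h, mul_assoc]

theorem d3cma_swap [CharP K 2] (r s c : ℕ) (h : d3cma_oneOK r s c) (t u : K) :
    xg K s u * xg K r t = xg K r t * (xg K s u * xg K c (t * u)) := by
  obtain ⟨hr, hs, hne1, hne2, ht | ht⟩ := h
  · have := d4gcomm_single (K := K) r s c 1 hr hs hne1 hne2 ht t u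
    have hc : (((1 : ℤ)) : K) * (-t) * u = t * u := by
      push_cast
      rw [CharTwo.neg_eq]
      ring
    rw [this, hc, mul_assoc]
  · have := d4gcomm_single (K := K) r s c (-1) hr hs hne1 hne2 ht t u
    have hc : (((-1 : ℤ)) : K) * (-t) * u = t * u := by
      push_cast
      ring
    rw [this, hc, mul_assoc]

theorem d3cma_swap' [CharP K 2] (r s c : ℕ) (h : d3cma_oneOK r s c) (t u : K) (W : GL chevD4.Idx K) :
    xg K s u * (xg K r t * W) = xg K r t * (xg K s u * (xg K c (t * u) * W)) := by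
  rw [← mul_assoc, d3cma_swap r s c h, mul_assoc, mul_assoc]

theorem d3cma_merge (r : ℕ) (t u : K) : xg K r t * xg K r u = xg K r (t + u) := by
  unfold xg
  rw [xGL_add]

theorem d3cma_merge' (r : ℕ) (t u : K) (W : GL chevD4.Idx K) : xg K r t * (xg K r u * W) = xg K r (t + u) * W := by
  rw [← mul_assoc, d3cma_merge]

theorem d3cma_cj0 (r s : ℕ) (h : d3cma_nilOK r s) (t u : K) : MulAut.conj (xg K s u) (xg K r t) = xg K r t := by
  rw [MulAut.conj_apply, ← d3cma_comm r s h t u, mul_assoc, mul_inv_cancel, mul_one]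

theorem d3cma_cj1 [CharP K 2] (r s c : ℕ) (h : d3cma_oneOK r s c) (h' : d3cma_nilOK c s) (t u : K) :
    MulAut.conj (xg K s u) (xg K r t) = xg K r t * xg K c (t * u) := by
  rw [MulAut.conj_apply, d3cma_swap r s c h t u, ← d3cma_comm c s h' (t * u) u, mul_assoc, mul_assoc, mul_inv_cancel,
    mul_one]

end gen

section inst
variable (K : Type*) [Field K]

theorem d3cma_c11_14 (t u : K) : MulAut.conj (xg K 11 u) (xg K 14 t) = xg K 14 t :=
  d3cma_cj0 14 11 (by decide +kernel) t u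

theorem d3cma_c11_21 (t u : K) : MulAut.conj (xg K 11 u) (xg K 21 t) = xg K 21 t :=
  d3cma_cj0 21 11 (by decide +kernel) t u

theorem d3cma_c11_17 [CharP K 2] (t u : K) : MulAut.conj (xg K 11 u) (xg K 17 t) = xg K 17 t * xg K 16 (t * u) :=
  d3cma_cj1 17 11 16 (by decide +kernel) (by decide +kernel) t u

theorem d3cma_c11_20 [CharP K 2] (t u : K) : MulAut.conj (xg K 11 u) (xg K 20 t) = xg K 20 t * xg K 19 (t * u) :=
  d3cma_cj1 20 11 19 (by decide +kernel) (by decide +kernel) t u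

theorem d3cma_c10_14 (t u : K) : MulAut.conj (xg K 10 u) (xg K 14 t) = xg K 14 t :=
  d3cma_cj0 14 10 (by decide +kernel) t u

theorem d3cma_c10_21 [CharP K 2] (t u : K) : MulAut.conj (xg K 10 u) (xg K 21 t) = xg K 21 t * xg K 19 (t * u) :=
  d3cma_cj1 21 10 19 (by decide +kernel) (by decide +kernel) t u

theorem d3cma_c10_17 [CharP K 2] (t u : K) : MulAut.conj (xg K 10 u) (xg K 17 t) = xg K 17 t * xg K 15 (t * u) :=
  d3cma_cj1 17 10 15 (by decide +kernel) (by decide +kernel) t u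

theorem d3cma_c10_16 [CharP K 2] (t u : K) : MulAut.conj (xg K 10 u) (xg K 16 t) = xg K 16 t * xg K 14 (t * u) :=
  d3cma_cj1 16 10 14 (by decide +kernel) (by decide +kernel) t u

theorem d3cma_c10_20 (t u : K) : MulAut.conj (xg K 10 u) (xg K 20 t) = xg K 20 t :=
  d3cma_cj0 20 10 (by decide +kernel) t u

theorem d3cma_c10_19 (t u : K) : MulAut.conj (xg K 10 u) (xg K 19 t) = xg K 19 t :=
  d3cma_cj0 19 10 (by decide +kernel) t u

theorem d3cma_c5_14 (t u : K) : MulAut.conj (xg K 5 u) (xg K 14 t) = xg K 14 t :=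
  d3cma_cj0 14 5 (by decide +kernel) t u

theorem d3cma_c5_21 [CharP K 2] (t u : K) : MulAut.conj (xg K 5 u) (xg K 21 t) = xg K 21 t * xg K 16 (t * u) :=
  d3cma_cj1 21 5 16 (by decide +kernel) (by decide +kernel) t u

theorem d3cma_c5_19 [CharP K 2] (t u : K) : MulAut.conj (xg K 5 u) (xg K 19 t) = xg K 19 t * xg K 14 (t * u) :=
  d3cma_cj1 19 5 14 (by decide +kernel) (by decide +kernel) t u

theorem d3cma_c5_17 (t u : K) : MulAut.conj (xg K 5 u) (xg K 17 t) = xg K 17 t :=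
  d3cma_cj0 17 5 (by decide +kernel) t u

theorem d3cma_c5_15 (t u : K) : MulAut.conj (xg K 5 u) (xg K 15 t) = xg K 15 t :=
  d3cma_cj0 15 5 (by decide +kernel) t u

theorem d3cma_c5_16 (t u : K) : MulAut.conj (xg K 5 u) (xg K 16 t) = xg K 16 t :=
  d3cma_cj0 16 5 (by decide +kernel) t u

theorem d3cma_c5_20 [CharP K 2] (t u : K) : MulAut.conj (xg K 5 u) (xg K 20 t) = xg K 20 t * xg K 15 (t * u) :=
  d3cma_cj1 20 5 15 (by decide +kernel) (by decide +kernel) t u

theorem d3cma_s19_14 (t u : K) : xg K 19 t * xg K 14 u = xg K 14 u * xg K 19 t :=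
  d3cma_comm 19 14 (by decide +kernel) t u

theorem d3cma_s19_14' (t u : K) (W : GL chevD4.Idx K) : xg K 19 t * (xg K 14 u * W) = xg K 14 u * (xg K 19 t * W) :=
  d3cma_comm' 19 14 (by decide +kernel) t u W

theorem d3cma_s16_14 (t u : K) : xg K 16 t * xg K 14 u = xg K 14 u * xg K 16 t :=
  d3cma_comm 16 14 (by decide +kernel) t u

theorem d3cma_s16_14' (t u : K) (W : GL chevD4.Idx K) : xg K 16 t * (xg K 14 u * W) = xg K 14 u * (xg K 16 t * W) :=
  d3cma_comm' 16 14 (by decide +kernel) t u W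

theorem d3cma_s16_19 (t u : K) : xg K 16 t * xg K 19 u = xg K 19 u * xg K 16 t :=
  d3cma_comm 16 19 (by decide +kernel) t u

theorem d3cma_s16_19' (t u : K) (W : GL chevD4.Idx K) : xg K 16 t * (xg K 19 u * W) = xg K 19 u * (xg K 16 t * W) :=
  d3cma_comm' 16 19 (by decide +kernel) t u W

theorem d3cma_s15_14 (t u : K) : xg K 15 t * xg K 14 u = xg K 14 u * xg K 15 t :=
  d3cma_comm 15 14 (by decide +kernel) t u

theorem d3cma_s15_14' (t u : K) (W : GL chevD4.Idx K) : xg K 15 t * (xg K 14 u * W) = xg K 14 u * (xg K 15 t * W) :=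
  d3cma_comm' 15 14 (by decide +kernel) t u W

theorem d3cma_s15_19 (t u : K) : xg K 15 t * xg K 19 u = xg K 19 u * xg K 15 t :=
  d3cma_comm 15 19 (by decide +kernel) t u

theorem d3cma_s15_19' (t u : K) (W : GL chevD4.Idx K) : xg K 15 t * (xg K 19 u * W) = xg K 19 u * (xg K 15 t * W) :=
  d3cma_comm' 15 19 (by decide +kernel) t u W

theorem d3cma_s15_16 (t u : K) : xg K 15 t * xg K 16 u = xg K 16 u * xg K 15 t :=
  d3cma_comm 15 16 (by decide +kernel) t u

theorem d3cma_s15_16' (t u : K) (W : GL chevD4.Idx K) : xg K 15 t * (xg K 16 u * W) = xg K 16 u * (xg K 15 t * W) :=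
  d3cma_comm' 15 16 (by decide +kernel) t u W

theorem d3cma_s21_14 (t u : K) : xg K 21 t * xg K 14 u = xg K 14 u * xg K 21 t :=
  d3cma_comm 21 14 (by decide +kernel) t u

theorem d3cma_s21_14' (t u : K) (W : GL chevD4.Idx K) : xg K 21 t * (xg K 14 u * W) = xg K 14 u * (xg K 21 t * W) :=
  d3cma_comm' 21 14 (by decide +kernel) t u W

theorem d3cma_s21_19 (t u : K) : xg K 21 t * xg K 19 u = xg K 19 u * xg K 21 t :=
  d3cma_comm 21 19 (by decide +kernel) t u

theorem d3cma_s21_19' (t u : K) (W : GL chevD4.Idx K) : xg K 21 t * (xg K 19 u * W) = xg K 19 u * (xg K 21 t * W) :=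
  d3cma_comm' 21 19 (by decide +kernel) t u W

theorem d3cma_s21_16 (t u : K) : xg K 21 t * xg K 16 u = xg K 16 u * xg K 21 t :=
  d3cma_comm 21 16 (by decide +kernel) t u

theorem d3cma_s21_16' (t u : K) (W : GL chevD4.Idx K) : xg K 21 t * (xg K 16 u * W) = xg K 16 u * (xg K 21 t * W) :=
  d3cma_comm' 21 16 (by decide +kernel) t u W

theorem d3cma_s21_15 [CharP K 2] (t u : K) : xg K 21 u * xg K 15 t = xg K 15 t * (xg K 21 u * xg K 23 (t * u)) :=
  d3cma_swap 15 21 23 (by decide +kernel) t u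

theorem d3cma_s21_15' [CharP K 2] (t u : K) (W : GL chevD4.Idx K) :
    xg K 21 u * (xg K 15 t * W) = xg K 15 t * (xg K 21 u * (xg K 23 (t * u) * W)) :=
  d3cma_swap' 15 21 23 (by decide +kernel) t u W

theorem d3cma_s17_14 (t u : K) : xg K 17 t * xg K 14 u = xg K 14 u * xg K 17 t :=
  d3cma_comm 17 14 (by decide +kernel) t u

theorem d3cma_s17_14' (t u : K) (W : GL chevD4.Idx K) : xg K 17 t * (xg K 14 u * W) = xg K 14 u * (xg K 17 t * W) :=
  d3cma_comm' 17 14 (by decide +kernel) t u W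

theorem d3cma_s17_19 [CharP K 2] (t u : K) : xg K 17 u * xg K 19 t = xg K 19 t * (xg K 17 u * xg K 23 (t * u)) :=
  d3cma_swap 19 17 23 (by decide +kernel) t u

theorem d3cma_s17_19' [CharP K 2] (t u : K) (W : GL chevD4.Idx K) :
    xg K 17 u * (xg K 19 t * W) = xg K 19 t * (xg K 17 u * (xg K 23 (t * u) * W)) :=
  d3cma_swap' 19 17 23 (by decide +kernel) t u W

theorem d3cma_s17_16 (t u : K) : xg K 17 t * xg K 16 u = xg K 16 u * xg K 17 t :=
  d3cma_comm 17 16 (by decide +kernel) t u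

theorem d3cma_s17_16' (t u : K) (W : GL chevD4.Idx K) : xg K 17 t * (xg K 16 u * W) = xg K 16 u * (xg K 17 t * W) :=
  d3cma_comm' 17 16 (by decide +kernel) t u W

theorem d3cma_s17_15 (t u : K) : xg K 17 t * xg K 15 u = xg K 15 u * xg K 17 t :=
  d3cma_comm 17 15 (by decide +kernel) t u

theorem d3cma_s17_15' (t u : K) (W : GL chevD4.Idx K) : xg K 17 t * (xg K 15 u * W) = xg K 15 u * (xg K 17 t * W) :=
  d3cma_comm' 17 15 (by decide +kernel) t u W

theorem d3cma_s17_21 (t u : K) : xg K 17 t * xg K 21 u = xg K 21 u * xg K 17 t :=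
  d3cma_comm 17 21 (by decide +kernel) t u

theorem d3cma_s17_21' (t u : K) (W : GL chevD4.Idx K) : xg K 17 t * (xg K 21 u * W) = xg K 21 u * (xg K 17 t * W) :=
  d3cma_comm' 17 21 (by decide +kernel) t u W

theorem d3cma_s20_14 (t u : K) : xg K 20 t * xg K 14 u = xg K 14 u * xg K 20 t :=
  d3cma_comm 20 14 (by decide +kernel) t u

theorem d3cma_s20_14' (t u : K) (W : GL chevD4.Idx K) : xg K 20 t * (xg K 14 u * W) = xg K 14 u * (xg K 20 t * W) :=
  d3cma_comm' 20 14 (by decide +kernel) t u W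

theorem d3cma_s20_19 (t u : K) : xg K 20 t * xg K 19 u = xg K 19 u * xg K 20 t :=
  d3cma_comm 20 19 (by decide +kernel) t u

theorem d3cma_s20_19' (t u : K) (W : GL chevD4.Idx K) : xg K 20 t * (xg K 19 u * W) = xg K 19 u * (xg K 20 t * W) :=
  d3cma_comm' 20 19 (by decide +kernel) t u W

theorem d3cma_s20_16 [CharP K 2] (t u : K) : xg K 20 u * xg K 16 t = xg K 16 t * (xg K 20 u * xg K 23 (t * u)) :=
  d3cma_swap 16 20 23 (by decide +kernel) t u

theorem d3cma_s20_16' [CharP K 2] (t u : K) (W : GL chevD4.Idx K) :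
    xg K 20 u * (xg K 16 t * W) = xg K 16 t * (xg K 20 u * (xg K 23 (t * u) * W)) :=
  d3cma_swap' 16 20 23 (by decide +kernel) t u W

theorem d3cma_s20_15 (t u : K) : xg K 20 t * xg K 15 u = xg K 15 u * xg K 20 t :=
  d3cma_comm 20 15 (by decide +kernel) t u

theorem d3cma_s20_15' (t u : K) (W : GL chevD4.Idx K) : xg K 20 t * (xg K 15 u * W) = xg K 15 u * (xg K 20 t * W) :=
  d3cma_comm' 20 15 (by decide +kernel) t u W

theorem d3cma_s20_21 (t u : K) : xg K 20 t * xg K 21 u = xg K 21 u * xg K 20 t :=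
  d3cma_comm 20 21 (by decide +kernel) t u

theorem d3cma_s20_21' (t u : K) (W : GL chevD4.Idx K) : xg K 20 t * (xg K 21 u * W) = xg K 21 u * (xg K 20 t * W) :=
  d3cma_comm' 20 21 (by decide +kernel) t u W

theorem d3cma_s20_17 (t u : K) : xg K 20 t * xg K 17 u = xg K 17 u * xg K 20 t :=
  d3cma_comm 20 17 (by decide +kernel) t u

theorem d3cma_s20_17' (t u : K) (W : GL chevD4.Idx K) : xg K 20 t * (xg K 17 u * W) = xg K 17 u * (xg K 20 t * W) :=
  d3cma_comm' 20 17 (by decide +kernel) t u W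

theorem d3cma_s23_14 (t u : K) : xg K 23 t * xg K 14 u = xg K 14 u * xg K 23 t :=
  d3cma_comm 23 14 (by decide +kernel) t u

theorem d3cma_s23_14' (t u : K) (W : GL chevD4.Idx K) : xg K 23 t * (xg K 14 u * W) = xg K 14 u * (xg K 23 t * W) :=
  d3cma_comm' 23 14 (by decide +kernel) t u W

theorem d3cma_s23_19 (t u : K) : xg K 23 t * xg K 19 u = xg K 19 u * xg K 23 t :=
  d3cma_comm 23 19 (by decide +kernel) t u

theorem d3cma_s23_19' (t u : K) (W : GL chevD4.Idx K) : xg K 23 t * (xg K 19 u * W) = xg K 19 u * (xg K 23 t * W) :=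
  d3cma_comm' 23 19 (by decide +kernel) t u W

theorem d3cma_s23_16 (t u : K) : xg K 23 t * xg K 16 u = xg K 16 u * xg K 23 t :=
  d3cma_comm 23 16 (by decide +kernel) t u

theorem d3cma_s23_16' (t u : K) (W : GL chevD4.Idx K) : xg K 23 t * (xg K 16 u * W) = xg K 16 u * (xg K 23 t * W) :=
  d3cma_comm' 23 16 (by decide +kernel) t u W

theorem d3cma_s23_15 (t u : K) : xg K 23 t * xg K 15 u = xg K 15 u * xg K 23 t :=
  d3cma_comm 23 15 (by decide +kernel) t u

theorem d3cma_s23_15' (t u : K) (W : GL chevD4.Idx K) : xg K 23 t * (xg K 15 u * W) = xg K 15 u * (xg K 23 t * W) :=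
  d3cma_comm' 23 15 (by decide +kernel) t u W

theorem d3cma_s23_21 (t u : K) : xg K 23 t * xg K 21 u = xg K 21 u * xg K 23 t :=
  d3cma_comm 23 21 (by decide +kernel) t u

theorem d3cma_s23_21' (t u : K) (W : GL chevD4.Idx K) : xg K 23 t * (xg K 21 u * W) = xg K 21 u * (xg K 23 t * W) :=
  d3cma_comm' 23 21 (by decide +kernel) t u W

theorem d3cma_s23_17 (t u : K) : xg K 23 t * xg K 17 u = xg K 17 u * xg K 23 t :=
  d3cma_comm 23 17 (by decide +kernel) t u

theorem d3cma_s23_17' (t u : K) (W : GL chevD4.Idx K) : xg K 23 t * (xg K 17 u * W) = xg K 17 u * (xg K 23 t * W) :=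
  d3cma_comm' 23 17 (by decide +kernel) t u W

theorem d3cma_s23_20 (t u : K) : xg K 23 t * xg K 20 u = xg K 20 u * xg K 23 t :=
  d3cma_comm 23 20 (by decide +kernel) t u

theorem d3cma_s23_20' (t u : K) (W : GL chevD4.Idx K) : xg K 23 t * (xg K 20 u * W) = xg K 20 u * (xg K 23 t * W) :=
  d3cma_comm' 23 20 (by decide +kernel) t u W

end inst

section main
variable (K : Type*) [Field K] (φ : K →+* K)

theorem d3cma_zero (r : ℕ) : xg K r 0 = 1 := xGL_zero chevD4 hD4 K r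

/-- D3-CMA : conjugation by `x_{-a}(λ φ c)` -/
theorem conj_ma [CharP K 2] (h3 : ∀ x : K, φ (φ (φ x)) = x) (lam t c : K) (hl : φ lam = lam) :
    xma K φ (lam * φ c) * V K φ t 0 c 0 0 * (xma K φ (lam * φ c))⁻¹ =
      V K φ (t + lam ^ 2 * nm K φ c) 0 c 0 (lam * nm K φ c) := by
  have e1 : φ (lam * φ c) = lam * φ (φ c) := by rw [map_mul, hl]
  have e2 : φ (lam * φ (φ c)) = lam * c := by rw [map_mul, hl, h3]
  rw [← MulAut.conj_apply]
  unfold xma V T xab x2ab
  rw [e1, e2]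
  simp only [map_zero, d3cma_zero, mul_one]
  simp only [map_mul, MulAut.mul_apply, d3cma_c11_14, d3cma_c11_21, d3cma_c11_17, d3cma_c11_20, d3cma_c10_14,
    d3cma_c10_21, d3cma_c10_17, d3cma_c10_16, d3cma_c10_20, d3cma_c10_19, d3cma_c5_14, d3cma_c5_21, d3cma_c5_19,
    d3cma_c5_17, d3cma_c5_15, d3cma_c5_16, d3cma_c5_20]
  simp only [mul_assoc]
  simp only [d3cma_s19_14, d3cma_s19_14', d3cma_s16_14, d3cma_s16_14', d3cma_s16_19, d3cma_s16_19', d3cma_s15_14, d3cma_s15_14', d3cma_s15_19, d3cma_s15_19', d3cma_s15_16, d3cma_s15_16', d3cma_s21_14, d3cma_s21_14', d3cma_s21_19, d3cma_s21_19', d3cma_s21_16, d3cma_s21_16', d3cma_s21_15, d3cma_s21_15', d3cma_s17_14, d3cma_s17_14', d3cma_s17_19, d3cma_s17_19', d3cma_s17_16, d3cma_s17_16', d3cma_s17_15, d3cma_s17_15', d3cma_s17_21, d3cma_s17_21', d3cma_s20_14, d3cma_s20_14', d3cma_s20_19, d3cma_s20_19', d3cma_s20_16, d3cma_s20_16', d3cma_s20_15, d3cma_s20_15', d3cma_s20_21, d3cma_s20_21', d3cma_s20_17,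 d3cma_s20_17', d3cma_s23_14, d3cma_s23_14', d3cma_s23_19, d3cma_s23_19', d3cma_s23_16, d3cma_s23_16', d3cma_s23_15, d3cma_s23_15', d3cma_s23_21, d3cma_s23_21', d3cma_s23_17, d3cma_s23_17', d3cma_s23_20, d3cma_s23_20', d3cma_merge, d3cma_merge']
  have h2 : (2 : K) = 0 := CharTwo.two_eq_zero
  have a14 : t + (c * (lam * (φ (φ c) * (lam * φ c))) +
      (φ c * (lam * (c * (lam * φ (φ c)))) + φ (φ c) * (lam * (c * (lam * φ c))))) = t + lam ^ 2 * nm K φ c := by
    unfold nm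
    linear_combination (lam ^ 2 * c * φ c * φ (φ c)) * h2
  have a19 : c * (lam * φ (φ c)) + φ (φ c) * (lam * c) = 0 := by
    linear_combination (lam * c * φ (φ c)) * h2
  have a16 : c * (lam * φ c) + φ c * (lam * c) = 0 := by
    linear_combination (lam * c * φ c) * h2
  have a15 : φ c * (lam * φ (φ c)) + φ (φ c) * (lam * φ c) = 0 := by
    linear_combination (lam * φ c * φ (φ c)) * h2
  have a23 : (φ c * (lam * φ (φ c)) + φ (φ c) * (lam * φ c)) * c + φ (φ c) * (lam * c) * φ c = lam * nm K φ c := by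
    unfold nm
    linear_combination (lam * c * φ c * φ (φ c)) * h2
  rw [a14, a23, a19, a16, a15]
  simp only [d3cma_zero, one_mul]

end main

end Cfsg.Agent.Lib.Helper12.D3
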