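import Mathlib
import Cfsg.Prelude.Def_ClassicalGeometry
import Cfsg.Prelude.Def_GeometricClasses
import Cfsg.Agent.Lib.Helper5.HyDefs
import Cfsg.Agent.Lib.Helper8.OrthForms

/-! # Definitions for the S5988 hive "Qe" (helper65): `Ω⁺_{2d}(q)`, ALL `q`, on elliptic `m`-spaces.

Abstract layer: `V` finite-dimensional over a finite field `F` of ANY characteristic,
`Q : QuadraticForm F V`, `pol Q` its polar form as a bilinear map.  Vocabulary reused:
`Cfsg.Agent.Lib.Helper99.Nd`, `Cfsg.Agent.Lib.Helper2.BG.Inv`, `Cfsg.Agent.Lib.Helper48.Ti.Isom`,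
`Cfsg.Agent.Lib.Helper5.Hy.Orth`, `Cfsg.Agent.Lib.Helper5.Hy.Fix`, `Cfsg.Agent.Lib.Helper5.Hy.Plus`. -/

set_option autoImplicit false

namespace Cfsg.Agent.Lib.Helper65.Qe

open Module
open Cfsg.Agent.Lib.Helper2.BG Cfsg.Agent.Lib.Helper99 Cfsg.Agent.Lib.Helper48.Ti
open Cfsg.Agent.Lib.Helper5.Hy

section defs

variable {F V : Type*} [Field F] [AddCommGroup V] [Module F V]

/-- the polar form of `Q` as a bilinear map -/
abbrev pol (Q : QuadraticForm F V) : V →ₗ[F] V →ₗ[F] F := QuadraticMap.polarBilin Q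

/-- `W` is of plus type for the quadratic form `Q`: it contains a totally singular subspace of half
its dimension -/
def PlusQ (Q : QuadraticForm F V) (W : Submodule F V) : Prop :=
  ∃ U : Submodule F V, U ≤ W ∧ (∀ u ∈ U, Q u = 0) ∧ 2 * finrank F U = finrank F W

/-- isometry of a quadratic form -/
def IsomQ (Q : QuadraticForm F V) (f : Module.End F V) : Prop := ∀ v, Q (f v) = Q v

/-- there is an `f`-invariant nondegenerate subspace of dimension `m` whose type is `b`
(`b = True`: plus type / hyperbolic, `b = False`: minus type / elliptic) -/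
def FixesQ (Q : QuadraticForm F V) (f : Module.End F V) (m : ℕ) (b : Prop) : Prop :=
  ∃ W : Submodule F V, Inv f W ∧ Nd (pol Q) W ∧ finrank F W = m ∧ (PlusQ Q W ↔ b)

/-- the type of a nondegenerate invariant subspace of dimension `a` without fixed vectors, for an isometry
of odd prime order `r ≠ p` (`True` = plus): `q^(a/2) ≡ 1 (mod r)` -/
def tp (F : Type*) [Fintype F] (r : ℕ) (a : ℕ) : Prop :=
  ((Fintype.card F : ℕ) : ZMod r) ^ (a / 2) = 1

end defs

section concrete

variable (d : ℕ) (F : Type*) [Field F]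

/-- the ambient space of `quadFormPlus d` -/
abbrev VP := Fin d ⊕ Fin d → F

/-- square matrices on `Fin d ⊕ Fin d` -/
abbrev MP := Matrix (Fin d ⊕ Fin d) (Fin d ⊕ Fin d) F

/-- `quadFormPlus d` as a quadratic form (`Cfsg.Agent.Lib.Helper8.plusForm`) -/
noncomputable abbrev QP : QuadraticForm F (VP d F) := Cfsg.Agent.Lib.Helper8.plusForm d F

/-- the alternating matrix `Σ_j (E_{2j,2j+1} - E_{2j+1,2j})` of rank `2 ⌊d/2⌋` -/
def siegelS : Matrix (Fin d) (Fin d) F := fun a b =>
  if (a : ℕ) + 1 = (b : ℕ) ∧ (a : ℕ) % 2 = 0 then 1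
  else if (b : ℕ) + 1 = (a : ℕ) ∧ (b : ℕ) % 2 = 0 then -1 else 0

/-- the Siegel element `[[1, S], [0, 1]]` -/
def siegelMat : MP d F := Matrix.fromBlocks 1 (siegelS d F) 0 1

/-- the totally singular subspace `F^d ⊕ 0` -/
def Esub : Submodule F (VP d F) where
  carrier := {v | ∀ j : Fin d, v (Sum.inr j) = 0}
  add_mem' := by
    intro a b ha hb j
    simp only [Set.mem_setOf_eq] at ha hb
    simp [ha j, hb j]
  zero_mem' := by intro j; rfl
  smul_mem' := by
    intro c a ha j
    simp only [Set.mem_setOf_eq] at ha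
    simp [ha j]

end concrete

end Cfsg.Agent.Lib.Helper65.Qe
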