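import Mathlib
import Cfsg.Agent.Lib.Helper65.QeDefs
import Cfsg.Agent.Lib.Helper43.QeT1
import Cfsg.Agent.Lib.Helper76.QeT2
import Cfsg.Agent.Lib.Helper83.QeT3
import Cfsg.Agent.Lib.Helper27.QeT5
import Cfsg.Agent.Lib.Helper68.QeB1
import Cfsg.Agent.Lib.Helper33.HyT1
import Cfsg.Agent.Lib.Helper76.HyT2
import Cfsg.Agent.Lib.Helper83.HyT3
import Cfsg.Agent.Lib.Helper27.HyT5
import Cfsg.Agent.Lib.Helper68.HyB1
import Cfsg.Agent.Lib.Helper55.HySUP

/-! # Qe hive (S5988, helper65): the ALL-`q` layer (GLUE): Hy leaves for `q` odd, char-2 twins for `q` even -/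

set_option autoImplicit false

namespace Cfsg.Agent.Lib.Helper65.Qe

open Polynomial Module
open Cfsg.Agent.Lib.Helper2.BG Cfsg.Agent.Lib.Helper99 Cfsg.Agent.Lib.Helper48.Ti
open Cfsg.Agent.Lib.Helper5.Hy

section abstract

variable {F V : Type*} [Field F] [AddCommGroup V] [Module F V]
variable {Q : QuadraticForm F V}

theorem glue_pol_apply (u v : V) : pol Q u v = QuadraticMap.polar Q u v := rfl

theorem glue_pol_symm (u v : V) : pol Q u v = pol Q v u := by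
  rw [glue_pol_apply, glue_pol_apply, QuadraticMap.polar_comm]

theorem glue_pol_self (v : V) : pol Q v v = 2 * Q v := by
  rw [glue_pol_apply, QuadraticMap.polar_self]
  simp

theorem glue_pol_alt (h2 : (2 : F) = 0) (v : V) : pol Q v v = 0 := by
  rw [glue_pol_self, h2, zero_mul]

theorem glue_Q_eq (h2 : (2 : F) ≠ 0) (v : V) : Q v = (2 : F)⁻¹ * pol Q v v := by
  rw [glue_pol_self, ← mul_assoc, inv_mul_cancel₀ h2, one_mul]

theorem glue_Q_add (u v : V) : Q (u + v) = Q u + Q v + pol Q u v := by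
  rw [glue_pol_apply, QuadraticMap.polar]
  ring

theorem glue_sing_iff_ti (h2 : (2 : F) ≠ 0) (U : Submodule F V) :
    (∀ u ∈ U, Q u = 0) ↔ TI (pol Q) U := by
  constructor
  · intro h u hu v hv
    have h1 := glue_Q_add (Q := Q) u v
    rw [h u hu, h v hv, h (u + v) (U.add_mem hu hv)] at h1
    simpa using h1.symm
  · intro h u hu
    rw [glue_Q_eq h2, h u hu u hu, mul_zero]

theorem glue_sing_ti {U : Submodule F V} (h : ∀ u ∈ U, Q u = 0) : TI (pol Q) U := by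
  intro u hu v hv
  have h1 := glue_Q_add (Q := Q) u v
  rw [h u hu, h v hv, h (u + v) (U.add_mem hu hv)] at h1
  simpa using h1.symm

theorem glue_plusQ_iff (h2 : (2 : F) ≠ 0) (W : Submodule F V) :
    PlusQ Q W ↔ Plus (pol Q) W := by
  constructor
  · rintro ⟨U, hUW, hU, hd⟩
    exact ⟨U, hUW, (glue_sing_iff_ti h2 U).1 hU, hd⟩
  · rintro ⟨U, hUW, hU, hd⟩
    exact ⟨U, hUW, (glue_sing_iff_ti h2 U).2 hU, hd⟩

theorem glue_isom {f : Module.End F V} (hf : IsomQ Q f) : Isom (pol Q) f := by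
  intro u v
  rw [glue_pol_apply, glue_pol_apply, QuadraticMap.polar, QuadraticMap.polar, ← map_add, hf, hf, hf]

theorem glue_isomQ (h2 : (2 : F) ≠ 0) {f : Module.End F V} (hf : Isom (pol Q) f) : IsomQ Q f := by
  intro v
  rw [glue_Q_eq h2, glue_Q_eq h2 v, hf]

end abstract

section layer

variable {F V : Type*} [Field F] [Fintype F] [AddCommGroup V] [Module F V] [FiniteDimensional F V]
variable {Q : QuadraticForm F V}

/-- GLUE: type of an orthogonal sum, all `q` -/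
theorem plusQ_sup {W₀ W₁ : Submodule F V} (h₀ : Nd (pol Q) W₀) (h₁ : Nd (pol Q) W₁)
    (ho : Orth (pol Q) W₀ W₁) (he₀ : Even (finrank F W₀)) (he₁ : Even (finrank F W₁)) :
    PlusQ Q (W₀ ⊔ W₁) ↔ (PlusQ Q W₀ ↔ PlusQ Q W₁) := by
  by_cases h2 : (2 : F) = 0
  · exact plusQ_sup_two h2 h₀ h₁ ho
  · rw [glue_plusQ_iff h2, glue_plusQ_iff h2, glue_plusQ_iff h2]
    exact plus_sup h2 glue_pol_symm h₀ h₁ ho he₀ he₁

/-- GLUE: type of an invariant nondegenerate subspace without fixed vectors, all `q` -/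
theorem plusQ_fpf {f : Module.End F V} (hf : IsomQ Q f) (r : ℕ) [Fact r.Prime] (hr2 : r ≠ 2)
    (hrq : ¬ r ∣ Fintype.card F) (hfr : f ^ r = 1) {N : Submodule F V} (hNi : Inv f N)
    (hN : Nd (pol Q) N) (hfix : N ⊓ Fix f = ⊥) :
    PlusQ Q N ↔ ((Fintype.card F : ℕ) : ZMod r) ^ (finrank F N / 2) = 1 := by
  by_cases h2 : (2 : F) = 0
  · exact plusQ_fpf_two h2 hf r hr2 hfr hNi hN hfix
  · rw [glue_plusQ_iff h2]
    exact plus_fpf h2 glue_pol_symm (glue_isom hf) r hr2 hrq hfr hNi hN hfix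

/-- GLUE: nondegenerate subspaces of both types, all `q` -/
theorem exists_ndQ_of_type {Z : Submodule F V} (hZ : Nd (pol Q) Z) (m₀ : ℕ) (hme : Even m₀)
    (h0 : 0 < m₀) (hlt : m₀ < finrank F Z) (b : Prop) :
    ∃ W₀ : Submodule F V, W₀ ≤ Z ∧ Nd (pol Q) W₀ ∧ finrank F W₀ = m₀ ∧ (PlusQ Q W₀ ↔ b) := by
  by_cases h2 : (2 : F) = 0
  · exact exists_ndQ_of_type_two h2 hZ m₀ hme h0 hlt b
  · obtain ⟨W₀, h1, h3, h4, h5⟩ := exists_nd_of_type h2 glue_pol_symm hZ m₀ hme h0 hlt b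
    exact ⟨W₀, h1, h3, h4, by rw [glue_plusQ_iff h2]; exact h5⟩

/-- GLUE: Witt transitivity count, all `q` -/
theorem not_dvd_card_typeQ (hV : Nd (pol Q) ⊤) {C : Submodule F V} (hC : Nd (pol Q) C) (r : ℕ)
    [Fact r.Prime]
    (hno : ∀ g : Module.End F V, IsomQ Q g → g ^ r = 1 →
      (∀ v, (∀ u ∈ C, pol Q u v = 0) → g v = v) → g = 1)
    (m : ℕ) (hme : Even m) (h0 : 0 < m) (hlt : m < finrank F C) (b : Prop) :
    ¬ r ∣ Nat.card {W : Submodule F V // W ≤ C ∧ Nd (pol Q) W ∧ finrank F W = m ∧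
      (PlusQ Q W ↔ b)} := by
  by_cases h2 : (2 : F) = 0
  · exact not_dvd_card_typeQ_two h2 hV hC r hno m hme h0 hlt b
  · have h := not_dvd_card_type h2 (glue_pol_symm (Q := Q)) hV hC r
      (fun g hg hgr hgC => hno g (glue_isomQ h2 hg) hgr hgC) m hme h0 hlt b
    have hcard : Nat.card {W : Submodule F V // W ≤ C ∧ Nd (pol Q) W ∧ finrank F W = m ∧
        (PlusQ Q W ↔ b)} =
        Nat.card {W : Submodule F V // W ≤ C ∧ Nd (pol Q) W ∧ finrank F W = m ∧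
        (Plus (pol Q) W ↔ b)} := by
      apply Nat.card_congr
      apply Equiv.subtypeEquivRight
      intro W
      rw [glue_plusQ_iff h2]
    rw [hcard]
    exact h

/-- GLUE: fixed/moved split and blocks, all `q` -/
theorem q_blocks {f : Module.End F V} (hf : IsomQ Q f) (r : ℕ) [Fact r.Prime] (hr2 : r ≠ 2)
    (hrq : ¬ r ∣ Fintype.card F) (hfr : f ^ r = 1) (i c : ℕ)
    (hi : i = orderOf ((Fintype.card F : ℕ) : ZMod r)) (hc : c = if Even i then i else 2 * i)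
    {N : Submodule F V} (hNi : Inv f N) (hN : Nd (pol Q) N) :
    Nd (pol Q) (N ⊓ Fix f) ∧ ∃ s : ℕ, finrank F N = finrank F ↥(N ⊓ Fix f) + s * c ∧
      ∀ j ≤ s, ∃ W₁ : Submodule F V, W₁ ≤ N ∧ Inv f W₁ ∧ Nd (pol Q) W₁ ∧ W₁ ⊓ Fix f = ⊥ ∧
        Orth (pol Q) (Fix f) W₁ ∧ finrank F W₁ = j * c := by
  by_cases h2 : (2 : F) = 0
  · exact alt_blocks (glue_pol_alt h2) (glue_isom hf) r hr2 hrq hfr i c hi hc hNi hN
  · exact sym_blocks h2 glue_pol_symm (glue_isom hf) r hr2 hrq hfr i c hi hc hNi hN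

end layer

end Cfsg.Agent.Lib.Helper65.Qe
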