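import Cfsg.Agent.Lib.Helper18.AutDefs
import Cfsg.Agent.Lib.Helper18.ChevHhat
import Cfsg.Agent.Lib.Helper36.ChevChar
import Cfsg.Agent.Lib.Helper36.ChevMAll

/-! # S2156 piece T4: diagonal automorphisms with prescribed values on the fundamental roots (helper65) -/

set_option autoImplicit false
set_option maxRecDepth 100000

namespace Cfsg.Agent.Lib.Helper65.Au

open Cfsg Cfsg.Lie Cfsg.Agent.Lib.Helper36 Cfsg.Agent.Lib.Helper18 Cfsg.Agent.Lib.Helper18.Au

/-- the coefficient of the fundamental root `p_i` in the fundamental root `p_j` is `δ_ij` -/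
def chkSimp (D : ChevalleyDatum) : Bool :=
  (List.range D.rank).all fun i => (List.range D.rank).all fun j =>
    decide (mCoef D i (D.simple j) = if i = j then 1 else 0)

theorem chkSimp_G2 : chkSimp chevG2 = true := by decide +kernel
theorem chkSimp_B2 : chkSimp chevB2 = true := by decide +kernel
theorem chkSimp_D4 : chkSimp chevD4 = true := by decide +kernel
theorem chkSimp_F4 : chkSimp chevF4 = true := by decide +kernel
theorem chkSimp_E6 : chkSimp chevE6 = true := by decide +kernel
theorem chkSimp_E7 : chkSimp chevE7 = true := by decide +kernel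
theorem chkSimp_E8 : chkSimp chevE8 = true := by decide +kernel

section
variable (D : ChevalleyDatum) (hD : D ∈ [chevG2, chevB2, chevD4, chevF4, chevE6, chevE7, chevE8])

include hD in
theorem mCoef_simple (i j : ℕ) (hi : i < D.rank) (hj : j < D.rank) :
    mCoef D i (D.simple j) = if i = j then 1 else 0 := by
  have h : chkSimp D = true :=
    seven_cases (P := fun D => chkSimp D = true) D hD chkSimp_G2 chkSimp_B2 chkSimp_D4 chkSimp_F4 chkSimp_E6
      chkSimp_E7 chkSimp_E8
  unfold chkSimp at h
  rw [List.all_eq_true] at h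
  have h1 := h i (List.mem_range.2 hi)
  rw [List.all_eq_true] at h1
  have h2 := h1 j (List.mem_range.2 hj)
  simpa using h2

variable {F : Type*} [Field F]

/-- the character of the root lattice with value `c i` on the fundamental root `p_i` -/
noncomputable def chiOf (c : Fin D.rank → Fˣ) : ℕ → Fˣ := fun r => ∏ i : Fin D.rank, (c i) ^ mCoef D i.val r

include hD in
theorem chiOf_isRootCharacter (c : Fin D.rank → Fˣ) : D.IsRootCharacter (chiOf D c) := by
  obtain ⟨-, -, h3, h4⟩ := mProp_all D hD
  refine ⟨fun r hr => ?_, fun r s k hr _ hk => ?_⟩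
  · unfold chiOf
    rw [← Finset.prod_inv_distrib]
    refine Finset.prod_congr rfl fun i _ => ?_
    rw [h3 i.val i.isLt r hr, zpow_neg]
  · unfold chiOf
    rw [← Finset.prod_mul_distrib]
    refine Finset.prod_congr rfl fun i _ => ?_
    rw [h4 i.val i.isLt r s k hr hk, zpow_add]

include hD in
theorem chiOf_simple (c : Fin D.rank → Fˣ) (j : Fin D.rank) : chiOf D c (D.simple j) = c j := by
  unfold chiOf
  rw [Finset.prod_eq_single j]
  · rw [mCoef_simple D hD j.val j.val j.isLt j.isLt, if_pos rfl, zpow_one]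
  · intro i _ hij
    have : i.val ≠ j.val := fun e => hij (Fin.ext e)
    rw [mCoef_simple D hD i.val j.val i.isLt j.isLt, if_neg this, zpow_zero]
  · intro h; exact absurd (Finset.mem_univ j) h

include hD in
theorem simple_lt (j : Fin D.rank) : D.simple j < D.nroots :=
  (chkN2_spec D (chkN2_all D hD) j.val j.isLt).1

include hD in
theorem chiOf_neg_simple (c : Fin D.rank → Fˣ) (j : Fin D.rank) :
    chiOf D c (D.neg (D.simple j)) = (c j)⁻¹ := by
  rw [(chiOf_isRootCharacter D hD c).1 _ (simple_lt D hD j), chiOf_simple D hD c j]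

/-- the diagonal matrix of a function, as an element of `GL` -/
noncomputable def diagGL (χ : ℕ → Fˣ) : GL D.Idx F :=
  ⟨D.charDiag F χ, D.charDiag F (fun s => (χ s)⁻¹),
    by
      have := charDiag_mul D F χ (fun s => (χ s)⁻¹)
      rw [this]
      have e : (fun s => χ s * (χ s)⁻¹) = fun _ => (1 : Fˣ) := by funext s; simp
      rw [e, charDiag_one],
    by
      have := charDiag_mul D F (fun s => (χ s)⁻¹) χ
      rw [this]
      have e : (fun s => (χ s)⁻¹ * χ s) = fun _ => (1 : Fˣ) := by funext s; simp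
      rw [e, charDiag_one]⟩

theorem diagGL_coe (χ : ℕ → Fˣ) : ((diagGL D χ : GL D.Idx F) : Matrix D.Idx D.Idx F) = D.charDiag F χ := rfl

theorem diagGL_inv_coe (χ : ℕ → Fˣ) :
    (((diagGL D χ)⁻¹ : GL D.Idx F) : Matrix D.Idx D.Idx F) = D.charDiag F (fun s => (χ s)⁻¹) := rfl

include hD in
/-- conjugation by the diagonal matrix of a character preserves the Chevalley group -/
theorem diagGL_conj_mem (χ : ℕ → Fˣ) (hχ : D.IsRootCharacter χ) (g : GL D.Idx F) (hg : g ∈ D.group F) :
    diagGL D χ * g * (diagGL D χ)⁻¹ ∈ D.group F := by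
  unfold ChevalleyDatum.group at hg
  induction hg using Subgroup.closure_induction'' with
  | one => simp [one_mem]
  | mem x hx =>
    obtain ⟨r, t, hx⟩ := hx
    have e : x = xGL D hD F r.val t := by
      apply Units.ext
      rw [hx, xGL_coe]
      unfold ChevalleyDatum.x
      rw [dif_pos r.isLt]
    rw [e, diag_conj_xGL D hD F (diagGL D χ) χ hχ (diagGL_coe D χ) r.val r.isLt t]
    exact xGL_mem_group D hD F _ _
  | inv_mem x hx =>
    obtain ⟨r, t, hx⟩ := hx
    have e : x = xGL D hD F r.val t := by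
      apply Units.ext
      rw [hx, xGL_coe]
      unfold ChevalleyDatum.x
      rw [dif_pos r.isLt]
    have e2 : diagGL D χ * x⁻¹ * (diagGL D χ)⁻¹ = (diagGL D χ * x * (diagGL D χ)⁻¹)⁻¹ := by group
    rw [e2, e, diag_conj_xGL D hD F (diagGL D χ) χ hχ (diagGL_coe D χ) r.val r.isLt t]
    exact inv_mem (xGL_mem_group D hD F _ _)
  | mul x y _ _ hx hy =>
    have e : diagGL D χ * (x * y) * (diagGL D χ)⁻¹ =
        (diagGL D χ * x * (diagGL D χ)⁻¹) * (diagGL D χ * y * (diagGL D χ)⁻¹) := by group
    rw [e]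
    exact mul_mem hx hy

include hD in
/-- the diagonal automorphism of a character of the root lattice -/
noncomputable def diagAut (χ : ℕ → Fˣ) (hχ : D.IsRootCharacter χ) : ↥(D.group F) ≃* ↥(D.group F) where
  toFun g := ⟨diagGL D χ * g.val * (diagGL D χ)⁻¹, diagGL_conj_mem D hD χ hχ g.val g.property⟩
  invFun g := ⟨(diagGL D χ)⁻¹ * g.val * diagGL D χ, by
    have h := diagGL_conj_mem D hD (fun s => (χ s)⁻¹) (isRootCharacter_inv D χ hχ) g.val g.property
    have e : diagGL D (F := F) (fun s => (χ s)⁻¹) = (diagGL D χ)⁻¹ := by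
      apply Units.ext
      rw [diagGL_coe, diagGL_inv_coe]
    rw [e, inv_inv] at h
    exact h⟩
  left_inv g := by
    apply Subtype.ext
    simp only
    group
  right_inv g := by
    apply Subtype.ext
    simp only
    group
  map_mul' g h := by
    apply Subtype.ext
    simp only [Subgroup.coe_mul]
    group

include hD in
theorem diagAut_coe (χ : ℕ → Fˣ) (hχ : D.IsRootCharacter χ) (g : ↥(D.group F)) :
    ((diagAut D hD χ hχ g : ↥(D.group F)) : GL D.Idx F) = diagGL D χ * g.val * (diagGL D χ)⁻¹ := rfl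

include hD in
theorem diagAut_xGr (χ : ℕ → Fˣ) (hχ : D.IsRootCharacter χ) (r : ℕ) (hr : r < D.nroots) (t : F) :
    diagAut D hD χ hχ (xGr D hD F r t) = xGr D hD F r ((χ r : F) * t) := by
  apply Subtype.ext
  rw [diagAut_coe, xGr_coe, xGr_coe]
  exact diag_conj_xGL D hD F (diagGL D χ) χ hχ (diagGL_coe D χ) r hr t

end

section
variable (D : ChevalleyDatum) (hD : D ∈ [chevG2, chevB2, chevD4, chevF4, chevE6, chevE7, chevE8])
variable (F : Type*) [Field F]

include hD in
/-- T4: diagonal automorphisms with prescribed values on the fundamental roots. -/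
theorem T4_diag (c : Fin D.rank → Fˣ) :
    ∃ d : ↥(D.group F) ≃* ↥(D.group F), D.IsDiagonalAut d ∧ ∀ (i : Fin D.rank) (t : F),
      d (xGr D hD F (D.simple i) t) = xGr D hD F (D.simple i) ((c i : F) * t) ∧
      d (xGr D hD F (D.neg (D.simple i)) t) = xGr D hD F (D.neg (D.simple i)) (((c i)⁻¹ : Fˣ) * t) := by
  have hχ := chiOf_isRootCharacter D hD (F := F) c
  refine ⟨diagAut D hD (chiOf D c) hχ, ⟨chiOf D c, hχ, fun g => ?_⟩, fun i t => ⟨?_, ?_⟩⟩
  · rw [diagAut_coe, Units.val_mul, Units.val_mul, diagGL_coe, diagGL_inv_coe]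
  · rw [diagAut_xGr D hD _ hχ _ (simple_lt D hD i), chiOf_simple D hD c i]
  · have hn : D.neg (D.simple i) < D.nroots := wf_neg D (wf_all D hD) _ (simple_lt D hD i)
    rw [diagAut_xGr D hD _ hχ _ hn, chiOf_neg_simple D hD c i]

end

end Cfsg.Agent.Lib.Helper65.Au
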