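import Cfsg.Agent.Lib.Helper65.F4cNOTINcore
import Cfsg.Agent.Lib.Helper49.F4cTMUL

/-! # F4C-NOTIN (helper65, leaf of helper20's F4c hive for S2179): `n_1`, `n_2` do not normalise `Tgrp` -/

set_option autoImplicit false

namespace Cfsg.Agent.Lib.Helper20.F4c

open Cfsg Cfsg.Lie Cfsg.Agent.Lib.Helper36 Cfsg.Agent.Lib.Helper18

variable (F : Type*) [Field F]

/-- F4C-NOTIN -/
theorem n1_notin [Fintype F] :
    nGL chevF4 hF4 F (chevF4.simple 1) 1 ∉ Subgroup.normalizer (Tgrp F : Set (GL chevF4.Idx F)) :=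
  notin_n1_core F (mem_Tgrp F)

theorem n2_notin [Fintype F] :
    nGL chevF4 hF4 F (chevF4.simple 2) 1 ∉ Subgroup.normalizer (Tgrp F : Set (GL chevF4.Idx F)) :=
  notin_n2_core F (mem_Tgrp F)

end Cfsg.Agent.Lib.Helper20.F4c
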