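import Cfsg.Agent.Lib.Helper20.F4cDefs
import Cfsg.Agent.Lib.Helper36.ChevKeyOrd

/-! # F4C-TINJ (helper65, leaf of helper20's F4c hive for S2179): `T` is injective in its six parameters;
`x_43(k)`, `x_38(k)` are not of the form `T` unless `k = 0` (unique ordered products in `U`, `Helper36.key_unique`). -/

set_option autoImplicit false

namespace Cfsg.Agent.Lib.Helper20.F4c

open Cfsg Cfsg.Lie Cfsg.Agent.Lib.Helper36 Cfsg.Agent.Lib.Helper18

variable (F : Type*) [Field F]

/-- an admissible order of the positive roots of `F₄` -/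
def tinj_ord : List ℕ :=
  [33, 27, 25, 24, 34, 26, 28, 29, 30, 35, 31, 36, 37, 32, 38, 41, 39, 42, 40, 43, 44, 45, 46, 47]

theorem tinj_ord_ok : chkKeyOrd chevF4 tinj_ord = true := by decide +kernel

/-- the coefficient function of `T a b c d e f` -/
def tinj_fun (a b c d e f : F) (r : ℕ) : F :=
  if r = 39 then a else if r = 40 then b else if r = 44 then c else if r = 45 then d else if r = 46 then e
  else if r = 47 then f else 0

/-- the coefficient function of `x_s(k)` -/
def tinj_one (s : ℕ) (k : F) (r : ℕ) : F := if r = s then k else 0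

theorem tinj_word (a b c d e f : F) :
    wordGL chevF4 hF4 F (tinj_ord.map fun r => (r, tinj_fun F a b c d e f r)) = T F a b c d e f := by
  unfold wordGL tinj_ord T xf
  simp [tinj_fun, Helper36.xGL_zero, mul_assoc]

theorem tinj_word43 (k : F) :
    wordGL chevF4 hF4 F (tinj_ord.map fun r => (r, tinj_one F 43 k r)) = xf F 43 k := by
  unfold wordGL tinj_ord xf
  simp [tinj_one, Helper36.xGL_zero]

theorem tinj_word38 (k : F) :
    wordGL chevF4 hF4 F (tinj_ord.map fun r => (r, tinj_one F 38 k r)) = xf F 38 k := by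
  unfold wordGL tinj_ord xf
  simp [tinj_one, Helper36.xGL_zero]

/-- F4C-TINJ -/
theorem T_inj [Fintype F] (a b c d e f a' b' c' d' e' f' : F) (h : T F a b c d e f = T F a' b' c' d' e' f') :
    a = a' ∧ b = b' ∧ c = c' ∧ d = d' ∧ e = e' ∧ f = f' := by
  rw [← tinj_word, ← tinj_word] at h
  have key := key_unique chevF4 hF4 F tinj_ord tinj_ord_ok _ _ h
  refine ⟨?_, ?_, ?_, ?_, ?_, ?_⟩
  · simpa [tinj_fun] using key 39 (by decide)
  · simpa [tinj_fun] using key 40 (by decide)
  · simpa [tinj_fun] using key 44 (by decide)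
  · simpa [tinj_fun] using key 45 (by decide)
  · simpa [tinj_fun] using key 46 (by decide)
  · simpa [tinj_fun] using key 47 (by decide)

theorem x43_ne_T [Fintype F] (k a b c d e f : F) (h : xf F 43 k = T F a b c d e f) : k = 0 := by
  rw [← tinj_word, ← tinj_word43] at h
  have key := key_unique chevF4 hF4 F tinj_ord tinj_ord_ok _ _ h 43 (by decide)
  simpa [tinj_fun, tinj_one] using key

theorem x38_ne_T [Fintype F] (k a b c d e f : F) (h : xf F 38 k = T F a b c d e f) : k = 0 := by
  rw [← tinj_word, ← tinj_word38] at h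
  have key := key_unique chevF4 hF4 F tinj_ord tinj_ord_ok _ _ h 38 (by decide)
  simpa [tinj_fun, tinj_one] using key

end Cfsg.Agent.Lib.Helper20.F4c
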