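import Mathlib
import Cfsg.Agent.Lib.Helper20.SuBNDefs

set_option autoImplicit false

/-! SuBN-A3a + SuBN-A3 (helper65, for helper20's S2546 hive): uniqueness in the sharp Bruhat form of `SL_n`. -/

namespace Cfsg.Agent.Lib.Helper20.SuBN

open Matrix Subgroup Cfsg.Agent.Lib.Helper20.PslF Cfsg.Agent.Lib.Helper20.SuF

variable {n : ℕ} {K : Type*} [Field K] [Fintype K]

/-- row formula: `(m * y)(π k, j) = m(π k, k) * y(k, j)` for monomial `m` -/
theorem a3_mon_mul_entry {m : SLn n K} {π : Equiv.Perm (Fin n)} (hm : IsMon m π) (y : SLn n K)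
    (k j : Fin n) : mt (m * y) (π k) j = mt m (π k) k * mt y k j := by
  rw [mt_mul, Matrix.mul_apply]
  apply Finset.sum_eq_single k
  · intro l _ hl
    rw [hm (π k) l (fun h => hl (π.injective h).symm), zero_mul]
  · intro h
    exact absurd (Finset.mem_univ k) h

/-- column formula: `(y * m)(i, j) = y(i, π j) * m(π j, j)` for monomial `m` -/
theorem a3_mul_mon_entry {m : SLn n K} {π : Equiv.Perm (Fin n)} (hm : IsMon m π) (y : SLn n K)
    (i j : Fin n) : mt (y * m) i j = mt y i (π j) * mt m (π j) j := by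
  rw [mt_mul, Matrix.mul_apply]
  apply Finset.sum_eq_single (π j)
  · intro l _ hl
    rw [hm l j hl, mul_zero]
  · intro h
    exact absurd (Finset.mem_univ _) h

theorem a3_entry_mul_inv {m : SLn n K} {π : Equiv.Perm (Fin n)} (hm : IsMon m π) (k j : Fin n) :
    mt m (π k) k * mt m⁻¹ k j = if π k = j then 1 else 0 := by
  rw [← a3_mon_mul_entry hm, mul_inv_cancel, mt_one, Matrix.one_apply]

theorem a3_entry_ne_zero {m : SLn n K} {π : Equiv.Perm (Fin n)} (hm : IsMon m π) (k : Fin n) :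
    mt m (π k) k ≠ 0 := by
  intro h
  have := a3_entry_mul_inv hm k (π k)
  rw [h, zero_mul, if_pos rfl] at this
  exact zero_ne_one this

theorem a3_isMon_inv {m : SLn n K} {π : Equiv.Perm (Fin n)} (hm : IsMon m π) : IsMon m⁻¹ π⁻¹ := by
  intro i j hij
  have := a3_entry_mul_inv hm i j
  rw [if_neg] at this
  · exact (mul_eq_zero.mp this).resolve_left (a3_entry_ne_zero hm i)
  · intro h
    apply hij
    rw [← h]
    simp

theorem a3_UT_diag_ne_zero {b : SLn n K} (hb : b ∈ (UT : Subgroup (SLn n K))) (x : Fin n) :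
    mt b x x ≠ 0 := by
  have hdet : (mt b).det = ∏ i, mt b i i := by
    apply Matrix.det_of_isUpperTriangular
    intro i j hij
    exact (mem_UT b).mp hb i j hij
  rw [mt_det] at hdet
  intro h
  have h0 : ∏ i, mt b i i = 0 := Finset.prod_eq_zero (Finset.mem_univ x) h
  rw [h0] at hdet
  exact one_ne_zero hdet

theorem a3_perm_eq_of_le (π π' : Equiv.Perm (Fin n)) (h : ∀ j, π j ≤ π' j) : π' = π := by
  have hsum : ∑ j, ((π j : Fin n) : ℕ) = ∑ j, ((π' j : Fin n) : ℕ) := by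
    rw [Equiv.sum_comp π (fun x : Fin n => (x : ℕ)), Equiv.sum_comp π' (fun x : Fin n => (x : ℕ))]
  have h2 := (Finset.sum_eq_sum_iff_of_le (fun j _ => Fin.le_def.mp (h j))).mp hsum
  exact Equiv.ext fun j => Fin.ext (h2 j (Finset.mem_univ j)).symm

/-- upper triangular and lower unitriangular: trivial -/
theorem a3_UT_inf_LL {g : SLn n K} (h1 : g ∈ (UT : Subgroup (SLn n K)))
    (h2 : g ∈ (LL : Subgroup (SLn n K))) : g = 1 := by
  apply mt_ext
  rw [mt_one]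
  ext x y
  rcases lt_trichotomy x y with h | h | h
  · rw [((mem_LL g).mp h2).1 x y h, Matrix.one_apply_ne h.ne]
  · subst h
    rw [((mem_LL g).mp h2).2 x, Matrix.one_apply_eq]
  · rw [(mem_UT g).mp h1 x y h, Matrix.one_apply_ne h.ne']

/-- SuBN-A3a -/
theorem mon_perm_unique {m m' : SLn n K} {π π' : Equiv.Perm (Fin n)} (hm : IsMon m π)
    (hm' : IsMon m' π') {b₁ b₂ : SLn n K} (hb₁ : b₁ ∈ (UT : Subgroup (SLn n K)))
    (hb₂ : b₂ ∈ (UT : Subgroup (SLn n K))) (h : m' = b₁ * m * b₂) : π' = π := by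
  apply a3_perm_eq_of_le π π'
  intro j
  by_contra hlt
  rw [not_le] at hlt
  have e : b₁⁻¹ * m' = m * b₂ := by rw [h]; group
  have h1 : mt (b₁⁻¹ * m') (π j) j = 0 := by
    rw [a3_mul_mon_entry hm', (mem_UT _).mp (inv_mem hb₁) (π j) (π' j) hlt, zero_mul]
  have h2 : mt (m * b₂) (π j) j ≠ 0 := by
    rw [a3_mon_mul_entry hm]
    exact mul_ne_zero (a3_entry_ne_zero hm j) (a3_UT_diag_ne_zero hb₂ j)
  rw [e] at h1
  exact h2 h1

/-- conjugating a lower unitriangular matrix by a diagonal one -/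
theorem a3_diag_conj_LL {t g : SLn n K} (ht : IsMon t 1) (hg : g ∈ (LL : Subgroup (SLn n K))) :
    t⁻¹ * g * t ∈ (LL : Subgroup (SLn n K)) := by
  have ht' : IsMon t⁻¹ 1 := by simpa using a3_isMon_inv ht
  have key : ∀ a b : Fin n, mt (t⁻¹ * g * t) a b = mt t⁻¹ a a * (mt g a b * mt t b b) := by
    intro a b
    rw [mul_assoc]
    have h1 := a3_mon_mul_entry ht' (g * t) a b
    have h2 := a3_mul_mon_entry ht g a b
    simp only [Equiv.Perm.coe_one, id_eq] at h1 h2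
    rw [h1, h2]
  rw [mem_LL] at hg ⊢
  refine ⟨fun x y hxy => ?_, fun x => ?_⟩
  · rw [key, hg.1 x y hxy, zero_mul, mul_zero]
  · rw [key, hg.2 x, one_mul]
    have h3 := a3_entry_mul_inv ht' x x
    simp only [Equiv.Perm.coe_one, id_eq, inv_inv, if_true] at h3
    exact h3

/-- SuBN-A3 -/
theorem sharp_unique {u₁ u₁' m m' u u' : SLn n K} (hu₁ : u₁ ∈ (UU : Subgroup (SLn n K)))
    (hu₁' : u₁' ∈ (UU : Subgroup (SLn n K))) (hm : m ∈ (Mon : Subgroup (SLn n K)))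
    (hm' : m' ∈ (Mon : Subgroup (SLn n K))) (hu : u ∈ (UU : Subgroup (SLn n K)))
    (hu' : u' ∈ (UU : Subgroup (SLn n K))) (hl : m * u * m⁻¹ ∈ (LL : Subgroup (SLn n K)))
    (hl' : m' * u' * m'⁻¹ ∈ (LL : Subgroup (SLn n K))) (h : u₁ * m * u = u₁' * m' * u') :
    u₁ = u₁' ∧ m = m' ∧ u = u' := by
  obtain ⟨π, hπ⟩ := (mem_Mon m).mp hm
  obtain ⟨π', hπ'⟩ := (mem_Mon m').mp hm'
  have e1 : m' = (u₁'⁻¹ * u₁) * m * (u * u'⁻¹) := by
    have : u₁'⁻¹ * (u₁ * m * u) * u'⁻¹ = u₁'⁻¹ * (u₁' * m' * u') * u'⁻¹ := by rw [h]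
    have e2 : u₁'⁻¹ * (u₁' * m' * u') * u'⁻¹ = m' := by group
    rw [e2] at this
    rw [← this]
    group
  have hx : u₁'⁻¹ * u₁ ∈ (UU : Subgroup (SLn n K)) := mul_mem (inv_mem hu₁') hu₁
  have hππ : π' = π :=
    mon_perm_unique hπ hπ' (UU_le_UT hx) (UU_le_UT (mul_mem hu (inv_mem hu'))) e1
  subst hππ
  -- `t = m' * m⁻¹` is diagonal
  have ht : IsMon (m' * m⁻¹) 1 := by
    have := hπ'.mul (a3_isMon_inv hπ)
    rwa [mul_inv_cancel] at this
  -- `ℓ`
  have hℓ : m * (u' * u⁻¹) * m⁻¹ ∈ (LL : Subgroup (SLn n K)) := by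
    have h1 : m * (u' * u⁻¹) * m⁻¹ =
        ((m' * m⁻¹)⁻¹ * (m' * u' * m'⁻¹) * (m' * m⁻¹)) * (m * u * m⁻¹)⁻¹ := by group
    rw [h1]
    exact mul_mem (a3_diag_conj_LL ht hl') (inv_mem hl)
  have hxt : u₁'⁻¹ * u₁ = (m' * m⁻¹) * (m * (u' * u⁻¹) * m⁻¹) := by
    have : u₁'⁻¹ * (u₁ * m * u) * (u⁻¹ * m⁻¹) = u₁'⁻¹ * (u₁' * m' * u') * (u⁻¹ * m⁻¹) := by rw [h]
    have e2 : u₁'⁻¹ * (u₁ * m * u) * (u⁻¹ * m⁻¹) = u₁'⁻¹ * u₁ := by group
    rw [e2] at this
    rw [this]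
    group
  have hℓ1 : m * (u' * u⁻¹) * m⁻¹ = 1 := by
    apply a3_UT_inf_LL _ hℓ
    have : m * (u' * u⁻¹) * m⁻¹ = (m' * m⁻¹)⁻¹ * (u₁'⁻¹ * u₁) := by rw [hxt]; group
    rw [this]
    exact mul_mem (inv_mem (isMon_one_mem_UT ht)) (UU_le_UT hx)
  rw [hℓ1, mul_one] at hxt
  -- `x = t` is unitriangular and diagonal
  have hx1 : u₁'⁻¹ * u₁ = 1 := by
    apply mt_ext
    rw [mt_one]
    ext a b
    by_cases hab : a = b
    · subst hab
      rw [((mem_UU _).mp hx).2 a, Matrix.one_apply_eq]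
    · rw [hxt, ht a b (by simpa using hab), Matrix.one_apply_ne hab]
  have hu₁eq : u₁ = u₁' := by
    have := congrArg (fun z => u₁' * z) hx1
    simpa using this
  have hmeq : m = m' := by
    rw [hx1] at hxt
    have := congrArg (fun z => z * m) hxt
    simpa using this
  refine ⟨hu₁eq, hmeq, ?_⟩
  subst hu₁eq
  subst hmeq
  exact mul_left_cancel h

end Cfsg.Agent.Lib.Helper20.SuBN
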