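import Mathlib
import Cfsg.Agent.Lib.Helper20.SuBNDefs
import Cfsg.Agent.Lib.Helper65.SuBNA3

set_option autoImplicit false
set_option linter.unusedSectionVars false

/-! SuBN-A1 (helper65, for helper20's S2546 hive): `U = (U ∩ m⁻¹ U m)(U ∩ m⁻¹ U⁻ m)` for monomial `m`. -/

namespace Cfsg.Agent.Lib.Helper20.SuBN

open Matrix Subgroup Cfsg.Agent.Lib.Helper20.PslF Cfsg.Agent.Lib.Helper20.SuF

variable {n : ℕ} {K : Type*} [Field K] [Fintype K]

/-- conjugation by a monomial matrix permutes the entries -/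
theorem a1_conj_entry {m : SLn n K} {π : Equiv.Perm (Fin n)} (hm : IsMon m π) (x : SLn n K)
    (a b : Fin n) :
    mt (m * x * m⁻¹) (π a) (π b) = mt m (π a) a * mt x a b * mt m⁻¹ b (π b) := by
  rw [mul_assoc, a3_mon_mul_entry hm, a3_mul_mon_entry (a3_isMon_inv hm), mul_assoc]
  simp

/-- the diagonal coefficient of the conjugation is `1` -/
theorem a1_coeff {m : SLn n K} {π : Equiv.Perm (Fin n)} (hm : IsMon m π) (a : Fin n) :
    mt m (π a) a * mt m⁻¹ a (π a) = 1 := by
  rw [a3_entry_mul_inv hm, if_pos rfl]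

theorem a1_conj_mem_UU {m : SLn n K} {π : Equiv.Perm (Fin n)} (hm : IsMon m π) {x : SLn n K}
    (hx : x ∈ (UU : Subgroup (SLn n K)))
    (h : ∀ a b : Fin n, a < b → π b < π a → mt x a b = 0) :
    m * x * m⁻¹ ∈ (UU : Subgroup (SLn n K)) := by
  rw [mem_UU] at hx ⊢
  refine ⟨fun i j hij => ?_, fun i => ?_⟩
  · obtain ⟨a, rfl⟩ := π.surjective i
    obtain ⟨b, rfl⟩ := π.surjective j
    rw [a1_conj_entry hm]
    have hab : a ≠ b := by
      rintro rfl
      exact lt_irrefl _ hij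
    rcases lt_or_gt_of_ne hab with h1 | h1
    · rw [h a b h1 hij, mul_zero, zero_mul]
    · rw [hx.1 a b h1, mul_zero, zero_mul]
  · obtain ⟨a, rfl⟩ := π.surjective i
    rw [a1_conj_entry hm, hx.2 a, mul_one, a1_coeff hm]

theorem a1_conj_mem_LL {m : SLn n K} {π : Equiv.Perm (Fin n)} (hm : IsMon m π) {x : SLn n K}
    (hx : x ∈ (UU : Subgroup (SLn n K)))
    (h : ∀ a b : Fin n, a < b → π a < π b → mt x a b = 0) :
    m * x * m⁻¹ ∈ (LL : Subgroup (SLn n K)) := by
  rw [mem_UU] at hx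
  rw [mem_LL]
  refine ⟨fun i j hij => ?_, fun i => ?_⟩
  · obtain ⟨a, rfl⟩ := π.surjective i
    obtain ⟨b, rfl⟩ := π.surjective j
    rw [a1_conj_entry hm]
    have hab : a ≠ b := by
      rintro rfl
      exact lt_irrefl _ hij
    rcases lt_or_gt_of_ne hab with h1 | h1
    · rw [h a b h1 hij, mul_zero, zero_mul]
    · rw [hx.1 a b h1, mul_zero, zero_mul]
  · obtain ⟨a, rfl⟩ := π.surjective i
    rw [a1_conj_entry hm, hx.2 a, mul_one, a1_coeff hm]

/-- the restriction of a unitriangular matrix to the positions `a < b` with `P a b` -/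
def a1_restrM (P : Fin n → Fin n → Prop) [DecidableRel P] (u : SLn n K) :
    Matrix (Fin n) (Fin n) K :=
  Matrix.of fun a b => if a = b then 1 else if a < b ∧ P a b then mt u a b else 0

theorem a1_restrM_det (P : Fin n → Fin n → Prop) [DecidableRel P] (u : SLn n K) :
    (a1_restrM P u).det = 1 := by
  rw [Matrix.det_of_isUpperTriangular]
  · apply Finset.prod_eq_one
    intro i _
    simp [a1_restrM]
  · intro i j hij
    have h1 : i ≠ j := fun h => by
      subst h
      exact lt_irrefl _ hij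
    have h2 : ¬ (i < j) := fun h => lt_asymm h hij
    simp [a1_restrM, h1, h2]

/-- the restriction as an element of `SL_n` -/
def a1_restr (P : Fin n → Fin n → Prop) [DecidableRel P] (u : SLn n K) : SLn n K :=
  mkSL (a1_restrM P u) (a1_restrM_det P u)

theorem a1_restr_apply (P : Fin n → Fin n → Prop) [DecidableRel P] (u : SLn n K) (a b : Fin n) :
    mt (a1_restr P u) a b = if a = b then 1 else if a < b ∧ P a b then mt u a b else 0 := rfl

theorem a1_restr_mem_UU (P : Fin n → Fin n → Prop) [DecidableRel P] (u : SLn n K) :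
    a1_restr P u ∈ (UU : Subgroup (SLn n K)) := by
  rw [mem_UU]
  refine ⟨fun i j hij => ?_, fun i => ?_⟩
  · have h1 : i ≠ j := fun h => by
      subst h
      exact lt_irrefl _ hij
    have h2 : ¬ (i < j) := fun h => lt_asymm h hij
    rw [a1_restr_apply, if_neg h1, if_neg (fun h => h2 h.1)]
  · rw [a1_restr_apply, if_pos rfl]

theorem a1_restr_zero (P : Fin n → Fin n → Prop) [DecidableRel P] (u : SLn n K) {a b : Fin n}
    (hab : a < b) (h : ¬ P a b) : mt (a1_restr P u) a b = 0 := by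
  rw [a1_restr_apply, if_neg hab.ne, if_neg (fun h' => h h'.2)]

theorem a1_restr_eq (P : Fin n → Fin n → Prop) [DecidableRel P] (u : SLn n K) {a b : Fin n}
    (hab : a < b) (h : P a b) : mt (a1_restr P u) a b = mt u a b := by
  rw [a1_restr_apply, if_neg hab.ne, if_pos ⟨hab, h⟩]

/-- SuBN-A1 -/
theorem uu_factor {m : SLn n K} (hm : m ∈ (Mon : Subgroup (SLn n K))) {u : SLn n K}
    (hu : u ∈ (UU : Subgroup (SLn n K))) :
    ∃ u' ∈ (UU : Subgroup (SLn n K)), ∃ u'' ∈ (UU : Subgroup (SLn n K)), u = u' * u'' ∧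
      m * u' * m⁻¹ ∈ (UU : Subgroup (SLn n K)) ∧ m * u'' * m⁻¹ ∈ (LL : Subgroup (SLn n K)) := by
  classical
  obtain ⟨π, hπ⟩ := (mem_Mon m).mp hm
  -- the three finite types
  let A := {x : SLn n K // x ∈ (UU : Subgroup (SLn n K)) ∧ m * x * m⁻¹ ∈ (UU : Subgroup (SLn n K))}
  let B := {y : SLn n K // y ∈ (UU : Subgroup (SLn n K)) ∧ m * y * m⁻¹ ∈ (LL : Subgroup (SLn n K))}
  let C := {z : SLn n K // z ∈ (UU : Subgroup (SLn n K))}
  let f : A × B → C := fun p => ⟨p.1.1 * p.2.1, mul_mem p.1.2.1 p.2.2.1⟩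
  let PI : Fin n → Fin n → Prop := fun a b => π a < π b
  let PJ : Fin n → Fin n → Prop := fun a b => π b < π a
  let g : C → A × B := fun z =>
    (⟨a1_restr PI z.1, a1_restr_mem_UU PI z.1,
        a1_conj_mem_UU hπ (a1_restr_mem_UU PI z.1)
          (fun a b hab h => a1_restr_zero PI z.1 hab (fun h' : π a < π b => lt_asymm h h'))⟩,
     ⟨a1_restr PJ z.1, a1_restr_mem_UU PJ z.1,
        a1_conj_mem_LL hπ (a1_restr_mem_UU PJ z.1)
          (fun a b hab h => a1_restr_zero PJ z.1 hab (fun h' : π b < π a => lt_asymm h h'))⟩)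
  have hf : Function.Injective f := by
    rintro ⟨⟨x, hx1, hx2⟩, ⟨y, hy1, hy2⟩⟩ ⟨⟨x', hx1', hx2'⟩, ⟨y', hy1', hy2'⟩⟩ hxy
    have hxy' : x * y = x' * y' := congrArg Subtype.val hxy
    have hz : x'⁻¹ * x = y' * y⁻¹ := by
      have := congrArg (fun w => x'⁻¹ * w * y⁻¹) hxy'
      beta_reduce at this
      rw [show x'⁻¹ * (x * y) * y⁻¹ = x'⁻¹ * x by group,
        show x'⁻¹ * (x' * y') * y⁻¹ = y' * y⁻¹ by group] at this
      exact this
    have h1 : m * (x'⁻¹ * x) * m⁻¹ ∈ (UU : Subgroup (SLn n K)) := by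
      rw [show m * (x'⁻¹ * x) * m⁻¹ = (m * x' * m⁻¹)⁻¹ * (m * x * m⁻¹) by group]
      exact mul_mem (inv_mem hx2') hx2
    have h2 : m * (x'⁻¹ * x) * m⁻¹ ∈ (LL : Subgroup (SLn n K)) := by
      rw [hz, show m * (y' * y⁻¹) * m⁻¹ = (m * y' * m⁻¹) * (m * y * m⁻¹)⁻¹ by group]
      exact mul_mem hy2' (inv_mem hy2)
    have h3 : m * (x'⁻¹ * x) * m⁻¹ = 1 := a3_UT_inf_LL (UU_le_UT h1) h2
    have h4 : x'⁻¹ * x = 1 := by
      have := congrArg (fun w => m⁻¹ * w * m) h3
      beta_reduce at this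
      rw [show m⁻¹ * (m * (x'⁻¹ * x) * m⁻¹) * m = x'⁻¹ * x by group,
        show m⁻¹ * 1 * m = 1 by group] at this
      exact this
    have hxx : x = x' := by
      have := congrArg (fun w => x' * w) h4
      simpa using this
    have hyy : y = y' := by
      rw [h4] at hz
      have := congrArg (fun w => w * y) hz
      simpa using this
    subst hxx
    subst hyy
    rfl
  have hg : Function.Injective g := by
    rintro ⟨z, hz⟩ ⟨z', hz'⟩ hzz
    have e1 : a1_restr PI z = a1_restr PI z' := congrArg (fun p : A × B => p.1.1) hzz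
    have e2 : a1_restr PJ z = a1_restr PJ z' := congrArg (fun p : A × B => p.2.1) hzz
    apply Subtype.ext
    apply mt_ext
    ext a b
    rcases lt_trichotomy a b with hab | hab | hab
    · rcases lt_or_gt_of_ne (fun h : π a = π b => hab.ne (π.injective h)) with h | h
      · rw [← a1_restr_eq PI z hab h, ← a1_restr_eq PI z' hab h, e1]
      · rw [← a1_restr_eq PJ z hab h, ← a1_restr_eq PJ z' hab h, e2]
    · subst hab
      rw [((mem_UU z).mp hz).2 a, ((mem_UU z').mp hz').2 a]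
    · rw [((mem_UU z).mp hz).1 a b hab, ((mem_UU z').mp hz').1 a b hab]
  have hbij : Function.Bijective f :=
    hf.bijective_of_nat_card_le (Nat.card_le_card_of_injective g hg)
  obtain ⟨⟨⟨x, hx1, hx2⟩, ⟨y, hy1, hy2⟩⟩, hxy⟩ := hbij.2 ⟨u, hu⟩
  exact ⟨x, hx1, y, hy1, (congrArg Subtype.val hxy).symm, hx2, hy2⟩

end Cfsg.Agent.Lib.Helper20.SuBN
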