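import Mathlib
import Cfsg.Agent.Lib.Helper21.S11Defs

/-! # S11-SYLQ (helper65, leaf of helper21's S11 mini-hive for S3911) -/

set_option autoImplicit false

namespace Cfsg.Agent.Lib.Helper21.S11

variable {G : Type*} [Group G] [Finite G]

/-- `|X| = |X ∩ M| * |XM/M|` -/
theorem s11sylq_card (M : Subgroup G) [M.Normal] (X : Subgroup G) :
    Nat.card ↥X = Nat.card ↥(X ⊓ M) * Nat.card ↥(X.map (QuotientGroup.mk' M)) := by
  have h1 := Subgroup.relIndex_mul_relIndex (⊥ : Subgroup G) (X ⊓ M) X bot_le inf_le_left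
  rw [Subgroup.relIndex_bot_left, Subgroup.relIndex_bot_left, Subgroup.inf_relIndex_left] at h1
  have h2 := Subgroup.relIndex_ker (QuotientGroup.mk' M) (K := X)
  rw [QuotientGroup.ker_mk'] at h2
  rw [← h1, h2]

/-- S11-SYLQ. If `q` divides `|XM/M|` then a Sylow `q`-subgroup of `X` is not inside `M`. -/
theorem sylow_not_le (M : Subgroup G) [M.Normal] (X : Subgroup G) (q : ℕ) [Fact q.Prime]
    (hq : q ∣ Nat.card ↥(X.map (QuotientGroup.mk' M))) (Q : Sylow q ↥X) :
    ¬ (Q : Subgroup ↥X).map X.subtype ≤ M := by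
  intro h
  have hqp : q.Prime := Fact.out
  have hle : (Q : Subgroup ↥X).map X.subtype ≤ X ⊓ M := le_inf (Subgroup.map_subtype_le _) h
  have hcard : Nat.card ↥((Q : Subgroup ↥X).map X.subtype) = Nat.card ↥(Q : Subgroup ↥X) :=
    Subgroup.card_map_of_injective (Subgroup.subtype_injective X)
  have hdvd : Nat.card ↥(Q : Subgroup ↥X) ∣ Nat.card ↥(X ⊓ M) := by
    rw [← hcard]
    exact Subgroup.card_dvd_of_le hle
  rw [Sylow.card_eq_multiplicity] at hdvd
  have hne1 : Nat.card ↥(X ⊓ M) ≠ 0 := Nat.card_pos.ne'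
  have hne2 : Nat.card ↥(X.map (QuotientGroup.mk' M)) ≠ 0 := Nat.card_pos.ne'
  have ha := (hqp.pow_dvd_iff_le_factorization hne1).1 hdvd
  rw [s11sylq_card M X, Nat.factorization_mul hne1 hne2] at ha
  have hc : 1 ≤ (Nat.card ↥(X.map (QuotientGroup.mk' M))).factorization q :=
    (hqp.dvd_iff_one_le_factorization hne2).1 hq
  simp only [Finsupp.coe_add, Pi.add_apply] at ha
  omega

end Cfsg.Agent.Lib.Helper21.S11
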