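import Mathlib
import Cfsg.Prelude.Def_Classical
import Cfsg.Prelude.Def_LieClassical
import Cfsg.Agent.Lib.Helper14.TuDefs

/-!
# S5954 hive ("Und", owner helper65): definitions

`PSU_n(q)` acting on NONDEGENERATE `m`-spaces (`1 ≤ m < n/2`): which primes `r` have all elements of
order `r` fixing a point.  `F` has `q ^ 2` elements.  Unitary sibling of helper4's S5956 ("Nd") and
nondegenerate sibling of helper14's S5953 ("Tu"); the abstract layer is the one of the Tu hive:
`Cfsg.Agent.Lib.Helper14.Tu.Ctx`, `Cfsg.Agent.Lib.Helper40.Herm` (`HNondegOn`, `hperp`, `stdHerm`, ...),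
`Cfsg.Agent.Lib.Helper2.BG.Inv`, and `bOf`, `cOf` from `TuDefs`.
-/

set_option autoImplicit false

namespace Cfsg.Agent.Lib.Helper65.Und

open Cfsg.Agent.Lib.Helper40.Herm Cfsg.Agent.Lib.Helper2.BG Cfsg.Agent.Lib.Helper14.Tu

/-- nondegenerate subspace of the standard hermitian space, in the formulation of the statement -/
def Nd {F : Type*} [Field F] (n q : ℕ) (W : Submodule F (Fin n → F)) : Prop :=
  ∀ u ∈ W, u ≠ 0 → ∃ v ∈ W, Cfsg.hermForm n F q u v ≠ 0

/-- the matrix `A` fixes a nondegenerate `m`-space of the standard hermitian space -/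
def FixesNd {F : Type*} [Field F] (n q m : ℕ) (A : Matrix (Fin n) (Fin n) F) : Prop :=
  ∃ W : Submodule F (Fin n → F), Module.finrank F ↥W = m ∧ Nd n q W ∧ W.map (Matrix.toLin' A) ≤ W

/-- `A` is a unitary matrix (for the standard hermitian form) -/
def IsU {F : Type*} [Field F] (n q : ℕ) (A : Matrix (Fin n) (Fin n) F) : Prop :=
  ∀ u v : Fin n → F, Cfsg.hermForm n F q (A.mulVec u) (A.mulVec v) = Cfsg.hermForm n F q u v

/-- `A` is an anti-unitary matrix: it negates the standard hermitian form -/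
def IsAntiU {F : Type*} [Field F] (n q : ℕ) (A : Matrix (Fin n) (Fin n) F) : Prop :=
  ∀ u v : Fin n → F, Cfsg.hermForm n F q (A.mulVec u) (A.mulVec v) = - Cfsg.hermForm n F q u v

/-- the left side of S5954 on the level of matrices: every unitary matrix of determinant one which has
"order `r` modulo scalars" fixes a nondegenerate `m`-space -/
def AllFix (F : Type*) [Field F] (n q m r : ℕ) : Prop :=
  ∀ A : Matrix (Fin n) (Fin n) F, IsU n q A → A.det = 1 → (∃ z : F, A ^ r = z • 1) →
    (∀ z : F, A ≠ z • 1) → FixesNd n q m A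

/-- the partition condition of S5954 (i) -/
def PartCond (p n m : ℕ) : Prop :=
  ∀ μ : Multiset ℕ, (∀ a ∈ μ, 0 < a ∧ a ≤ p) → μ.sum = n → ∃ ν : Multiset ℕ, ν ≤ μ ∧ ν.sum = m

section abs
variable {F : Type*} [Field F] {τ : F →+* F} {V : Type*} [AddCommGroup V] [Module F V]

/-- abstract version: `g` fixes a nondegenerate `m`-dimensional subspace inside `Z` -/
def FixesIn (H : V →ₗ[F] V →ₛₗ[τ] F) (g : Module.End F V) (Z : Submodule F V) (m : ℕ) : Prop :=
  ∃ W : Submodule F V, W ≤ Z ∧ Inv g W ∧ HNondegOn H W ∧ Module.finrank F ↥W = m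

end abs

end Cfsg.Agent.Lib.Helper65.Und
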