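import Cfsg.Agent.Lib.Helper66.S3Defs

/-! # S3 hive (S4305), sub-lemma F1 of S3-ZS (helper65): `(xy)^r = x^r y^r` in class 2 when `[x,y]^r = 1`, `r` odd -/

set_option autoImplicit false

namespace Cfsg.Agent.Lib.Helper66.S3

/-- `y^n x = w^n x y^n` for a central `w` with `y x = w x y` -/
theorem zspow_aux1 {H : Type*} [Group H] (x y w : H) (hw : ∀ g : H, w * g = g * w) (hyx : y * x = w * x * y)
    (n : ℕ) : y ^ n * x = w ^ n * x * y ^ n := by
  induction n with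
  | zero => simp
  | succ n ih =>
    have hwn : ∀ g : H, w ^ n * g = g * w ^ n := fun g => ((Commute.pow_left (hw g) n)).eq
    calc y ^ (n + 1) * x = y ^ n * (y * x) := by rw [pow_succ, mul_assoc]
      _ = y ^ n * (w * x * y) := by rw [hyx]
      _ = w * (y ^ n * x) * y := by rw [mul_assoc w x y, ← mul_assoc (y ^ n) w, ← hw (y ^ n)]; group
      _ = w * (w ^ n * x * y ^ n) * y := by rw [ih]
      _ = w ^ (n + 1) * x * y ^ (n + 1) := by rw [pow_succ' w n, pow_succ y n]; group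

/-- `(xy)^n = x^n y^n w^{n(n-1)/2}` for a central `w` with `y x = w x y` -/
theorem zspow_aux2 {H : Type*} [Group H] (x y w : H) (hw : ∀ g : H, w * g = g * w) (hyx : y * x = w * x * y)
    (n : ℕ) : (x * y) ^ n = x ^ n * y ^ n * w ^ (n * (n - 1) / 2) := by
  induction n with
  | zero => simp
  | succ n ih =>
    have hwk : ∀ (k : ℕ) (g : H), w ^ k * g = g * w ^ k := fun k g => ((Commute.pow_left (hw g) k)).eq
    have ht : (n + 1) * (n + 1 - 1) / 2 = n * (n - 1) / 2 + n := Nat.triangle_succ n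
    rw [ht, pow_succ, ih]
    calc x ^ n * y ^ n * w ^ (n * (n - 1) / 2) * (x * y)
        = x ^ n * (y ^ n * x) * y * w ^ (n * (n - 1) / 2) := by
          rw [mul_assoc (x ^ n * y ^ n), hwk (n * (n - 1) / 2) (x * y)]; group
      _ = x ^ n * (w ^ n * x * y ^ n) * y * w ^ (n * (n - 1) / 2) := by rw [zspow_aux1 x y w hw hyx n]
      _ = x ^ n * (w ^ n * (x * y ^ n)) * y * w ^ (n * (n - 1) / 2) := by group
      _ = x ^ n * ((x * y ^ n) * w ^ n) * y * w ^ (n * (n - 1) / 2) := by rw [hwk n (x * y ^ n)]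
      _ = x ^ n * x * y ^ n * (w ^ n * y) * w ^ (n * (n - 1) / 2) := by group
      _ = x ^ n * x * y ^ n * (y * w ^ n) * w ^ (n * (n - 1) / 2) := by rw [hwk n y]
      _ = x ^ n * x * (y ^ n * y) * (w ^ n * w ^ (n * (n - 1) / 2)) := by group
      _ = x ^ (n + 1) * y ^ (n + 1) * w ^ (n * (n - 1) / 2 + n) := by
          rw [← pow_succ, ← pow_succ, ← pow_add, Nat.add_comm n (n * (n - 1) / 2)]

/-- F1: in class 2, `(xy)^r = x^r y^r` when `[x,y]^r = 1` and `r` is odd. -/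
theorem zs_pow_mul {H : Type*} [Group H] (r : ℕ) (hr : Odd r) (x y : H)
    (hc : ∀ g : H, (x * y * x⁻¹ * y⁻¹) * g = g * (x * y * x⁻¹ * y⁻¹))
    (hk : (x * y * x⁻¹ * y⁻¹) ^ r = 1) : (x * y) ^ r = x ^ r * y ^ r := by
  have hw : ∀ g : H, (x * y * x⁻¹ * y⁻¹)⁻¹ * g = g * (x * y * x⁻¹ * y⁻¹)⁻¹ := by
    intro g
    have := hc g
    calc (x * y * x⁻¹ * y⁻¹)⁻¹ * g
        = (x * y * x⁻¹ * y⁻¹)⁻¹ * (g * (x * y * x⁻¹ * y⁻¹)) * (x * y * x⁻¹ * y⁻¹)⁻¹ := by group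
      _ = (x * y * x⁻¹ * y⁻¹)⁻¹ * ((x * y * x⁻¹ * y⁻¹) * g) * (x * y * x⁻¹ * y⁻¹)⁻¹ := by rw [this]
      _ = g * (x * y * x⁻¹ * y⁻¹)⁻¹ := by group
  have hyx : y * x = (x * y * x⁻¹ * y⁻¹)⁻¹ * x * y := by group
  rw [zspow_aux2 x y _ hw hyx r]
  obtain ⟨m, rfl⟩ := hr
  have e : (2 * m + 1) * (2 * m + 1 - 1) / 2 = (2 * m + 1) * m := by
    have : (2 * m + 1) * (2 * m + 1 - 1) = 2 * ((2 * m + 1) * m) := by
      rw [Nat.add_sub_cancel]; ring
    rw [this, Nat.mul_div_cancel_left _ (by norm_num : 0 < 2)]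
  rw [e, pow_mul, inv_pow, hk, inv_one, one_pow, mul_one]

end Cfsg.Agent.Lib.Helper66.S3
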