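import Cfsg.Agent.Lib.Helper37.G2zDefs
import Cfsg.Agent.Lib.Helper36.ChevSolv
import Cfsg.Agent.Lib.Helper36.ChevBN

/-! # G2Z-LE (helper65, leaf of helper37's G2z mini-hive for S4279): `L₁L₂ ≤ C_G(t₀)` and `H ≤ C_G(t₀)` -/

set_option autoImplicit false

namespace Cfsg.Agent.Lib.Helper37.G2z

open Cfsg Cfsg.Lie Cfsg.Agent.Lib.Helper36 Cfsg.Agent.Lib.Helper20.G2c Cfsg.Agent.Lib.Helper18

variable (F : Type*) [Field F]

theorem g2zle_gc : ∀ r ∈ [6, 5, 9, 2], r < chevG2.nroots ∧ (gc chevG2 6 r = 2 ∨ gc chevG2 6 r = -2 ∨ gc chevG2 6 r = 0) := by decide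

/-- `t₀` commutes with the root elements of the roots `±b`, `±(2a+b)` -/
theorem g2zle_comm (r : ℕ) (hr : r ∈ [6, 5, 9, 2]) (u : F) :
    xGL chevG2 hG2 F r u * t0 F = t0 F * xGL chevG2 hG2 F r u := by
  obtain ⟨hr', hg⟩ := g2zle_gc r hr
  have h := hGL_conj_xGL chevG2 hG2 F 6 r (by decide) hr' (-1) (by simp) u
  have h1 : ((-1 : F)) ^ (gc chevG2 6 r) = 1 := by
    rcases hg with e | e | e
    · rw [e]; norm_num
    · rw [e]; norm_num
    · rw [e]; norm_num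
  rw [h1, one_mul] at h
  unfold t0
  calc xGL chevG2 hG2 F r u * hGL chevG2 hG2 F 6 (-1)
      = (hGL chevG2 hG2 F 6 (-1) * xGL chevG2 hG2 F r u * (hGL chevG2 hG2 F 6 (-1))⁻¹) * hGL chevG2 hG2 F 6 (-1) := by
        rw [h]
    _ = hGL chevG2 hG2 F 6 (-1) * xGL chevG2 hG2 F r u := by group

theorem g2zle_root (r : ℕ) (hr : r ∈ [6, 5, 9, 2]) : chevG2.rootSubgroup F r ≤ CC F := by
  intro g hg
  obtain ⟨u, rfl⟩ := (mem_rootSubgroup_iff chevG2 hG2 F r g).1 hg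
  refine Subgroup.mem_inf.2 ⟨xGL_mem_group chevG2 hG2 F r u, ?_⟩
  rw [Subgroup.mem_centralizer_iff]
  intro z hz
  rw [Set.mem_singleton_iff] at hz
  rw [hz]
  exact (g2zle_comm F r hr u).symm

/-- G2Z-LE (a) -/
theorem LL_le_CC : LL F ≤ CC F := by
  unfold LL L1 L2
  exact sup_le (sup_le (g2zle_root F 6 (by simp)) (g2zle_root F 5 (by simp)))
    (sup_le (g2zle_root F 9 (by simp)) (g2zle_root F 2 (by simp)))

/-- G2Z-LE (b) -/
theorem H_le_CC (h2 : (2 : F) ≠ 0) : chevG2.diagonalSubgroup F ≤ CC F := by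
  intro h hh
  refine Subgroup.mem_inf.2 ⟨diagonal_le_group chevG2 hG2 F hh, ?_⟩
  rw [Subgroup.mem_centralizer_iff]
  intro z hz
  rw [Set.mem_singleton_iff] at hz
  rw [hz]
  have ht : t0 F ∈ chevG2.diagonalSubgroup F := hGL_mem_diag chevG2 hG2 F 6 (by decide) (-1) (by simp)
  exact diagonal_comm chevG2 hG2 F _ _ ht hh

end Cfsg.Agent.Lib.Helper37.G2z
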