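import Cfsg.Agent.Lib.Helper37.GtDefs2
import Cfsg.Agent.Lib.Helper36.ChevTwPerf

/-! # GT-SIG (helper65, leaf of helper37's Gt hive for S2734): `σ` fixes the folded root elements `yGL F s t` -/

set_option autoImplicit false

namespace Cfsg.Agent.Lib.Helper37.Gt

open Cfsg Cfsg.Lie Cfsg.Agent.Lib.Helper36

variable {F : Type*} [Field F]

/-- a root element of a `σ`-fixed root with sign `+1` is fixed -/
theorem sig_single (r : ℕ) (hr : r < chevD4.nroots) (hρ : graphD4.ρ r = r) (hε : graphD4.ε r = 1) (u : F) :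
    sig F (xGL chevD4 hD4 F r u) = xGL chevD4 hD4 F r u := by
  unfold sig
  rw [sigma_xGL chevD4 hD4 graphD4 graphOK_D4 F (RingHom.id F) r hr, hρ, hε]
  simp

/-- a triality orbit `a → b → c → a` of pairwise commuting root elements -/
theorem sig_triple (a b c : ℕ) (ha : a < chevD4.nroots) (hb : b < chevD4.nroots) (hc : c < chevD4.nroots)
    (hρa : graphD4.ρ a = b) (hρb : graphD4.ρ b = c) (hρc : graphD4.ρ c = a)
    (hab : ∀ t u : F, Commute (xGL chevD4 hD4 F a t) (xGL chevD4 hD4 F b u))
    (hac : ∀ t u : F, Commute (xGL chevD4 hD4 F a t) (xGL chevD4 hD4 F c u))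
    (u1 u2 u3 : F) (h1 : ((graphD4.ε c : ℤ) : F) * u3 = u1) (h2 : ((graphD4.ε a : ℤ) : F) * u1 = u2)
    (h3 : ((graphD4.ε b : ℤ) : F) * u2 = u3) :
    sig F (xGL chevD4 hD4 F a u1 * xGL chevD4 hD4 F b u2 * xGL chevD4 hD4 F c u3) =
      xGL chevD4 hD4 F a u1 * xGL chevD4 hD4 F b u2 * xGL chevD4 hD4 F c u3 := by
  unfold sig
  rw [map_mul, map_mul, sigma_xGL chevD4 hD4 graphD4 graphOK_D4 F (RingHom.id F) a ha,
    sigma_xGL chevD4 hD4 graphD4 graphOK_D4 F (RingHom.id F) b hb,
    sigma_xGL chevD4 hD4 graphD4 graphOK_D4 F (RingHom.id F) c hc, hρa, hρb, hρc]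
  simp only [RingHom.id_apply]
  rw [h1, h2, h3]
  have e := ((hab u1 u2).mul_right (hac u1 u3)).eq
  rw [← e, mul_assoc]

theorem sig_nil (r s : ℕ) (hr : r < chevD4.nroots) (hs : s < chevD4.nroots) (hrs : s ≠ r) (hneg : s ≠ chevD4.neg r)
    (hterms : chevD4.commTerms r s = []) (t u : F) :
    Commute (xGL chevD4 hD4 F r t) (xGL chevD4 hD4 F s u) :=
  xGL_commute_of_nil chevD4 hD4 F r s hr hs hrs hneg hterms t u

theorem sig_y0 (t : F) : yGL F 0 t = xGL chevD4 hD4 F 0 (-t) := by
  simp [yGL, yWord, gtTab, wordGL]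
theorem sig_y1 (t : F) : yGL F 1 t = xGL chevD4 hD4 F 1 (-t) := by
  simp [yGL, yWord, gtTab, wordGL]
theorem sig_y2 (t : F) : yGL F 2 t = xGL chevD4 hD4 F 2 (-t) * xGL chevD4 hD4 F 6 t * xGL chevD4 hD4 F 3 (-t) := by
  simp [yGL, yWord, gtTab, wordGL, mul_assoc]
theorem sig_y3 (t : F) : yGL F 3 t = xGL chevD4 hD4 F 4 t * xGL chevD4 hD4 F 7 (-t) * xGL chevD4 hD4 F 8 (-t) := by
  simp [yGL, yWord, gtTab, wordGL, mul_assoc]
theorem sig_y4 (t : F) : yGL F 4 t = xGL chevD4 hD4 F 5 t * xGL chevD4 hD4 F 10 t * xGL chevD4 hD4 F 11 t := by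
  simp [yGL, yWord, gtTab, wordGL, mul_assoc]
theorem sig_y5 (t : F) : yGL F 5 t = xGL chevD4 hD4 F 9 t := by
  simp [yGL, yWord, gtTab, wordGL]
theorem sig_y6 (t : F) : yGL F 6 t = xGL chevD4 hD4 F 14 t := by
  simp [yGL, yWord, gtTab, wordGL]
theorem sig_y7 (t : F) : yGL F 7 t = xGL chevD4 hD4 F 12 t * xGL chevD4 hD4 F 18 t * xGL chevD4 hD4 F 13 t := by
  simp [yGL, yWord, gtTab, wordGL, mul_assoc]
theorem sig_y8 (t : F) : yGL F 8 t = xGL chevD4 hD4 F 15 (-t) * xGL chevD4 hD4 F 19 t * xGL chevD4 hD4 F 16 (-t) := by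
  simp [yGL, yWord, gtTab, wordGL, mul_assoc]
theorem sig_y9 (t : F) : yGL F 9 t = xGL chevD4 hD4 F 17 t * xGL chevD4 hD4 F 20 (-t) * xGL chevD4 hD4 F 21 (-t) := by
  simp [yGL, yWord, gtTab, wordGL, mul_assoc]
theorem sig_y10 (t : F) : yGL F 10 t = xGL chevD4 hD4 F 22 (-t) := by
  simp [yGL, yWord, gtTab, wordGL]
theorem sig_y11 (t : F) : yGL F 11 t = xGL chevD4 hD4 F 23 (-t) := by
  simp [yGL, yWord, gtTab, wordGL]

theorem sig_c2_6 : chevD4.commTerms 2 6 = [] := by decide +kernel
theorem sig_c2_3 : chevD4.commTerms 2 3 = [] := by decide +kernel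
theorem sig_c4_7 : chevD4.commTerms 4 7 = [] := by decide +kernel
theorem sig_c4_8 : chevD4.commTerms 4 8 = [] := by decide +kernel
theorem sig_c5_10 : chevD4.commTerms 5 10 = [] := by decide +kernel
theorem sig_c5_11 : chevD4.commTerms 5 11 = [] := by decide +kernel
theorem sig_c12_18 : chevD4.commTerms 12 18 = [] := by decide +kernel
theorem sig_c12_13 : chevD4.commTerms 12 13 = [] := by decide +kernel
theorem sig_c15_19 : chevD4.commTerms 15 19 = [] := by decide +kernel
theorem sig_c15_16 : chevD4.commTerms 15 16 = [] := by decide +kernel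
theorem sig_c17_20 : chevD4.commTerms 17 20 = [] := by decide +kernel
theorem sig_c17_21 : chevD4.commTerms 17 21 = [] := by decide +kernel

/-- GT-SIG -/
theorem sig_yGL (s : ℕ) (hs : s < 12) (t : F) : sig F (yGL F s t) = yGL F s t := by
  interval_cases s
  · rw [sig_y0]; exact sig_single 0 (by decide) (by decide) (by decide) _
  · rw [sig_y1]; exact sig_single 1 (by decide) (by decide) (by decide) _
  · rw [sig_y2]
    exact sig_triple 2 6 3 (by decide) (by decide) (by decide) (by decide) (by decide) (by decide)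
      (sig_nil 2 6 (by decide) (by decide) (by decide) (by decide) sig_c2_6)
      (sig_nil 2 3 (by decide) (by decide) (by decide) (by decide) sig_c2_3) _ _ _
      (by rw [(show graphD4.ε 3 = 1 by decide)]; simp) (by rw [(show graphD4.ε 2 = -1 by decide)]; simp) (by rw [(show graphD4.ε 6 = -1 by decide)]; simp)
  · rw [sig_y3]
    exact sig_triple 4 7 8 (by decide) (by decide) (by decide) (by decide) (by decide) (by decide)
      (sig_nil 4 7 (by decide) (by decide) (by decide) (by decide) sig_c4_7)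
      (sig_nil 4 8 (by decide) (by decide) (by decide) (by decide) sig_c4_8) _ _ _
      (by rw [(show graphD4.ε 8 = -1 by decide)]; simp) (by rw [(show graphD4.ε 4 = -1 by decide)]; simp) (by rw [(show graphD4.ε 7 = 1 by decide)]; simp)
  · rw [sig_y4]
    exact sig_triple 5 10 11 (by decide) (by decide) (by decide) (by decide) (by decide) (by decide)
      (sig_nil 5 10 (by decide) (by decide) (by decide) (by decide) sig_c5_10)
      (sig_nil 5 11 (by decide) (by decide) (by decide) (by decide) sig_c5_11) _ _ _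
      (by rw [(show graphD4.ε 11 = 1 by decide)]; simp) (by rw [(show graphD4.ε 5 = 1 by decide)]; simp) (by rw [(show graphD4.ε 10 = 1 by decide)]; simp)
  · rw [sig_y5]; exact sig_single 9 (by decide) (by decide) (by decide) _
  · rw [sig_y6]; exact sig_single 14 (by decide) (by decide) (by decide) _
  · rw [sig_y7]
    exact sig_triple 12 18 13 (by decide) (by decide) (by decide) (by decide) (by decide) (by decide)
      (sig_nil 12 18 (by decide) (by decide) (by decide) (by decide) sig_c12_18)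
      (sig_nil 12 13 (by decide) (by decide) (by decide) (by decide) sig_c12_13) _ _ _
      (by rw [(show graphD4.ε 13 = 1 by decide)]; simp) (by rw [(show graphD4.ε 12 = 1 by decide)]; simp) (by rw [(show graphD4.ε 18 = 1 by decide)]; simp)
  · rw [sig_y8]
    exact sig_triple 15 19 16 (by decide) (by decide) (by decide) (by decide) (by decide) (by decide)
      (sig_nil 15 19 (by decide) (by decide) (by decide) (by decide) sig_c15_19)
      (sig_nil 15 16 (by decide) (by decide) (by decide) (by decide) sig_c15_16) _ _ _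
      (by rw [(show graphD4.ε 16 = 1 by decide)]; simp) (by rw [(show graphD4.ε 15 = -1 by decide)]; simp) (by rw [(show graphD4.ε 19 = -1 by decide)]; simp)
  · rw [sig_y9]
    exact sig_triple 17 20 21 (by decide) (by decide) (by decide) (by decide) (by decide) (by decide)
      (sig_nil 17 20 (by decide) (by decide) (by decide) (by decide) sig_c17_20)
      (sig_nil 17 21 (by decide) (by decide) (by decide) (by decide) sig_c17_21) _ _ _
      (by rw [(show graphD4.ε 21 = -1 by decide)]; simp) (by rw [(show graphD4.ε 17 = -1 by decide)]; simp) (by rw [(show graphD4.ε 20 = 1 by decide)]; simp)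
  · rw [sig_y10]; exact sig_single 22 (by decide) (by decide) (by decide) _
  · rw [sig_y11]; exact sig_single 23 (by decide) (by decide) (by decide) _

end Cfsg.Agent.Lib.Helper37.Gt
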