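import Cfsg.Agent.Lib.Helper37.GtDefs2
import Cfsg.Agent.Lib.Helper36.ChevTwPerf

/-! # GT-TWG (helper65, leaf of helper37's Gt hive for S2734): `twG F` is generated by the `yGL F s t` -/

set_option autoImplicit false

namespace Cfsg.Agent.Lib.Helper37.Gt

open Cfsg Cfsg.Lie Cfsg.Agent.Lib.Helper36

variable {F : Type*} [Field F]

theorem twg_y4 (t : F) : yGL F 4 t = xGL chevD4 hD4 F 5 t * xGL chevD4 hD4 F 10 t * xGL chevD4 hD4 F 11 t := by
  simp [yGL, yWord, gtTab, wordGL, mul_assoc]
theorem twg_y5 (t : F) : yGL F 5 t = xGL chevD4 hD4 F 9 t := by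
  simp [yGL, yWord, gtTab, wordGL]
theorem twg_y6 (t : F) : yGL F 6 t = xGL chevD4 hD4 F 14 t := by
  simp [yGL, yWord, gtTab, wordGL]
theorem twg_y7 (t : F) : yGL F 7 t = xGL chevD4 hD4 F 12 t * xGL chevD4 hD4 F 18 t * xGL chevD4 hD4 F 13 t := by
  simp [yGL, yWord, gtTab, wordGL, mul_assoc]

theorem twg_c12_18 : chevD4.commTerms 12 18 = [] := by decide +kernel
theorem twg_c12_13 : chevD4.commTerms 12 13 = [] := by decide +kernel

/-- `x_18(t) x_13(t) x_12(t) = yGL F 7 t` -/
theorem twg_p (t : F) :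
    xGL chevD4 hD4 F 18 t * xGL chevD4 hD4 F 13 t * xGL chevD4 hD4 F 12 t = yGL F 7 t := by
  rw [twg_y7]
  have hab : Commute (xGL chevD4 hD4 F 12 t) (xGL chevD4 hD4 F 18 t) :=
    xGL_commute_of_nil chevD4 hD4 F 12 18 (by decide) (by decide) (by decide) (by decide) twg_c12_18 t t
  have hac : Commute (xGL chevD4 hD4 F 12 t) (xGL chevD4 hD4 F 13 t) :=
    xGL_commute_of_nil chevD4 hD4 F 12 13 (by decide) (by decide) (by decide) (by decide) twg_c12_13 t t
  have e := (hab.mul_right hac).eq
  rw [mul_assoc (xGL chevD4 hD4 F 12 t), e]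

/-- GT-TWG -/
theorem twG_le (K : Subgroup (GL chevD4.Idx F)) (hK : ∀ s < 12, ∀ t : F, yGL F s t ∈ K) : twG F ≤ K := by
  have eρ : ∀ r, r ∈ [18, 13, 12, 14, 5, 10, 11, 9] → graphD4.ε (graphD4.ρi r) = 1 := by decide
  have e1 : graphD4.ρi 18 = 12 := by decide
  have e2 : graphD4.ρi 13 = 18 := by decide
  have e3 : graphD4.ρi 12 = 13 := by decide
  have e5 : graphD4.ρi 5 = 11 := by decide
  have e6 : graphD4.ρi 10 = 5 := by decide
  have e7 : graphD4.ρi 11 = 10 := by decide
  have hp1 : pBlock chevD4 [0, 2, 3] = [18, 13, 12] := by decide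
  have hp2 : pBlock chevD4 [1] = [14] := by decide
  have hn1 : nBlock chevD4 [0, 2, 3] = [5, 10, 11] := by decide
  have hn2 : nBlock chevD4 [1] = [9] := by decide
  have htw : ∀ (a : ℕ → F) (r : ℕ), r ∈ [18, 13, 12, 14, 5, 10, 11, 9] →
      tw graphD4 F (RingHom.id F) a r = a (graphD4.ρi r) := by
    intro a r hr
    unfold tw
    rw [eρ r hr]
    simp
  unfold twG twGroup
  rw [Subgroup.closure_le]
  rintro g ⟨J, hJ, B, hB, a, ha, rfl⟩
  simp only [fundD4, List.mem_cons, List.not_mem_nil, or_false] at hJ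
  rcases hJ with rfl | rfl
  · rw [hp1, hn1] at hB
    simp only [List.mem_cons, List.not_mem_nil, or_false] at hB
    rcases hB with rfl | rfl
    · have a13 := ha 13 (by simp)
      have a12 := ha 12 (by simp)
      rw [htw _ 13 (by simp), e2] at a13
      rw [htw _ 12 (by simp), e3, a13] at a12
      have : wordGL chevD4 hD4 F ([18, 13, 12].map fun r => (r, a r)) = yGL F 7 (a 18) := by
        rw [← twg_p]
        simp [wordGL, mul_assoc, a13, a12]
      show wordGL chevD4 hD4 F ([18, 13, 12].map fun r => (r, a r)) ∈ K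
      rw [this]
      exact hK 7 (by norm_num) _
    · have a10 := ha 10 (by simp)
      have a11 := ha 11 (by simp)
      rw [htw _ 10 (by simp), e6] at a10
      rw [htw _ 11 (by simp), e7, a10] at a11
      have : wordGL chevD4 hD4 F ([5, 10, 11].map fun r => (r, a r)) = yGL F 4 (a 5) := by
        rw [twg_y4]
        simp [wordGL, mul_assoc, a10, a11]
      show wordGL chevD4 hD4 F ([5, 10, 11].map fun r => (r, a r)) ∈ K
      rw [this]
      exact hK 4 (by norm_num) _
  · rw [hp2, hn2] at hB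
    simp only [List.mem_cons, List.not_mem_nil, or_false] at hB
    rcases hB with rfl | rfl
    · have : wordGL chevD4 hD4 F ([14].map fun r => (r, a r)) = yGL F 6 (a 14) := by
        rw [twg_y6]
        simp [wordGL]
      show wordGL chevD4 hD4 F ([14].map fun r => (r, a r)) ∈ K
      rw [this]
      exact hK 6 (by norm_num) _
    · have : wordGL chevD4 hD4 F ([9].map fun r => (r, a r)) = yGL F 5 (a 9) := by
        rw [twg_y5]
        simp [wordGL]
      show wordGL chevD4 hD4 F ([9].map fun r => (r, a r)) ∈ K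
      rw [this]
      exact hK 5 (by norm_num) _

end Cfsg.Agent.Lib.Helper37.Gt
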