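import Cfsg.Agent.Lib.Helper43.FwDefs
import Cfsg.Agent.Lib.Helper53.SLPair

/-! # FW-NOUT (helper65, leaf of helper43's Fw hive for S3211): `n ∉ L₁L₂` -/

set_option autoImplicit false

namespace Cfsg.Agent.Lib.Helper43.Fw

variable {G : Type*} [Group G] {L₁ L₂ : Subgroup G} {j n : G}

/-- FW-NOUT: `n ∉ Y` (else `n` normalises `L₁`, so `n x n⁻¹ ∈ L₁ ⊓ L₂ = ⟨j⟩` for the `x` of ex1, but its square is `j ≠ 1`). -/
theorem n_not_mem (h : Setup L₁ L₂ j n) : n ∉ L₁ ⊔ L₂ := by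
  intro hn
  obtain ⟨a, ha, b, hb, rfl⟩ := Cfsg.Agent.Lib.Helper53.mem_sup_of_commute' L₁ L₂ h.comm hn
  obtain ⟨x, hx, hxx⟩ := h.ex1
  -- `n x n⁻¹ ∈ L₂`
  have h2 : (a * b) * x * (a * b)⁻¹ ∈ L₂ := (h.swap x).1 hx
  -- `n x n⁻¹ = a x a⁻¹ ∈ L₁`
  have hbx : b * x = x * b := (h.comm x hx b hb).symm
  have e : (a * b) * x * (a * b)⁻¹ = a * x * a⁻¹ := by
    calc (a * b) * x * (a * b)⁻¹ = a * (b * x) * b⁻¹ * a⁻¹ := by group
      _ = a * (x * b) * b⁻¹ * a⁻¹ := by rw [hbx]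
      _ = a * x * a⁻¹ := by group
  have h1 : (a * b) * x * (a * b)⁻¹ ∈ L₁ := by
    rw [e]
    exact L₁.mul_mem (L₁.mul_mem ha hx) (L₁.inv_mem ha)
  have hz : (a * b) * x * (a * b)⁻¹ ∈ Subgroup.zpowers j := by
    rw [← h.inter]
    exact ⟨h1, h2⟩
  obtain ⟨k, hk⟩ := Subgroup.mem_zpowers_iff.1 hz
  -- the square of `n x n⁻¹` is `n j n⁻¹ = j`
  have hnj : (a * b) * j = j * (a * b) := by
    have := h.nmem
    rw [Subgroup.mem_centralizer_iff] at this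
    exact (this j (Set.mem_singleton j)).symm
  have hsq : ((a * b) * x * (a * b)⁻¹) * ((a * b) * x * (a * b)⁻¹) = j := by
    calc ((a * b) * x * (a * b)⁻¹) * ((a * b) * x * (a * b)⁻¹) = (a * b) * (x * x) * (a * b)⁻¹ := by group
      _ = (a * b) * j * (a * b)⁻¹ := by rw [hxx]
      _ = j * (a * b) * (a * b)⁻¹ := by rw [hnj]
      _ = j := by group
  -- but the square of `j ^ k` is `1`
  have hsq' : ((a * b) * x * (a * b)⁻¹) * ((a * b) * x * (a * b)⁻¹) = 1 := by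
    rw [← hk, ← zpow_add, ← two_mul, zpow_mul, zpow_two, h.jsq, one_zpow]
  exact h.jne (hsq.symm.trans hsq')

end Cfsg.Agent.Lib.Helper43.Fw
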