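import Mathlib
import Cfsg.Prelude.Def_GeometricClasses
import Cfsg.Agent.Lib.Helper44.UfDefs

set_option autoImplicit false
open scoped MatrixGroups
open Matrix
open scoped Kronecker

/-! UF-BAD2 (helper65, for helper44's S5982 hive): an element of `SL_n(q)` squaring to a nonsquare scalar. -/

namespace Cfsg.Agent.Lib.Helper44.Uf

universe v

variable {F : Type v} [Field F]

/-- in a finite field with `q₀ ^ 2` elements, `2 ≠ 0`, there is a nonsquare `ε` with `ε ^ m = 1` as soon as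
`2 ^ k ∣ m` where `q₀ ^ 2 - 1 = 2 ^ k * t`, `t` odd. -/
theorem bad2_exists_eps [Fintype F] {q₀ : ℕ} (hF : Fintype.card F = q₀ ^ 2) (h2 : (2 : F) ≠ 0)
    (m : ℕ) (hm : 2 ^ (padicValNat 2 (q₀ ^ 2 - 1)) ∣ m) :
    ∃ ε : F, ε ^ m = 1 ∧ ¬ IsSquare ε := by
  classical
  have hcard : Fintype.card Fˣ = q₀ ^ 2 - 1 := by rw [Fintype.card_units, hF]
  have hodd : Odd (Fintype.card F) := by
    have hchar : ringChar F ≠ 2 := by
      intro h
      apply h2
      have := ringChar.Nat.cast_ringChar (R := F)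
      rw [h] at this
      exact_mod_cast this
    exact Nat.odd_iff.2 (FiniteField.odd_card_of_char_ne_two hchar)
  have hq1 : 1 < q₀ ^ 2 := by rw [← hF]; exact Fintype.one_lt_card
  have hq0 : q₀ ^ 2 - 1 ≠ 0 := by omega
  have heven : 2 ∣ q₀ ^ 2 - 1 := by
    rw [hF] at hodd
    obtain ⟨c, hc⟩ := hodd
    exact ⟨c, by omega⟩
  obtain ⟨g, hg⟩ := IsCyclic.exists_generator (α := Fˣ)
  have hord : orderOf g = q₀ ^ 2 - 1 := by
    rw [orderOf_eq_card_of_forall_mem_zpowers hg, Nat.card_eq_fintype_card, hcard]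
  set k := padicValNat 2 (q₀ ^ 2 - 1) with hk
  set t := (q₀ ^ 2 - 1) / 2 ^ k with ht
  have hkt : 2 ^ k * t = q₀ ^ 2 - 1 := Nat.ordProj_mul_ordCompl_eq_self (q₀ ^ 2 - 1) 2
  have htodd : ¬ 2 ∣ t := Nat.not_dvd_ordCompl Nat.prime_two hq0
  refine ⟨((g ^ t : Fˣ) : F), ?_, ?_⟩
  · obtain ⟨c, rfl⟩ := hm
    rw [← Units.val_pow_eq_pow_val, ← pow_mul, ← mul_assoc, mul_comm t, hkt, pow_mul, ← hord,
      pow_orderOf_eq_one, one_pow, Units.val_one]
  · rintro ⟨w, hw⟩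
    have hw0 : w ≠ 0 := by
      rintro rfl
      rw [mul_zero] at hw
      exact (g ^ t).ne_zero hw
    obtain ⟨j, hj⟩ : ∃ j : ℕ, g ^ j = Units.mk0 w hw0 := by
      have h := (mem_zpowers_iff_mem_range_orderOf (x := g)).1 (hg (Units.mk0 w hw0))
      rw [Finset.mem_image] at h
      obtain ⟨j, _, hj⟩ := h
      exact ⟨j, hj⟩
    have h1 : g ^ t = g ^ (j + j) := by
      apply Units.ext
      rw [pow_add, hj, hw]
      rfl
    rw [pow_eq_pow_iff_modEq, hord] at h1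
    have h3 : t ≡ j + j [MOD 2] := h1.of_dvd heven
    apply htodd
    have : (j + j) % 2 = 0 := by omega
    exact Nat.dvd_of_mod_eq_zero (by rw [h3, this])

/-- `-1` is a square in a field with `q₀ ^ 2` elements -/
theorem bad2_isSquare_neg_one [Fintype F] {q₀ : ℕ} (hF : Fintype.card F = q₀ ^ 2) :
    IsSquare (-1 : F) := by
  rw [FiniteField.isSquare_neg_one_iff, hF]
  have : q₀ % 4 = 0 ∨ q₀ % 4 = 1 ∨ q₀ % 4 = 2 ∨ q₀ % 4 = 3 := by omega
  rcases this with h | h | h | h <;> simp [pow_two, Nat.mul_mod, h]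

/-- the `2 × 2` block -/
def bad2_B (z : F) : Matrix (Fin 2) (Fin 2) F := !![0, z; 1, 0]

theorem bad2_B_mul (z : F) : bad2_B z * bad2_B z = z • (1 : Matrix (Fin 2) (Fin 2) F) := by
  ext i j
  fin_cases i <;> fin_cases j <;> simp [bad2_B, Matrix.mul_apply, Fin.sum_univ_two]

theorem bad2_B_det (z : F) : (bad2_B z).det = -z := by
  simp [bad2_B, Matrix.det_fin_two]

/-- the block sum of `m` copies of the block, on `Fin (m * 2)` -/
noncomputable def bad2_X (m : ℕ) (z : F) : Matrix (Fin (m * 2)) (Fin (m * 2)) F :=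
  Matrix.reindexAlgEquiv F F finProdFinEquiv
    ((1 : Matrix (Fin m) (Fin m) F) ⊗ₖ bad2_B z)

theorem bad2_X_mul (m : ℕ) (z : F) :
    bad2_X m z * bad2_X m z = z • (1 : Matrix (Fin (m * 2)) (Fin (m * 2)) F) := by
  unfold bad2_X
  rw [← map_mul, ← Matrix.mul_kronecker_mul, bad2_B_mul, one_mul, Matrix.kronecker_smul,
    Matrix.one_kronecker_one, map_smul, map_one]

theorem bad2_X_det (m : ℕ) (z : F) : (bad2_X m z).det = (-z) ^ m := by
  unfold bad2_X
  rw [Matrix.det_reindexAlgEquiv, Matrix.det_kronecker, Matrix.det_one, one_pow, one_mul, bad2_B_det,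
    Fintype.card_fin]

/-- UF-BAD2 -/
theorem exists_nonsquare_type [Fintype F] {n q₀ : ℕ} (hF : Fintype.card F = q₀ ^ 2) (h2 : (2 : F) ≠ 0)
    (hn : 1 ≤ n) (hlt : padicValNat 2 (q₀ ^ 2 - 1) < padicValNat 2 n) :
    ∃ (x : GL (Fin n) F) (z : F), x ∈ Cfsg.Geo.specialLinear (Fin n) F ∧
      (x : Matrix (Fin n) (Fin n) F) * (x : Matrix (Fin n) (Fin n) F) = z • (1 : Matrix (Fin n) (Fin n) F) ∧
      ¬ IsSquare z := by
  classical
  have hn0 : n ≠ 0 := by omega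
  set k := padicValNat 2 (q₀ ^ 2 - 1) with hk
  have hdvd : 2 ^ (k + 1) ∣ n := (padicValNat_dvd_iff_le hn0).2 hlt
  obtain ⟨c, hc⟩ := hdvd
  obtain ⟨m, rfl, hkm⟩ : ∃ m, n = m * 2 ∧ 2 ^ k ∣ m := ⟨2 ^ k * c, by rw [hc, pow_succ]; ring, ⟨c, rfl⟩⟩
  obtain ⟨ε, hεm, hεsq⟩ := bad2_exists_eps hF h2 m hkm
  have hdet : (bad2_X m (-ε)).det = 1 := by rw [bad2_X_det, neg_neg, hεm]
  refine ⟨Matrix.GeneralLinearGroup.mkOfDetNeZero (bad2_X m (-ε)) (by rw [hdet]; exact one_ne_zero), -ε,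
    ?_, bad2_X_mul m (-ε), ?_⟩
  · unfold Cfsg.Geo.specialLinear
    rw [MonoidHom.mem_ker]
    apply Units.ext
    rw [Matrix.GeneralLinearGroup.val_det_apply]
    exact hdet
  · rintro ⟨w, hw⟩
    obtain ⟨i, hi⟩ := bad2_isSquare_neg_one hF
    apply hεsq
    refine ⟨i * w, ?_⟩
    have : ε = -1 * (w * w) := by rw [← hw]; ring
    rw [this, hi]; ring

end Cfsg.Agent.Lib.Helper44.Uf
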