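import Mathlib
import Cfsg.Agent.Lib.Helper5.BalRed
import Cfsg.Agent.Lib.Helper5.AutPSUOut
import Cfsg.Agent.Lib.Helper45.UAutCoset
import Cfsg.Agent.Lib.Helper13.SU3Inv1
import Cfsg.Agent.Lib.Helper99.UnitaryBase

/-! # S2687 hive, leaves BALU-DESC-S / BALU-DESC-A (helper65)

Descent of a symmetric / skew unitary matrix `g` to the fixed field of `σ = (·)^q`. -/

set_option autoImplicit false
set_option linter.unusedVariables false

namespace Cfsg.Agent.Lib.Helper5.BalU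

open Matrix Cfsg.Agent.Lib.Helper5.AutPSU Cfsg.Agent.Lib.Helper45.UAut
  Cfsg.Agent.Lib.Helper5.BalE Cfsg.Agent.Lib.Helper5.Bal
open Cfsg.Agent.Lib.Helper45.SpAut (fixK mem_fixK)
open Cfsg.Agent.Lib.Helper45.AutPSL (tw tw_succ tw_zero glS glS_val h90_GL)
open Cfsg.Agent.Lib.Helper5.AutPSLn (glInvT glInvT_coe glInvT_inv_coe mem_GU_iff_mul)

/-- pure group theory: the descent equivalence -/
theorem desc_core {G : Type*} [Group G] (S T : G →* G) (g a : G) (h1 : g * S a = a) (x : G) :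
    (S x = T x ∧ x * g = g * T x) ↔
      ∃ Y : G, S Y = Y ∧ Y * (a⁻¹ * g * T a) = (a⁻¹ * g * T a) * T Y ∧ x = a * Y * a⁻¹ := by
  have hSa : S a = g⁻¹ * a := by rw [eq_inv_mul_iff_mul_eq]; exact h1
  constructor
  · rintro ⟨hS, hx⟩
    have hTx : T x = g⁻¹ * x * g := by rw [mul_assoc, hx]; group
    refine ⟨a⁻¹ * x * a, ?_, ?_, by group⟩
    · rw [map_mul, map_mul, map_inv, hSa, hS, hTx]; group
    · rw [map_mul, map_mul, map_inv, hTx]; group
  · rintro ⟨Y, hSY, hY, rfl⟩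
    have hTY : T Y = (a⁻¹ * g * T a)⁻¹ * Y * (a⁻¹ * g * T a) := by rw [mul_assoc, hY]; group
    have hxg : a * Y * a⁻¹ * g = g * T (a * Y * a⁻¹) := by
      rw [map_mul, map_mul, map_inv, hTY]; group
    refine ⟨?_, hxg⟩
    have hT : T (a * Y * a⁻¹) = g⁻¹ * (a * Y * a⁻¹ * g) := by rw [hxg]; group
    rw [hT, map_mul, map_mul, map_inv, hSa, hSY]; group

/-- pure group theory: the descended form is `S`-fixed -/
theorem desc_fixed {G : Type*} [Group G] (S T : G →* G) (g a N Θ : G)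
    (hST : S (T a) = T (S a)) (h1 : g * S a = a) (hSg : S g = g⁻¹) (hTg : T g = N * g⁻¹)
    (hN : ∀ u : G, N * u = u * N) (hΘ : S Θ = N * Θ) :
    S (Θ * (a⁻¹ * g * T a)) = Θ * (a⁻¹ * g * T a) := by
  have hSa : S a = g⁻¹ * a := by rw [eq_inv_mul_iff_mul_eq]; exact h1
  rw [map_mul, map_mul, map_mul, map_inv, hST, hSa, hSg, hΘ, map_mul, map_inv, hTg]
  have e1 : N * Θ * ((g⁻¹ * a)⁻¹ * g⁻¹ * ((N * g⁻¹)⁻¹ * T a)) =
      N * (Θ * a⁻¹ * g) * N⁻¹ * T a := by group
  rw [e1, hN]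
  group

section aux

variable {F : Type*} [Field F] {n : ℕ}

/-- `xᵀ x̄ = 1` in group form -/
theorem desc_unitary_iff (σ : F ≃+* F) (X : GL (Fin n) F) :
    X.1ᵀ * X.1.map σ = 1 ↔ glS σ X = glInvT X := by
  have hinv : ((X⁻¹).1)ᵀ * X.1ᵀ = 1 := by
    rw [← Matrix.transpose_mul, ← Units.val_mul, mul_inv_cancel]; simp
  have hinv' : X.1ᵀ * ((X⁻¹).1)ᵀ = 1 := by
    rw [← Matrix.transpose_mul, ← Units.val_mul, inv_mul_cancel]; simp
  constructor
  · intro h
    apply Units.ext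
    rw [glS_val, glInvT_coe]
    calc X.1.map σ = ((X⁻¹).1)ᵀ * (X.1ᵀ * X.1.map σ) := by
          rw [← Matrix.mul_assoc, hinv, Matrix.one_mul]
      _ = ((X⁻¹).1)ᵀ := by rw [h, Matrix.mul_one]
  · intro h
    have h' := congrArg Units.val h
    rw [glS_val, glInvT_coe] at h'
    rw [h', hinv']

/-- `x g xᵀ = g` in group form -/
theorem desc_form_iff (X g : GL (Fin n) F) :
    X.1 * g.1 * X.1ᵀ = g.1 ↔ X * g = g * glInvT X := by
  have hinv' : X.1ᵀ * ((X⁻¹).1)ᵀ = 1 := by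
    rw [← Matrix.transpose_mul, ← Units.val_mul, inv_mul_cancel]; simp
  have hinv : ((X⁻¹).1)ᵀ * X.1ᵀ = 1 := by
    rw [← Matrix.transpose_mul, ← Units.val_mul, mul_inv_cancel]; simp
  constructor
  · intro h
    apply Units.ext
    rw [Units.val_mul, Units.val_mul, glInvT_coe]
    calc X.1 * g.1 = X.1 * g.1 * (X.1ᵀ * ((X⁻¹).1)ᵀ) := by rw [hinv', Matrix.mul_one]
      _ = (X.1 * g.1 * X.1ᵀ) * ((X⁻¹).1)ᵀ := by simp only [Matrix.mul_assoc]
      _ = g.1 * ((X⁻¹).1)ᵀ := by rw [h]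
  · intro h
    have h' := congrArg Units.val h
    rw [Units.val_mul, Units.val_mul, glInvT_coe] at h'
    rw [h', Matrix.mul_assoc, hinv, Matrix.mul_one]

/-- `S` and `T` commute -/
theorem desc_comm (σ : F ≃+* F) (a : GL (Fin n) F) : glS σ (glInvT a) = glInvT (glS σ a) := by
  apply Units.ext
  rw [glS_val, glInvT_coe, glInvT_coe, ← map_inv, glS_val, Matrix.transpose_map]

/-- a symmetric invertible matrix has symmetric inverse, in group form -/
theorem desc_T_symm (g : GL (Fin n) F) (hg : g.1ᵀ = g.1) : glInvT g = g⁻¹ := by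
  apply Units.ext
  rw [glInvT_coe]
  have h1 : ((g⁻¹).1)ᵀ * g.1 = 1 := by
    conv_lhs => rw [← hg]
    rw [← Matrix.transpose_mul, ← Units.val_mul, mul_inv_cancel]; simp
  calc ((g⁻¹).1)ᵀ = ((g⁻¹).1)ᵀ * (g.1 * (g⁻¹).1) := by
        rw [← Units.val_mul, mul_inv_cancel]; simp
    _ = (g⁻¹).1 := by rw [← Matrix.mul_assoc, h1, Matrix.one_mul]

/-- determinant of a conjugate -/
theorem desc_det_conj (a Y : GL (Fin n) F) : (a.1 * Y.1 * (a⁻¹).1).det = Y.1.det := by
  have h : a.1.det * (a⁻¹).1.det = 1 := by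
    rw [← Matrix.det_mul, ← Units.val_mul, mul_inv_cancel]; simp
  rw [Matrix.det_mul, Matrix.det_mul]
  calc a.1.det * Y.1.det * (a⁻¹).1.det = Y.1.det * (a.1.det * (a⁻¹).1.det) := by ring
    _ = Y.1.det := by rw [h, mul_one]

theorem desc_map_inj (σ : F ≃+* F) {A B : Matrix (Fin n) (Fin n) (fixK σ)}
    (h : A.map (fixK σ).subtype = B.map (fixK σ).subtype) : A = B := by
  ext i j
  have := congrFun (congrFun h i) j
  simpa using this

theorem desc_det_map (σ : F ≃+* F) (M : Matrix (Fin n) (Fin n) (fixK σ)) :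
    (M.map (fixK σ).subtype).det = ((M.det : fixK σ) : F) := by
  have := RingHom.map_det (fixK σ).subtype M
  rw [RingHom.mapMatrix_apply] at this
  exact this.symm

theorem desc_scalar_val (c : Fˣ) :
    (Matrix.GeneralLinearGroup.scalar (Fin n) c).1 = (c : F) • (1 : Matrix (Fin n) (Fin n) F) := by
  ext i j
  by_cases h : i = j
  · subst h; simp [Matrix.GeneralLinearGroup.scalar]
  · simp [Matrix.GeneralLinearGroup.scalar, h]

variable [Fintype F] {q : ℕ}

/-- the common finish of both descent leaves -/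
theorem desc_finish (σ : F ≃+* F) (hσ : ∀ a, σ a = a ^ q) (g g' a : GL (Fin n) F) (lam th : F)
    (hlam : lam ≠ 0) (hth : th ≠ 0) (hg' : g'.1 = lam • g.1)
    (h1 : g' * glS σ a = a)
    (hfix : (th • (a⁻¹ * g' * glInvT a).1).map σ = th • (a⁻¹ * g' * glInvT a).1) :
    ∃ g₀ : GL (Fin n) (fixK σ),
      g₀.1.map (fixK σ).subtype = th • (a⁻¹ * g' * glInvT a).1 ∧
      ∀ x : SpecialLinearGroup (Fin n) F,
        (x ∈ Cfsg.SU n F q ∧ x.1 * g.1 * x.1ᵀ = g.1) ↔
          ∃ y ∈ formSL g₀.1, x.1 = a.1 * y.1.map (fixK σ).subtype * (a⁻¹).1 := by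
  classical
  set G0 : GL (Fin n) F := a⁻¹ * g' * glInvT a with hG0
  obtain ⟨M₀, hM₀⟩ := exists_of_map_eq' σ (th • G0.1) hfix
  have hdet0 : M₀.det ≠ 0 := by
    intro h0
    have h2 := desc_det_map σ M₀
    rw [hM₀, h0, Matrix.det_smul] at h2
    have h3 : G0.1.det ≠ 0 := by
      have : G0.1.det * (G0⁻¹).1.det = 1 := by
        rw [← Matrix.det_mul, ← Units.val_mul, mul_inv_cancel]; simp
      intro h4
      rw [h4, zero_mul] at this
      exact zero_ne_one this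
    have h5 : th ^ Fintype.card (Fin n) * G0.1.det ≠ 0 := mul_ne_zero (pow_ne_zero _ hth) h3
    apply h5
    rw [h2]
    simp
  refine ⟨Matrix.GeneralLinearGroup.mkOfDetNeZero M₀ hdet0, hM₀, ?_⟩
  have hg0val : (Matrix.GeneralLinearGroup.mkOfDetNeZero M₀ hdet0).1 = M₀ := rfl
  intro x
  set X : GL (Fin n) F := Matrix.SpecialLinearGroup.toGL x with hX
  have hXval : X.1 = x.1 := rfl
  have hstep1 : (x ∈ Cfsg.SU n F q ∧ x.1 * g.1 * x.1ᵀ = g.1) ↔
      (glS σ X = glInvT X ∧ X * g' = g' * glInvT X) := by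
    rw [mem_SU_iff_mul σ hσ x, ← desc_unitary_iff σ X, ← desc_form_iff X g', hXval, hg']
    constructor
    · rintro ⟨h, h'⟩
      refine ⟨h, ?_⟩
      rw [Matrix.mul_smul, Matrix.smul_mul, h']
    · rintro ⟨h, h'⟩
      refine ⟨h, ?_⟩
      rw [Matrix.mul_smul, Matrix.smul_mul] at h'
      exact smul_right_injective _ hlam h'
  rw [hstep1, desc_core (glS σ) glInvT g' a h1 X]
  rw [hg0val]
  constructor
  · rintro ⟨Y, hSY, hY, hXY⟩
    have hSY' : Y.1.map σ = Y.1 := by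
      have := congrArg Units.val hSY
      rwa [glS_val] at this
    obtain ⟨M, hM⟩ := exists_of_map_eq' σ Y.1 hSY'
    have hxval : x.1 = a.1 * Y.1 * (a⁻¹).1 := by
      have := congrArg Units.val hXY
      rw [Units.val_mul, Units.val_mul, hXval] at this
      exact this
    have hdetY : Y.1.det = 1 := by
      rw [← desc_det_conj a Y, ← hxval]
      exact x.2
    have hdetM : M.det = 1 := by
      have h2 := desc_det_map σ M
      rw [hM, hdetY] at h2
      apply Subtype.ext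
      rw [← h2]
      rfl
    refine ⟨⟨M, hdetM⟩, ?_, ?_⟩
    · show M * M₀ * Mᵀ = M₀
      apply desc_map_inj σ
      have hform : Y.1 * G0.1 * Y.1ᵀ = G0.1 := (desc_form_iff Y G0).2 hY
      rw [Matrix.map_mul, Matrix.map_mul, Matrix.transpose_map, hM, hM₀, Matrix.mul_smul,
        Matrix.smul_mul, hform]
    · show x.1 = a.1 * M.map (fixK σ).subtype * (a⁻¹).1
      rw [hM]
      exact hxval
  · rintro ⟨y, hy, hxy⟩
    have hy' : y.1 * M₀ * y.1ᵀ = M₀ := hy
    have hdy : (y.1).det = 1 := y.2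
    have hdetYm1 : (y.1.map (fixK σ).subtype).det = 1 := by
      rw [desc_det_map σ y.1, hdy]; rfl
    have hdetYm : (y.1.map (fixK σ).subtype).det ≠ 0 := by
      rw [hdetYm1]; exact one_ne_zero
    set Y : GL (Fin n) F := Matrix.GeneralLinearGroup.mkOfDetNeZero (y.1.map (fixK σ).subtype) hdetYm
      with hYdef
    have hYval : Y.1 = y.1.map (fixK σ).subtype := rfl
    refine ⟨Y, ?_, ?_, ?_⟩
    · apply Units.ext
      rw [glS_val, hYval]
      exact map_fixK' σ y.1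
    · rw [← desc_form_iff Y G0, hYval]
      have h2 : (y.1 * M₀ * y.1ᵀ).map (fixK σ).subtype = M₀.map (fixK σ).subtype := by rw [hy']
      rw [Matrix.map_mul, Matrix.map_mul, Matrix.transpose_map, hM₀, Matrix.mul_smul,
        Matrix.smul_mul] at h2
      exact smul_right_injective _ hth h2
    · apply Units.ext
      rw [Units.val_mul, Units.val_mul, hXval, hYval]
      exact hxy

theorem desc_orderOf (hF : Fintype.card F = q ^ 2) (σ : F ≃+* F) (hσ : ∀ a, σ a = a ^ q) :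
    orderOf σ = 2 := by
  have : Fact (Nat.Prime 2) := ⟨Nat.prime_two⟩
  apply orderOf_eq_prime
  · ext a
    rw [pow_two]
    show σ (σ a) = a
    rw [hσ, hσ]
    exact Cfsg.Agent.Lib.Helper13.pow_q_pow_q hF a
  · intro h
    obtain ⟨a, ha⟩ := Cfsg.Agent.Lib.Helper99.exists_pow_q_ne hF
    apply ha
    rw [← hσ, h]
    rfl

theorem desc_tw_two {G : Type*} [Group G] (S : G →* G) (g : G) (h : S g = g⁻¹) : tw S g 2 = 1 := by
  rw [tw_succ, tw_succ, tw_zero, map_one, mul_one, h, mul_inv_cancel]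

end aux

section leaves

variable {F : Type*} [Field F] [Fintype F] {q n : ℕ}

/-- BALU-DESC-S (helper45): descent of a symmetric unitary matrix to the fixed field of
`σ = (·)^q`  (`g ḡ = 1`, Hilbert 90: `g = a ā⁻¹`, `g₀ = a⁻¹ g a⁻ᵀ`). -/
theorem graph_descent_symm (hF : Fintype.card F = q ^ 2) (hn : 1 ≤ n) (h2 : (2 : F) ≠ 0)
    (σ : F ≃+* F) (hσ : ∀ a, σ a = a ^ q) (g : GL (Fin n) F) (hgU : g ∈ Cfsg.GU n F q)
    (hg : g.1ᵀ = g.1) :
    ∃ (a : GL (Fin n) F) (g₀ : GL (Fin n) (fixK σ)), g₀.1ᵀ = g₀.1 ∧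
      ∀ x : SpecialLinearGroup (Fin n) F,
        (x ∈ Cfsg.SU n F q ∧ x.1 * g.1 * x.1ᵀ = g.1) ↔
          ∃ y ∈ formSL g₀.1, x.1 = a.1 * y.1.map (fixK σ).subtype * (a⁻¹).1 := by
  have hord := desc_orderOf hF σ hσ
  have hTg : glInvT g = g⁻¹ := desc_T_symm g hg
  have hSg : glS σ g = g⁻¹ := by
    rw [← hTg, ← desc_unitary_iff]
    exact (mem_GU_iff_mul σ hσ g).1 hgU
  obtain ⟨a, ha⟩ := h90_GL σ 2 hord (by norm_num) g (desc_tw_two (glS σ) g hSg)
  have hfixG := desc_fixed (glS σ) glInvT g a 1 1 (desc_comm σ a) ha hSg (by rw [hTg, one_mul])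
    (fun u => by rw [one_mul, mul_one]) (by rw [map_one, one_mul])
  rw [one_mul] at hfixG
  have hfix : ((1 : F) • (a⁻¹ * g * glInvT a).1).map σ = (1 : F) • (a⁻¹ * g * glInvT a).1 := by
    rw [one_smul]
    have := congrArg Units.val hfixG
    rwa [glS_val] at this
  obtain ⟨g₀, hg₀, hiff⟩ := desc_finish σ hσ g g a 1 1 one_ne_zero one_ne_zero (one_smul _ _).symm ha hfix
  refine ⟨a, g₀, ?_, hiff⟩
  apply desc_map_inj σ
  rw [Matrix.transpose_map, hg₀, one_smul, Units.val_mul, Units.val_mul, glInvT_coe,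
    Matrix.transpose_mul, Matrix.transpose_mul, Matrix.transpose_transpose, hg, Matrix.mul_assoc]

/-- BALU-DESC-A (helper45): the alternating case (`g ḡ = -1`; `λ λ̄ = -1`, `λ g = a ā⁻¹`,
`θ̄ = -θ`, `g₀ = θ λ a⁻¹ g a⁻ᵀ`). -/
theorem graph_descent_skew (hF : Fintype.card F = q ^ 2) (hn : 1 ≤ n) (h2 : (2 : F) ≠ 0)
    (σ : F ≃+* F) (hσ : ∀ a, σ a = a ^ q) (g : GL (Fin n) F) (hgU : g ∈ Cfsg.GU n F q)
    (hg : g.1ᵀ = -g.1) :
    ∃ (a : GL (Fin n) F) (g₀ : GL (Fin n) (fixK σ)), g₀.1ᵀ = -g₀.1 ∧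
      ∀ x : SpecialLinearGroup (Fin n) F,
        (x ∈ Cfsg.SU n F q ∧ x.1 * g.1 * x.1ᵀ = g.1) ↔
          ∃ y ∈ formSL g₀.1, x.1 = a.1 * y.1.map (fixK σ).subtype * (a⁻¹).1 := by
  classical
  have hord := desc_orderOf hF σ hσ
  have hneg : ((-1 : F)) ^ q = -1 := by rw [← hσ, map_neg, map_one]
  obtain ⟨lam, hlam⟩ := Cfsg.Agent.Lib.Helper13.exists_norm_eq hF (-1) (by simp) hneg
  have hlam0 : lam ≠ 0 := by
    intro h
    rw [h, zero_mul] at hlam
    exact (by simp : (0 : F) ≠ -1) hlam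
  obtain ⟨th, hth0, hth⟩ := Cfsg.Agent.Lib.Helper99.exists_trace_zero hF
  have hthq : th ^ q = -th := by
    have : th ^ q = -th := by
      rw [eq_neg_iff_add_eq_zero, add_comm]; exact hth
    exact this
  -- the group elements
  set Λ : GL (Fin n) F := Matrix.GeneralLinearGroup.scalar (Fin n) (Units.mk0 lam hlam0) with hΛ
  set Θ : GL (Fin n) F := Matrix.GeneralLinearGroup.scalar (Fin n) (Units.mk0 th hth0) with hΘ
  set N : GL (Fin n) F := Matrix.GeneralLinearGroup.scalar (Fin n) (-1 : Fˣ) with hN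
  have hΛval : Λ.1 = lam • (1 : Matrix (Fin n) (Fin n) F) := by
    rw [hΛ, desc_scalar_val]; rfl
  have hΘval : Θ.1 = th • (1 : Matrix (Fin n) (Fin n) F) := by
    rw [hΘ, desc_scalar_val]; rfl
  have hNval : N.1 = (-1 : F) • (1 : Matrix (Fin n) (Fin n) F) := by
    rw [hN, desc_scalar_val]; simp
  set g' : GL (Fin n) F := Λ * g with hg'def
  have hg'val : g'.1 = lam • g.1 := by
    rw [hg'def, Units.val_mul, hΛval, Matrix.smul_mul, Matrix.one_mul]
  have hgU' : g.1ᵀ * g.1.map σ = 1 := (mem_GU_iff_mul σ hσ g).1 hgU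
  have hggbar : g.1 * g.1.map σ = -1 := by
    rw [hg, Matrix.neg_mul] at hgU'
    rw [← hgU', neg_neg]
  have hSg' : glS σ g' = g'⁻¹ := by
    apply eq_inv_of_mul_eq_one_right
    apply Units.ext
    rw [Units.val_mul, glS_val, hg'val, Units.val_one]
    have : (lam • g.1).map σ = (lam ^ q) • g.1.map σ := by
      ext i j
      simp [Matrix.map_apply, Matrix.smul_apply, hσ, mul_pow]
    rw [this, Matrix.smul_mul, Matrix.mul_smul, smul_smul, hggbar, hlam]
    simp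
  have hg't : g'.1ᵀ = -g'.1 := by
    rw [hg'val, Matrix.transpose_smul, hg, smul_neg]
  have hTg' : glInvT g' = N * g'⁻¹ := by
    apply eq_mul_inv_of_mul_eq
    apply Units.ext
    rw [Units.val_mul, glInvT_coe, hNval]
    have h1 : ((g'⁻¹).1)ᵀ * g'.1ᵀ = 1 := by
      rw [← Matrix.transpose_mul, ← Units.val_mul, mul_inv_cancel]; simp
    have h2 : g'.1 = -g'.1ᵀ := by rw [hg't, neg_neg]
    conv_lhs => rw [h2]
    rw [Matrix.mul_neg, h1]
    simp
  have hNc : ∀ u : GL (Fin n) F, N * u = u * N := by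
    intro u
    apply Units.ext
    rw [Units.val_mul, Units.val_mul, hNval]
    simp
  have hSΘ : glS σ Θ = N * Θ := by
    apply Units.ext
    rw [glS_val, Units.val_mul, hNval, hΘval]
    ext i j
    by_cases hij : i = j
    · subst hij
      simp [Matrix.map_apply, hσ, hthq]
    · simp [Matrix.map_apply, Matrix.smul_apply, Matrix.one_apply, hij]
  obtain ⟨a, ha⟩ := h90_GL σ 2 hord (by norm_num) g' (desc_tw_two (glS σ) g' hSg')
  have hfixG := desc_fixed (glS σ) glInvT g' a N Θ (desc_comm σ a) ha hSg' hTg' hNc hSΘ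
  have hΘmul : ∀ A : GL (Fin n) F, (Θ * A).1 = th • A.1 := by
    intro A
    rw [Units.val_mul, hΘval, Matrix.smul_mul, Matrix.one_mul]
  have hfix : (th • (a⁻¹ * g' * glInvT a).1).map σ = th • (a⁻¹ * g' * glInvT a).1 := by
    have := congrArg Units.val hfixG
    rw [glS_val, hΘmul] at this
    exact this
  obtain ⟨g₀, hg₀, hiff⟩ := desc_finish σ hσ g g' a lam th hlam0 hth0 hg'val ha hfix
  refine ⟨a, g₀, ?_, hiff⟩
  apply desc_map_inj σ
  have hnegmap : (-g₀.1).map (fixK σ).subtype = -(g₀.1.map (fixK σ).subtype) := by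
    ext i j
    simp
  rw [Matrix.transpose_map, hnegmap, hg₀, Units.val_mul, Units.val_mul, glInvT_coe,
    Matrix.transpose_smul, Matrix.transpose_mul, Matrix.transpose_mul, Matrix.transpose_transpose,
    hg't, Matrix.mul_assoc]
  simp

end leaves

end Cfsg.Agent.Lib.Helper5.BalU
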