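import Mathlib

/-!
# Existence of `s, t` with `s² + 1 = t²`, `s⁴ + s² + 1 ≠ 0` in finite fields
-/

set_option autoImplicit false

namespace Cfsg.Agent.Lib.Helper65

open Polynomial

theorem exists_st_even {K : Type*} [Field K] [Fintype K] (h2 : ringChar K = 2)
    (hq : 8 ≤ Fintype.card K) :
    ∃ s t : K, s ≠ 0 ∧ t ≠ 0 ∧ s ^ 2 + 1 = t ^ 2 ∧ (s ^ 2) ^ 2 + s ^ 2 + 1 ≠ 0 := by
  let f : K[X] := X * (X + 1) * (X ^ 2 + X + 1)
  have hdeg : f.natDegree ≤ 4 := by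
    show (X * (X + 1) * (X ^ 2 + X + 1) : K[X]).natDegree ≤ 4
    compute_degree
  have hf0 : f ≠ 0 := by
    have e1 : (X + 1 : K[X]) ≠ 0 := by
      intro h
      have := congrArg (Polynomial.eval 0) h
      simp at this
    have e2 : (X ^ 2 + X + 1 : K[X]) ≠ 0 := by
      intro h
      have := congrArg (Polynomial.eval 0) h
      simp at this
    exact mul_ne_zero (mul_ne_zero X_ne_zero e1) e2
  have hlt : (f.natDegree : Cardinal) < Cardinal.mk K := by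
    rw [Cardinal.mk_fintype]
    exact_mod_cast (lt_of_le_of_lt hdeg (by omega : 4 < Fintype.card K))
  obtain ⟨c, hc⟩ := Polynomial.exists_eval_ne_zero_of_natDegree_lt_card f hf0 hlt
  have hc' : c * (c + 1) * (c ^ 2 + c + 1) ≠ 0 := by
    simpa [f] using hc
  have hc0 : c ≠ 0 := fun h => hc' (by rw [h]; ring)
  have hc1 : c + 1 ≠ 0 := fun h => hc' (by rw [h]; ring)
  have hc2 : c ^ 2 + c + 1 ≠ 0 := fun h => hc' (by rw [h]; ring)
  obtain ⟨s, hs⟩ := FiniteField.isSquare_of_char_two h2 c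
  obtain ⟨t, ht⟩ := FiniteField.isSquare_of_char_two h2 (c + 1)
  refine ⟨s, t, ?_, ?_, ?_, ?_⟩
  · rintro rfl; apply hc0; rw [hs]; ring
  · rintro rfl; apply hc1; rw [ht]; ring
  · rw [pow_two, pow_two, ← hs, ← ht]
  · rw [pow_two s, ← hs]; exact hc2

theorem exists_st_odd {K : Type*} [Field K] [Fintype K] (h2 : (2 : K) ≠ 0)
    (hq : 13 < Fintype.card K) :
    ∃ s t : K, s ≠ 0 ∧ t ≠ 0 ∧ s ^ 2 + 1 = t ^ 2 ∧ (s ^ 2) ^ 2 + s ^ 2 + 1 ≠ 0 := by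
  let f : K[X] := X * (1 - X ^ 2) * (1 + X ^ 2) *
    ((1 - X ^ 2) ^ 4 + 4 * X ^ 2 * (1 - X ^ 2) ^ 2 + 16 * X ^ 4)
  have hdeg : f.natDegree ≤ 13 := by
    show (X * (1 - X ^ 2) * (1 + X ^ 2) *
      ((1 - X ^ 2) ^ 4 + 4 * X ^ 2 * (1 - X ^ 2) ^ 2 + 16 * X ^ 4) : K[X]).natDegree ≤ 13
    compute_degree
  have hf0 : f ≠ 0 := by
    have e1 : (1 - X ^ 2 : K[X]) ≠ 0 := by
      intro h
      have := congrArg (Polynomial.eval 0) h
      simp at this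
    have e2 : (1 + X ^ 2 : K[X]) ≠ 0 := by
      intro h
      have := congrArg (Polynomial.eval 0) h
      simp at this
    have e3 : ((1 - X ^ 2) ^ 4 + 4 * X ^ 2 * (1 - X ^ 2) ^ 2 + 16 * X ^ 4 : K[X]) ≠ 0 := by
      intro h
      have := congrArg (Polynomial.eval 0) h
      simp at this
    exact mul_ne_zero (mul_ne_zero (mul_ne_zero X_ne_zero e1) e2) e3
  have hlt : (f.natDegree : Cardinal) < Cardinal.mk K := by
    rw [Cardinal.mk_fintype]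
    exact_mod_cast (lt_of_le_of_lt hdeg hq)
  obtain ⟨r, hr⟩ := Polynomial.exists_eval_ne_zero_of_natDegree_lt_card f hf0 hlt
  have hr' : r * (1 - r ^ 2) * (1 + r ^ 2) *
      ((1 - r ^ 2) ^ 4 + 4 * r ^ 2 * (1 - r ^ 2) ^ 2 + 16 * r ^ 4) ≠ 0 := by
    simpa [f] using hr
  have hr0 : r ≠ 0 := fun h => hr' (by rw [h]; ring)
  have hr1 : 1 - r ^ 2 ≠ 0 := fun h => hr' (by rw [h]; ring)
  have hr2 : 1 + r ^ 2 ≠ 0 := fun h => hr' (by rw [h]; ring)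
  have hr3 : (1 - r ^ 2) ^ 4 + 4 * r ^ 2 * (1 - r ^ 2) ^ 2 + 16 * r ^ 4 ≠ 0 :=
    fun h => hr' (by rw [h]; ring)
  have h2r : 2 * r ≠ 0 := mul_ne_zero h2 hr0
  refine ⟨(1 - r ^ 2) / (2 * r), (1 + r ^ 2) / (2 * r), div_ne_zero hr1 h2r, div_ne_zero hr2 h2r,
    ?_, ?_⟩
  · field_simp
    ring
  · have : (((1 - r ^ 2) / (2 * r)) ^ 2) ^ 2 + ((1 - r ^ 2) / (2 * r)) ^ 2 + 1
        = ((1 - r ^ 2) ^ 4 + 4 * r ^ 2 * (1 - r ^ 2) ^ 2 + 16 * r ^ 4) / (2 * r) ^ 4 := by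
      field_simp
      ring
    rw [this]
    exact div_ne_zero hr3 (pow_ne_zero 4 h2r)

end Cfsg.Agent.Lib.Helper65
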