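import Cfsg.Agent.Lib.Helper65.StemLemmas2
import Cfsg.Agent.Lib.Helper65.FieldST
import Cfsg.Agent.Lib.Helper38.SLCard

/-!
# The characteristic part of the multiplier of `SL₂(q)`
-/

set_option autoImplicit false

namespace Cfsg.Agent.Lib.Helper65.SL2Mult

open Matrix
open scoped commutatorElement
open scoped IsMulCommutative

variable {F : Type*} [Field F]

/-- upper unitriangular element -/
def uu (x : F) : SpecialLinearGroup (Fin 2) F :=
  ⟨!![1, x; 0, 1], by simp [Matrix.det_fin_two]⟩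

/-- diagonal element -/
def hh (a : F) (ha : a ≠ 0) : SpecialLinearGroup (Fin 2) F :=
  ⟨!![a, 0; 0, a⁻¹], by simp [Matrix.det_fin_two, ha]⟩

lemma uu_zero : uu (0 : F) = 1 := by
  ext i j
  fin_cases i <;> fin_cases j <;> simp [uu]

lemma uu_add (x y : F) : uu (x + y) = uu x * uu y := by
  apply Subtype.ext
  show !![1, x + y; 0, 1] = !![1, x; 0, 1] * !![1, y; 0, 1]
  rw [Matrix.mul_fin_two]
  simp [add_comm]

lemma uu_injective : Function.Injective (uu : F → SpecialLinearGroup (Fin 2) F) := by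
  intro x y h
  have := congrArg (fun g : SpecialLinearGroup (Fin 2) F => g.1 0 1) h
  simpa [uu] using this

lemma uu_comm (x y : F) : uu x * uu y = uu y * uu x := by
  rw [← uu_add, ← uu_add, add_comm]

lemma hh_mul_uu (a : F) (ha : a ≠ 0) (x : F) : hh a ha * uu x = uu (a ^ 2 * x) * hh a ha := by
  apply Subtype.ext
  show !![a, 0; 0, a⁻¹] * !![1, x; 0, 1] = !![1, a ^ 2 * x; 0, 1] * !![a, 0; 0, a⁻¹]
  rw [Matrix.mul_fin_two, Matrix.mul_fin_two]
  simp
  field_simp

lemma hh_conj (a : F) (ha : a ≠ 0) (x : F) : hh a ha * uu x * (hh a ha)⁻¹ = uu (a ^ 2 * x) := by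
  rw [hh_mul_uu, mul_inv_cancel_right]

/-- the unipotent subgroup as a homomorphism from the additive group -/
def uHom : Multiplicative F →* SpecialLinearGroup (Fin 2) F where
  toFun x := uu (Multiplicative.toAdd x)
  map_one' := uu_zero
  map_mul' _ _ := uu_add _ _

/-- the unipotent subgroup -/
def U : Subgroup (SpecialLinearGroup (Fin 2) F) := (uHom (F := F)).range

lemma mem_U {g : SpecialLinearGroup (Fin 2) F} : g ∈ U ↔ ∃ x : F, uu x = g := by
  constructor
  · rintro ⟨x, rfl⟩; exact ⟨Multiplicative.toAdd x, rfl⟩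
  · rintro ⟨x, rfl⟩; exact ⟨Multiplicative.ofAdd x, rfl⟩

lemma card_U [Fintype F] : Nat.card (U (F := F)) = Fintype.card F := by
  have hinj : Function.Injective (uHom (F := F)) := fun x y h => uu_injective (F := F) h
  rw [← Nat.card_eq_fintype_card (α := F)]
  exact Nat.card_congr (MonoidHom.ofInjective hinj).toEquiv.symm

lemma index_U [Fintype F] : (U (F := F)).index = Fintype.card F ^ 2 - 1 := by
  have h1 := (U (F := F)).index_mul_card
  rw [card_U, Cfsg.Agent.Lib.Helper38.card_SL2] at h1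
  have hq : 0 < Fintype.card F := Fintype.card_pos
  rw [mul_comm] at h1
  exact Nat.eq_of_mul_eq_mul_left hq h1

section Stem

variable {Γ : Type*} [Group Γ]

lemma comm_left_central {x k y : Γ} (hk : k ∈ Subgroup.center Γ) : ⁅x * k, y⁆ = ⁅x, y⁆ := by
  rw [Subgroup.mem_center_iff] at hk
  rw [commutatorElement_def, commutatorElement_def]
  have e : k * y * k⁻¹ = y := by rw [← hk y]; group
  calc x * k * y * (x * k)⁻¹ * y⁻¹ = x * (k * y * k⁻¹) * x⁻¹ * y⁻¹ := by group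
    _ = x * y * x⁻¹ * y⁻¹ := by rw [e]

lemma comm_right_central {x k y : Γ} (hk : k ∈ Subgroup.center Γ) : ⁅x, y * k⁆ = ⁅x, y⁆ := by
  rw [← commutatorElement_inv (y * k) x, comm_left_central hk, commutatorElement_inv]

/-- commutators depend only on the images under a homomorphism with central kernel -/
lemma comm_eq_of_map_eq (σ : Γ →* SpecialLinearGroup (Fin 2) F)
    (hcen : σ.ker ≤ Subgroup.center Γ) {x x' y y' : Γ} (hx : σ x = σ x') (hy : σ y = σ y') :
    ⁅x, y⁆ = ⁅x', y'⁆ := by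
  have h1 : x⁻¹ * x' ∈ Subgroup.center Γ := hcen (by
    rw [MonoidHom.mem_ker, map_mul, map_inv, hx, inv_mul_cancel])
  have h2 : y⁻¹ * y' ∈ Subgroup.center Γ := hcen (by
    rw [MonoidHom.mem_ker, map_mul, map_inv, hy, inv_mul_cancel])
  have e1 : x' = x * (x⁻¹ * x') := by group
  have e2 : y' = y * (y⁻¹ * y') := by group
  rw [e1, e2, comm_left_central h1, comm_right_central h2]

/-- the preimage of the unipotent subgroup in a stem extension is commutative, given `s, t`. -/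
theorem comap_U_comm (σ : Γ →* SpecialLinearGroup (Fin 2) F) (hσ : Cfsg.IsStemExtension σ)
    {s t : F} (hs : s ≠ 0) (ht : t ≠ 0) (hst : s ^ 2 + 1 = t ^ 2)
    (hd : (s ^ 2) ^ 2 + s ^ 2 + 1 ≠ 0) :
    ∀ x ∈ (U (F := F)).comap σ, ∀ y ∈ (U (F := F)).comap σ, x * y = y * x := by
  obtain ⟨hsurj, hcen, -⟩ := hσ
  let sec : SpecialLinearGroup (Fin 2) F → Γ := Function.surjInv hsurj
  have hsec : ∀ g, σ (sec g) = g := Function.surjInv_eq hsurj
  have hBker : ∀ a b : F, ⁅sec (uu a), sec (uu b)⁆ ∈ σ.ker := by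
    intro a b
    rw [MonoidHom.mem_ker, map_commutatorElement, hsec, hsec,
      commutatorElement_eq_one_iff_mul_comm]
    exact uu_comm a b
  have hBcen : ∀ a b : F, ⁅sec (uu a), sec (uu b)⁆ ∈ Subgroup.center Γ := fun a b => hcen (hBker a b)
  let B : F → F → Subgroup.center Γ := fun a b => ⟨⁅sec (uu a), sec (uu b)⁆, hBcen a b⟩
  have hB1 : ∀ a a' b, B (a + a') b = B a b * B a' b := by
    intro a a' b
    apply Subtype.ext
    show ⁅sec (uu (a + a')), sec (uu b)⁆ = ⁅sec (uu a), sec (uu b)⁆ * ⁅sec (uu a'), sec (uu b)⁆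
    have e : ⁅sec (uu (a + a')), sec (uu b)⁆ = ⁅sec (uu a) * sec (uu a'), sec (uu b)⁆ := by
      apply comm_eq_of_map_eq σ hcen
      · rw [map_mul, hsec, hsec, hsec, uu_add]
      · rfl
    rw [e]
    have hc := hBcen a' b
    rw [Subgroup.mem_center_iff] at hc
    rw [commutatorElement_def, commutatorElement_def, commutatorElement_def]
    rw [commutatorElement_def] at hc
    generalize sec (uu a) = X
    generalize sec (uu a') = Y at hc ⊢
    generalize sec (uu b) = W at hc ⊢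
    calc X * Y * W * (X * Y)⁻¹ * W⁻¹ = (X * (Y * W * Y⁻¹ * W⁻¹)) * W * X⁻¹ * W⁻¹ := by group
      _ = ((Y * W * Y⁻¹ * W⁻¹) * X) * W * X⁻¹ * W⁻¹ := by rw [hc X]
      _ = X * W * X⁻¹ * W⁻¹ * (Y * W * Y⁻¹ * W⁻¹) := by
          rw [hc (X * W * X⁻¹ * W⁻¹)]; simp only [mul_assoc]
  have hB2 : ∀ a b b', B a (b + b') = B a b * B a b' := by
    intro a b b'
    apply Subtype.ext
    show ⁅sec (uu a), sec (uu (b + b'))⁆ = ⁅sec (uu a), sec (uu b)⁆ * ⁅sec (uu a), sec (uu b')⁆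
    have e : ⁅sec (uu a), sec (uu (b + b'))⁆ = ⁅sec (uu a), sec (uu b) * sec (uu b')⁆ := by
      apply comm_eq_of_map_eq σ hcen
      · rfl
      · rw [map_mul, hsec, hsec, hsec, uu_add]
    rw [e]
    have hc := hBcen a b'
    rw [Subgroup.mem_center_iff] at hc
    rw [commutatorElement_def, commutatorElement_def, commutatorElement_def]
    rw [commutatorElement_def] at hc
    generalize sec (uu b) = Y
    generalize sec (uu a) = X at hc ⊢
    generalize sec (uu b') = W at hc ⊢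
    calc X * (Y * W) * X⁻¹ * (Y * W)⁻¹
        = (X * Y * X⁻¹ * Y⁻¹) * (Y * (X * W * X⁻¹ * W⁻¹)) * Y⁻¹ := by group
      _ = (X * Y * X⁻¹ * Y⁻¹) * ((X * W * X⁻¹ * W⁻¹) * Y) * Y⁻¹ := by rw [hc Y]
      _ = X * Y * X⁻¹ * Y⁻¹ * (X * W * X⁻¹ * W⁻¹) := by group
  have hBinv : ∀ a : F, a ≠ 0 → ∀ x y, B (a ^ 2 * x) (a ^ 2 * y) = B x y := by
    intro a ha x y
    apply Subtype.ext
    show ⁅sec (uu (a ^ 2 * x)), sec (uu (a ^ 2 * y))⁆ = ⁅sec (uu x), sec (uu y)⁆
    have e : ⁅sec (uu (a ^ 2 * x)), sec (uu (a ^ 2 * y))⁆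
        = ⁅sec (hh a ha) * sec (uu x) * (sec (hh a ha))⁻¹,
            sec (hh a ha) * sec (uu y) * (sec (hh a ha))⁻¹⁆ := by
      apply comm_eq_of_map_eq σ hcen
      · rw [map_mul, map_mul, map_inv, hsec, hsec, hsec, hh_conj]
      · rw [map_mul, map_mul, map_inv, hsec, hsec, hsec, hh_conj]
    rw [e]
    have hc := hBcen x y
    rw [Subgroup.mem_center_iff] at hc
    rw [commutatorElement_def] at hc
    rw [commutatorElement_def, commutatorElement_def]
    generalize sec (hh a ha) = T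
    generalize sec (uu x) = X at hc ⊢
    generalize sec (uu y) = Y at hc ⊢
    calc T * X * T⁻¹ * (T * Y * T⁻¹) * (T * X * T⁻¹)⁻¹ * (T * Y * T⁻¹)⁻¹
        = (T * (X * Y * X⁻¹ * Y⁻¹)) * T⁻¹ := by group
      _ = ((X * Y * X⁻¹ * Y⁻¹) * T) * T⁻¹ := by rw [hc T]
      _ = X * Y * X⁻¹ * Y⁻¹ := by group
  have hBtriv := pairing_trivial B hB1 hB2 hBinv hs ht hst hd
  intro x hx y hy
  obtain ⟨a, ha⟩ := mem_U.1 (Subgroup.mem_comap.1 hx)
  obtain ⟨b, hb⟩ := mem_U.1 (Subgroup.mem_comap.1 hy)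
  have e : ⁅x, y⁆ = ⁅sec (uu a), sec (uu b)⁆ := by
    apply comm_eq_of_map_eq σ hcen
    · rw [hsec, ha]
    · rw [hsec, hb]
  have h1 : ⁅sec (uu a), sec (uu b)⁆ = 1 := congrArg Subtype.val (hBtriv a b)
  rw [h1] at e
  exact commutatorElement_eq_one_iff_mul_comm.1 e

/-- in a stem extension of `SL₂(F)`, no element of the kernel has order `p = char F`, given `s,t` -/
theorem no_p_torsion [Fintype F] [Finite Γ] (p : ℕ) [hp : Fact p.Prime] [CharP F p]
    (σ : Γ →* SpecialLinearGroup (Fin 2) F) (hσ : Cfsg.IsStemExtension σ)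
    {s t : F} (hs : s ≠ 0) (ht : t ≠ 0) (hst : s ^ 2 + 1 = t ^ 2)
    (hd : (s ^ 2) ^ 2 + s ^ 2 + 1 ≠ 0) (z : Γ) (hz : z ∈ σ.ker) (hzp : z ^ p = 1) : z = 1 := by
  have hcomm := comap_U_comm σ hσ hs ht hst hd
  have hfi : ((U (F := F)).comap σ).FiniteIndex := inferInstance
  have h1 := pow_index_eq_one_of_comm ((U (F := F)).comap σ) hcomm z (hσ.2.1 hz) (hσ.2.2 hz)
  rw [Subgroup.index_comap_of_surjective _ hσ.1, index_U] at h1
  -- p is coprime to q^2 - 1
  obtain ⟨n, -, hn⟩ := FiniteField.card F p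
  have hpq : p ∣ Fintype.card F := by
    rw [hn]; exact dvd_pow_self p n.ne_zero
  have hq1 : 1 ≤ Fintype.card F ^ 2 := Nat.one_le_pow _ _ Fintype.card_pos
  have hcop : Nat.Coprime p (Fintype.card F ^ 2 - 1) := by
    rw [Nat.Prime.coprime_iff_not_dvd hp.out]
    intro hdvd
    have h2 : p ∣ Fintype.card F ^ 2 := dvd_pow hpq (by norm_num)
    have h3 : p ∣ Fintype.card F ^ 2 - (Fintype.card F ^ 2 - 1) := Nat.dvd_sub h2 hdvd
    have h4 : Fintype.card F ^ 2 - (Fintype.card F ^ 2 - 1) = 1 := by omega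
    rw [h4] at h3
    exact hp.out.one_lt.ne' (Nat.dvd_one.1 h3)
  have ho : orderOf z ∣ 1 := by
    rw [← Nat.Coprime.gcd_eq_one hcop]
    exact Nat.dvd_gcd (orderOf_dvd_of_pow_eq_one hzp) (orderOf_dvd_of_pow_eq_one h1)
  exact orderOf_eq_one_iff.1 (Nat.dvd_one.1 ho)

end Stem

end Cfsg.Agent.Lib.Helper65.SL2Mult
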