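import Mathlib

set_option autoImplicit false

namespace Cfsg.Agent.Lib.Helper65

open Module

/-- splitting lemma, module form: a linear map from an abelian group to a finite free `ℤ`-module
can be split over its range inside any submodule `T` with the same image. -/
theorem exists_split_module {K V ι : Type*} [AddCommGroup K] [AddCommGroup V] [Finite ι]
    (b : Basis ι ℤ V) (φ : K →ₗ[ℤ] V) (T : Submodule ℤ K)
    (hT : ∀ k : K, ∃ t ∈ T, φ t = φ k) :
    ∃ S : Submodule ℤ K, S ≤ T ∧ S ⊓ LinearMap.ker φ = ⊥ ∧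
      ∀ k : K, ∃ s ∈ S, k - s ∈ LinearMap.ker φ := by
  obtain ⟨n, ⟨c⟩⟩ := Submodule.nonempty_basis_of_pid b (LinearMap.range φ)
  have hex : ∀ i : Fin n, ∃ t ∈ T, φ t = (c i : V) := by
    intro i
    obtain ⟨k, hk⟩ := (c i).2
    obtain ⟨t, ht, hφ⟩ := hT k
    exact ⟨t, ht, hφ.trans hk⟩
  choose t htT htφ using hex
  let s : LinearMap.range φ →ₗ[ℤ] K := c.constr ℤ t
  have hs : ∀ x : LinearMap.range φ, φ (s x) = (x : V) := by
    have : φ.comp s = (LinearMap.range φ).subtype := by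
      apply c.ext
      intro i
      simp only [LinearMap.comp_apply, s, Basis.constr_basis, Submodule.subtype_apply]
      exact htφ i
    intro x
    exact LinearMap.congr_fun this x
  refine ⟨LinearMap.range s, ?_, ?_, ?_⟩
  · rw [show LinearMap.range s = Submodule.span ℤ (Set.range t) from c.constr_range ℤ]
    rw [Submodule.span_le]
    rintro _ ⟨i, rfl⟩
    exact htT i
  · rw [eq_bot_iff]
    rintro y ⟨⟨x, rfl⟩, hy⟩
    have h0 : φ (s x) = 0 := hy
    rw [hs x] at h0
    have hx : x = 0 := Subtype.ext h0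
    rw [hx, map_zero]
    exact Submodule.zero_mem _
  · intro k
    refine ⟨s ⟨φ k, LinearMap.mem_range_self φ k⟩, LinearMap.mem_range_self s _, ?_⟩
    rw [LinearMap.mem_ker, map_sub, hs, sub_self]

/-- splitting lemma, group form. -/
theorem exists_split_group {C V ι : Type*} [CommGroup C] [AddCommGroup V] [Finite ι]
    (b : Basis ι ℤ V) (φ : C →* Multiplicative V) (T : Subgroup C)
    (hT : ∀ c : C, ∃ t ∈ T, φ t = φ c) :
    ∃ S : Subgroup C, S ≤ T ∧ S ⊓ φ.ker = ⊥ ∧ ∀ c : C, ∃ s ∈ S, c * s⁻¹ ∈ φ.ker := by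
  let φa : Additive C →ₗ[ℤ] V := (MonoidHom.toAdditiveLeft φ).toIntLinearMap
  have hφa : ∀ x : Additive C, φa x = Multiplicative.toAdd (φ (Additive.toMul x)) := fun x => rfl
  let Ta : Submodule ℤ (Additive C) := AddSubgroup.toIntSubmodule (Subgroup.toAddSubgroup T)
  have hTa : ∀ x : Additive C, x ∈ Ta ↔ Additive.toMul x ∈ T := fun x => Iff.rfl
  obtain ⟨Sa, hSaT, hSaker, hSacov⟩ := exists_split_module b φa Ta (by
    intro k
    obtain ⟨t, ht, hφ⟩ := hT (Additive.toMul k)
    refine ⟨Additive.ofMul t, ht, ?_⟩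
    rw [hφa, hφa]
    simp [hφ])
  refine ⟨AddSubgroup.toSubgroup' (Sa.toAddSubgroup), ?_, ?_, ?_⟩
  · intro x hx
    have : Additive.ofMul x ∈ Sa := hx
    exact hSaT this
  · rw [eq_bot_iff]
    rintro x ⟨hx1, hx2⟩
    have h1 : Additive.ofMul x ∈ Sa := hx1
    have h2 : Additive.ofMul x ∈ LinearMap.ker φa := by
      rw [LinearMap.mem_ker, hφa]
      have : φ x = 1 := hx2
      simp [this]
    have h3 : Additive.ofMul x ∈ Sa ⊓ LinearMap.ker φa := ⟨h1, h2⟩
    rw [hSaker] at h3
    have h4 : Additive.ofMul x = 0 := h3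
    have h5 : x = 1 := by
      have := congrArg Additive.toMul h4
      simpa using this
    rw [h5]
    exact Subgroup.one_mem _
  · intro c
    obtain ⟨s, hs, hker⟩ := hSacov (Additive.ofMul c)
    refine ⟨Additive.toMul s, hs, ?_⟩
    rw [LinearMap.mem_ker, hφa] at hker
    rw [MonoidHom.mem_ker]
    rw [toMul_sub, toMul_ofMul, div_eq_mul_inv] at hker
    exact hker

end Cfsg.Agent.Lib.Helper65
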