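import Cfsg.Agent.Lib.Helper65.FreeCover
import Cfsg.Agent.Lib.Helper65.Split
import Cfsg.Prelude.Def_KGroupFacts

set_option autoImplicit false

namespace Cfsg.Agent.Lib.Helper65

open scoped commutatorElement
open Module

universe u v

variable (Q : Type u) [Group Q]

/-- `Ê → F^ab` -/
def ehatAb : Ehat Q →* Abelianization (FreeGroup Q) :=
  QuotientGroup.lift (relComm Q) Abelianization.of (by
    rw [Abelianization.ker_of, commutator_def]
    unfold relComm
    exact Subgroup.commutator_mono le_top le_top)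

@[simp] theorem ehatAb_mk (f : FreeGroup Q) : ehatAb Q (f : Ehat Q) = Abelianization.of f := rfl

theorem ehatAb_ker : (ehatAb Q).ker = commutator (Ehat Q) := by
  apply le_antisymm
  · intro x hx
    induction x using QuotientGroup.induction_on with
    | H f =>
      rw [MonoidHom.mem_ker, ehatAb_mk] at hx
      have hf : f ∈ commutator (FreeGroup Q) := by
        rw [← Abelianization.ker_of]; exact hx
      have hmap : (commutator (FreeGroup Q)).map (QuotientGroup.mk' (relComm Q)) = commutator (Ehat Q) := by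
        rw [commutator_def, Subgroup.map_commutator, ← MonoidHom.range_eq_map,
          MonoidHom.range_eq_top.mpr (QuotientGroup.mk'_surjective _), ← commutator_def]
      rw [← hmap]
      exact ⟨f, hf, rfl⟩
  · exact Abelianization.commutator_subset_ker (ehatAb Q)

/-- the target as an additive group -/
abbrev AbV : Type u := Additive (Abelianization (FreeGroup Q))

/-- the `ℤ`-basis of the abelianised free group -/
noncomputable def abBasis : Basis Q ℤ (AbV Q) :=
  Basis.ofRepr (AddEquiv.toIntLinearEquiv (FreeAbelianGroup.equivFinsupp Q))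

/-- `Ê → Multiplicative (F^ab as additive)` -/
def ehatAbM : Ehat Q →* Multiplicative (AbV Q) :=
  (MulEquiv.multiplicativeAdditive (H := Abelianization (FreeGroup Q))).symm.toMonoidHom.comp (ehatAb Q)

theorem ehatAbM_ker : (ehatAbM Q).ker = commutator (Ehat Q) := by
  rw [← ehatAb_ker]
  ext x
  simp [ehatAbM, MonoidHom.mem_ker]

/-- the multiplier subgroup `M = Ê' ∩ ker` -/
def multSub : Subgroup (Ehat Q) := commutator (Ehat Q) ⊓ (ehatProj Q).ker

theorem multSub_le_center : multSub Q ≤ Subgroup.center (Ehat Q) :=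
  inf_le_right.trans (ehatProj_ker_le_center Q)

instance finite_multSub [Finite Q] : Finite (multSub Q) := by
  have : Finite (commutator (Ehat Q)) := inferInstance
  exact Finite.of_injective (fun x : multSub Q => (⟨x.1, x.2.1⟩ : commutator (Ehat Q)))
    (fun a b h => Subtype.ext (congrArg (fun z : commutator (Ehat Q) => (z : Ehat Q)) h))

/-- existence of complements of `M` in `K` inside a given `T`. -/
theorem exists_complement [Finite Q] (T : Subgroup (Ehat Q)) (hTK : T ≤ (ehatProj Q).ker)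
    (hMT : ∀ k ∈ (ehatProj Q).ker, ∃ t ∈ T, k * t⁻¹ ∈ multSub Q) :
    ∃ S : Subgroup (Ehat Q), S ≤ T ∧ S ⊓ multSub Q = ⊥ ∧
      ∀ k ∈ (ehatProj Q).ker, ∃ s ∈ S, k * s⁻¹ ∈ multSub Q := by
  set K : Subgroup (Ehat Q) := (ehatProj Q).ker with hK
  letI : CommGroup K :=
    { (inferInstance : Group K) with
      mul_comm := fun a b => Subtype.ext
        (Subgroup.mem_center_iff.mp (ehatProj_ker_le_center Q b.2) a.1) }
  let φ : K →* Multiplicative (AbV Q) := (ehatAbM Q).comp K.subtype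
  have hφker : ∀ x : K, x ∈ φ.ker ↔ (x : Ehat Q) ∈ multSub Q := by
    intro x
    rw [MonoidHom.mem_ker, MonoidHom.comp_apply, ← MonoidHom.mem_ker, ehatAbM_ker]
    constructor
    · intro h; exact ⟨h, x.2⟩
    · intro h; exact h.1
  obtain ⟨S, hST, hSker, hScov⟩ := exists_split_group (abBasis Q) φ (T.subgroupOf K) (by
    intro c
    obtain ⟨t, ht, hm⟩ := hMT c.1 c.2
    refine ⟨⟨t, hTK ht⟩, ht, ?_⟩
    have h1 : (c * (⟨t, hTK ht⟩ : K)⁻¹) ∈ φ.ker := (hφker _).mpr hm
    rw [MonoidHom.mem_ker, map_mul, map_inv, mul_inv_eq_one] at h1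
    exact h1.symm)
  refine ⟨S.map K.subtype, ?_, ?_, ?_⟩
  · rintro _ ⟨x, hx, rfl⟩
    exact hST hx
  · rw [eq_bot_iff]
    rintro _ ⟨⟨x, hx, rfl⟩, hxM⟩
    have h1 : x ∈ S ⊓ φ.ker := ⟨hx, (hφker x).mpr hxM⟩
    rw [hSker] at h1
    have h2 : x = 1 := h1
    rw [h2]
    exact Subgroup.one_mem _
  · intro k hk
    obtain ⟨s, hs, hker⟩ := hScov ⟨k, hk⟩
    refine ⟨s.1, ⟨s, hs, rfl⟩, ?_⟩
    exact (hφker _).mp hker


/-- central subgroups are normal -/
theorem normal_of_le_center' {E : Type*} [Group E] (S : Subgroup E) (h : S ≤ Subgroup.center E) :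
    S.Normal := by
  constructor
  intro a ha g
  have := Subgroup.mem_center_iff.mp (h ha) g
  rw [this, mul_inv_cancel_right]
  exact ha

section Lift

variable {Q}
variable {X : Type v} [Group X] (ξ : X →* Q) (ψ : Ehat Q →* X) (hψ : ξ.comp ψ = ehatProj Q)

include hψ in
theorem lift_apply (e : Ehat Q) : ξ (ψ e) = ehatProj Q e := by
  rw [← MonoidHom.comp_apply, hψ]

include hψ in
/-- L1 : the commutator subgroup of a central extension is the image of `Ê'`. -/
theorem commutator_eq_map (hc : ξ.ker ≤ Subgroup.center X) :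
    commutator X = (commutator (Ehat Q)).map ψ := by
  apply le_antisymm
  · rw [commutator_def, Subgroup.commutator_le]
    intro a _ b _
    have hdec : ∀ x : X, ∃ e : Ehat Q, ∃ k ∈ Subgroup.center X, x = ψ e * k := by
      intro x
      obtain ⟨e, he⟩ := ehatProj_surjective Q (ξ x)
      refine ⟨e, (ψ e)⁻¹ * x, ?_, by group⟩
      apply hc
      rw [MonoidHom.mem_ker, map_mul, map_inv, lift_apply ξ ψ hψ, he, inv_mul_cancel]
    obtain ⟨e1, k1, hk1, rfl⟩ := hdec a
    obtain ⟨e2, k2, hk2, rfl⟩ := hdec b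
    rw [commutatorElement_mul_central _ _ k1 k2 hk1 hk2, ← map_commutatorElement]
    refine ⟨⁅e1, e2⁆, ?_, rfl⟩
    rw [commutator_def]
    exact Subgroup.commutator_mem_commutator (Subgroup.mem_top _) (Subgroup.mem_top _)
  · rw [commutator_def (Ehat Q), Subgroup.map_commutator, commutator_def]
    exact Subgroup.commutator_mono le_top le_top

include hψ in
/-- L2 : kernel meets commutator subgroup in the image of `M`. -/
theorem commutator_inf_ker_eq_map (hc : ξ.ker ≤ Subgroup.center X) :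
    commutator X ⊓ ξ.ker = (multSub Q).map ψ := by
  apply le_antisymm
  · rintro x ⟨hx1, hx2⟩
    rw [commutator_eq_map ξ ψ hψ hc] at hx1
    obtain ⟨d, hd, rfl⟩ := hx1
    refine ⟨d, ⟨hd, ?_⟩, rfl⟩
    show d ∈ (ehatProj Q).ker
    have hx2' : ψ d ∈ ξ.ker := hx2
    rw [MonoidHom.mem_ker] at hx2' ⊢
    rw [← lift_apply ξ ψ hψ]
    exact hx2'
  · rintro _ ⟨m, ⟨hm1, hm2⟩, rfl⟩
    constructor
    · rw [commutator_eq_map ξ ψ hψ hc]
      exact ⟨m, hm1, rfl⟩
    · show ψ m ∈ ξ.ker
      have hm2' : m ∈ (ehatProj Q).ker := hm2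
      rw [MonoidHom.mem_ker] at hm2' ⊢
      rw [lift_apply ξ ψ hψ]
      exact hm2'

include hψ in
/-- lifts to stem extensions are surjective -/
theorem lift_surjective_of_stem (hst : Cfsg.IsStemExtension ξ) : Function.Surjective ψ := by
  obtain ⟨hs, hc, hcomm⟩ := hst
  intro x
  obtain ⟨e, he⟩ := ehatProj_surjective Q (ξ x)
  have h1 : x * (ψ e)⁻¹ ∈ ξ.ker := by
    rw [MonoidHom.mem_ker, map_mul, map_inv, lift_apply ξ ψ hψ, he, mul_inv_cancel]
  have h2 : x * (ψ e)⁻¹ ∈ commutator X := hcomm h1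
  rw [commutator_eq_map ξ ψ hψ hc] at h2
  obtain ⟨d, _, hd⟩ := h2
  refine ⟨d * e, ?_⟩
  rw [map_mul, hd]
  group

include hψ in
/-- the kernel of a stem extension is the image of `M` -/
theorem ker_eq_map_of_stem (hst : Cfsg.IsStemExtension ξ) : ξ.ker = (multSub Q).map ψ := by
  rw [← commutator_inf_ker_eq_map ξ ψ hψ hst.2.1]
  exact (inf_eq_right.mpr hst.2.2).symm

end Lift


/-- `S` is a complement of `M` in `K = ker (Ê → Q)` -/
structure IsKerCompl (S : Subgroup (Ehat Q)) : Prop where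
  le_ker : S ≤ (ehatProj Q).ker
  inf_eq : S ⊓ multSub Q = ⊥
  cov : ∀ k ∈ (ehatProj Q).ker, ∃ s ∈ S, k * s⁻¹ ∈ multSub Q

theorem IsKerCompl.normal {S : Subgroup (Ehat Q)} (hS : IsKerCompl Q S) : S.Normal :=
  normal_of_le_center' S (hS.le_ker.trans (ehatProj_ker_le_center Q))

/-- the projection of the cover `Ê/S → Q` -/
def coverProj (S : Subgroup (Ehat Q)) [S.Normal] (h : S ≤ (ehatProj Q).ker) : Ehat Q ⧸ S →* Q :=
  QuotientGroup.lift S (ehatProj Q) h

@[simp] theorem coverProj_mk (S : Subgroup (Ehat Q)) [S.Normal] (h : S ≤ (ehatProj Q).ker)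
    (e : Ehat Q) : coverProj Q S h (e : Ehat Q ⧸ S) = ehatProj Q e := rfl

theorem mk_mem_ker_coverProj (S : Subgroup (Ehat Q)) [S.Normal] (h : S ≤ (ehatProj Q).ker)
    (e : Ehat Q) : ((e : Ehat Q ⧸ S)) ∈ (coverProj Q S h).ker ↔ e ∈ (ehatProj Q).ker := by
  rw [MonoidHom.mem_ker, MonoidHom.mem_ker, coverProj_mk]

theorem coverProj_stem (S : Subgroup (Ehat Q)) [S.Normal] (hS : IsKerCompl Q S) :
    Cfsg.IsStemExtension (coverProj Q S hS.le_ker) := by
  refine ⟨?_, ?_, ?_⟩
  · intro q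
    obtain ⟨e, he⟩ := ehatProj_surjective Q q
    exact ⟨(e : Ehat Q ⧸ S), he⟩
  · intro x hx
    induction x using QuotientGroup.induction_on with
    | H e =>
      rw [mk_mem_ker_coverProj] at hx
      have hc := ehatProj_ker_le_center Q hx
      rw [Subgroup.mem_center_iff]
      intro y
      induction y using QuotientGroup.induction_on with
      | H g =>
        rw [← QuotientGroup.mk_mul, ← QuotientGroup.mk_mul, Subgroup.mem_center_iff.mp hc g]
  · intro x hx
    induction x using QuotientGroup.induction_on with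
    | H e =>
      rw [mk_mem_ker_coverProj] at hx
      obtain ⟨s, hs, hm⟩ := hS.cov e hx
      have h1 : ((e * s⁻¹ : Ehat Q) : Ehat Q ⧸ S) = (e : Ehat Q ⧸ S) := by
        rw [QuotientGroup.mk_mul, QuotientGroup.mk_inv, (QuotientGroup.eq_one_iff s).mpr hs,
          inv_one, mul_one]
      rw [← h1]
      have h2 : (commutator (Ehat Q)).map (QuotientGroup.mk' S) ≤ commutator (Ehat Q ⧸ S) := by
        rw [commutator_def, Subgroup.map_commutator, commutator_def]
        exact Subgroup.commutator_mono le_top le_top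
      exact h2 ⟨e * s⁻¹, hm.1, rfl⟩

/-- the kernel of the cover is isomorphic to `M` -/
theorem coverProj_ker_equiv (S : Subgroup (Ehat Q)) [S.Normal] (hS : IsKerCompl Q S) :
    Nonempty ((coverProj Q S hS.le_ker).ker ≃* multSub Q) := by
  let f : multSub Q →* (coverProj Q S hS.le_ker).ker :=
    ((QuotientGroup.mk' S).comp (multSub Q).subtype).codRestrict _ (by
      intro m
      show ((m : Ehat Q) : Ehat Q ⧸ S) ∈ (coverProj Q S hS.le_ker).ker
      rw [mk_mem_ker_coverProj]
      exact m.2.2)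
  have hinj : Function.Injective f := by
    rw [injective_iff_map_eq_one]
    intro m hm
    have h1 : ((m : Ehat Q) : Ehat Q ⧸ S) = 1 := congrArg Subtype.val hm
    rw [QuotientGroup.eq_one_iff] at h1
    have h2 : (m : Ehat Q) ∈ S ⊓ multSub Q := ⟨h1, m.2⟩
    rw [hS.inf_eq] at h2
    exact Subtype.ext h2
  have hsurj : Function.Surjective f := by
    rintro ⟨x, hx⟩
    induction x using QuotientGroup.induction_on with
    | H e =>
      rw [mk_mem_ker_coverProj] at hx
      obtain ⟨s, hs, hm⟩ := hS.cov e hx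
      refine ⟨⟨e * s⁻¹, hm⟩, ?_⟩
      apply Subtype.ext
      show ((e * s⁻¹ : Ehat Q) : Ehat Q ⧸ S) = (e : Ehat Q ⧸ S)
      rw [QuotientGroup.mk_mul, QuotientGroup.mk_inv, (QuotientGroup.eq_one_iff s).mpr hs,
        inv_one, mul_one]
  exact ⟨(MulEquiv.ofBijective f ⟨hinj, hsurj⟩).symm⟩

theorem cover_finite [Finite Q] (S : Subgroup (Ehat Q)) [S.Normal] (hS : IsKerCompl Q S) :
    Finite (Ehat Q ⧸ S) := by
  obtain ⟨e⟩ := coverProj_ker_equiv Q S hS
  have h1 : Finite (coverProj Q S hS.le_ker).ker := Finite.of_equiv _ e.symm.toEquiv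
  have h2 : Finite ((Ehat Q ⧸ S) ⧸ (coverProj Q S hS.le_ker).ker) :=
    Finite.of_equiv Q (QuotientGroup.quotientKerEquivOfSurjective _
      (coverProj_stem Q S hS).1).symm.toEquiv
  exact Finite.of_subgroup_quotient (coverProj Q S hS.le_ker).ker

/-- T1: every stem extension is a quotient of a cover -/
theorem exists_cover_over [Finite Q] {Δ : Type v} [Group Δ] (τ : Δ →* Q)
    (hτ : Cfsg.IsStemExtension τ) :
    ∃ (S : Subgroup (Ehat Q)) (_ : S.Normal) (hS : IsKerCompl Q S) (β : Ehat Q ⧸ S →* Δ),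
      Function.Surjective β ∧ τ.comp β = coverProj Q S hS.le_ker := by
  obtain ⟨ψ, hψ⟩ := exists_lift Q τ hτ.1 hτ.2.1
  have hsurj := lift_surjective_of_stem τ ψ hψ hτ
  have hker := ker_eq_map_of_stem τ ψ hψ hτ
  set T : Subgroup (Ehat Q) := (ehatProj Q).ker ⊓ ψ.ker with hT
  have hMT : ∀ k ∈ (ehatProj Q).ker, ∃ t ∈ T, k * t⁻¹ ∈ multSub Q := by
    intro k hk
    have h1 : ψ k ∈ τ.ker := by
      rw [MonoidHom.mem_ker, lift_apply τ ψ hψ]; exact hk
    rw [hker] at h1
    obtain ⟨m, hm, hmk⟩ := h1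
    refine ⟨k * m⁻¹, ⟨?_, ?_⟩, ?_⟩
    · exact Subgroup.mul_mem _ hk (Subgroup.inv_mem _ hm.2)
    · show k * m⁻¹ ∈ ψ.ker
      rw [MonoidHom.mem_ker, map_mul, map_inv, hmk, mul_inv_cancel]
    · have hkc : k ∈ Subgroup.center (Ehat Q) := ehatProj_ker_le_center Q hk
      have : k * (k * m⁻¹)⁻¹ = k * m * k⁻¹ := by group
      rw [this, conj_central k hkc]; exact hm
  obtain ⟨S, hST, hSinf, hScov⟩ := exists_complement Q T inf_le_left hMT
  have hS : IsKerCompl Q S := ⟨hST.trans inf_le_left, hSinf, hScov⟩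
  have hSn : S.Normal := hS.normal
  have hSψ : S ≤ ψ.ker := hST.trans inf_le_right
  refine ⟨S, hSn, hS, QuotientGroup.lift S ψ hSψ, ?_, ?_⟩
  · intro d
    obtain ⟨e, he⟩ := hsurj d
    exact ⟨(e : Ehat Q ⧸ S), he⟩
  · refine MonoidHom.ext fun x => ?_
    induction x using QuotientGroup.induction_on with
    | H e =>
      show τ (ψ e) = ehatProj Q e
      exact lift_apply τ ψ hψ e

/-- T2: every stem kernel is a quotient of `M` -/
theorem exists_surj_of_stem {Δ : Type v} [Group Δ] (τ : Δ →* Q)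
    (hτ : Cfsg.IsStemExtension τ) : ∃ π : multSub Q →* τ.ker, Function.Surjective π := by
  obtain ⟨ψ, hψ⟩ := exists_lift Q τ hτ.1 hτ.2.1
  have hker := ker_eq_map_of_stem τ ψ hψ hτ
  refine ⟨(ψ.comp (multSub Q).subtype).codRestrict _ (by
    intro m
    rw [hker]
    exact ⟨m, m.2, rfl⟩), ?_⟩
  rintro ⟨k, hk⟩
  have hk' := hk
  rw [hker] at hk'
  obtain ⟨m, hm, hmk⟩ := hk'
  exact ⟨⟨m, hm⟩, Subtype.ext hmk⟩

/-- `M` is commutative -/
instance multSubCommGroup : CommGroup (multSub Q) :=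
  { (inferInstance : Group (multSub Q)) with
    mul_comm := fun a b => Subtype.ext
      (Subgroup.mem_center_iff.mp (multSub_le_center Q b.2) a.1) }

/-- T0: a cover exists -/
theorem exists_cover [Finite Q] :
    ∃ (S : Subgroup (Ehat Q)) (_ : S.Normal), IsKerCompl Q S := by
  have hid : Cfsg.IsStemExtension (MonoidHom.id Q) := by
    refine ⟨Function.surjective_id, ?_, ?_⟩ <;> rw [MonoidHom.ker_id] <;> exact bot_le
  obtain ⟨S, hSn, hS, _, _, _⟩ := exists_cover_over Q (MonoidHom.id Q) hid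
  exact ⟨S, hSn, hS⟩

/-- T3 -/
theorem hasSchurMultiplier_multSub [Finite Q] : Cfsg.HasSchurMultiplier Q (multSub Q) := by
  constructor
  · obtain ⟨S, hSn, hS⟩ := exists_cover Q
    exact ⟨Ehat Q ⧸ S, inferInstance, cover_finite Q S hS, coverProj Q S hS.le_ker,
      coverProj_stem Q S hS, coverProj_ker_equiv Q S hS⟩
  · intro Γ _ _ σ hσ
    exact exists_surj_of_stem Q σ hσ

/-- T4: the multiplier is unique up to isomorphism -/
theorem equiv_multSub [Finite Q] {A : Type v} [CommGroup A] (hA : Cfsg.HasSchurMultiplier Q A) :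
    Nonempty (A ≃* multSub Q) := by
  obtain ⟨⟨Γ1, _, _, σ1, hσ1, ⟨e1⟩⟩, hA2⟩ := hA
  -- surjection M → A
  obtain ⟨π1, hπ1⟩ := exists_surj_of_stem Q σ1 hσ1
  have hMA : Function.Surjective (e1.toMonoidHom.comp π1) := e1.surjective.comp hπ1
  -- surjection A → M
  obtain ⟨S, hSn, hS⟩ := exists_cover Q
  have hfin := cover_finite Q S hS
  obtain ⟨π2, hπ2⟩ := hA2 (Ehat Q ⧸ S) (coverProj Q S hS.le_ker) (coverProj_stem Q S hS)
  obtain ⟨e2⟩ := coverProj_ker_equiv Q S hS
  have hAM : Function.Surjective (e2.toMonoidHom.comp π2) := e2.surjective.comp hπ2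
  have hfinA : Finite A := Finite.of_surjective _ hMA
  have hbij : Function.Bijective (e2.toMonoidHom.comp π2) := by
    have hle1 : Nat.card A ≤ Nat.card (multSub Q) := Nat.card_le_card_of_surjective _ hMA
    have hle2 : Nat.card (multSub Q) ≤ Nat.card A := Nat.card_le_card_of_surjective _ hAM
    have heq : Nat.card A = Nat.card (multSub Q) := le_antisymm hle1 hle2
    exact (Nat.bijective_iff_surjective_and_card _).mpr ⟨hAM, heq⟩
  exact ⟨MulEquiv.ofBijective (e2.toMonoidHom.comp π2) hbij⟩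

end Cfsg.Agent.Lib.Helper65
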