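import Mathlib
import Cfsg.Agent.Lib.Helper65.SchurCover

set_option autoImplicit false

namespace Cfsg.Agent.Lib.Helper65

open scoped commutatorElement
open Module

universe u v

/-- a functional relation compatible with products gives a homomorphism -/
theorem hom_of_rel {G H : Type*} [Group G] [Group H] (R : G → H → Prop)
    (hex : ∀ g, ∃ h, R g h) (huniq : ∀ g h h', R g h → R g h' → h = h')
    (hmul : ∀ g₁ g₂ h₁ h₂, R g₁ h₁ → R g₂ h₂ → R (g₁ * g₂) (h₁ * h₂)) :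
    ∃ f : G →* H, ∀ g, R g (f g) := by
  choose f hf using hex
  exact ⟨MonoidHom.mk' f (fun a b => huniq _ _ _ (hf _) (hmul _ _ _ _ (hf a) (hf b))), hf⟩

theorem exists_coord_not_dvd {N : Type*} [AddCommGroup N] {n : ℕ} (c : Basis (Fin n) ℤ N)
    (p : ℤ) (u : N) (hu : ∀ t : N, u ≠ p • t) : ∃ j, ¬ p ∣ c.repr u j := by
  by_contra hcon
  push Not at hcon
  choose k hk using hcon
  apply hu (∑ j, k j • c j)
  rw [Finset.smul_sum]
  conv_lhs => rw [← c.sum_repr u]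
  refine Finset.sum_congr rfl fun j _ => ?_
  rw [hk j, mul_smul]

theorem exists_not_pow {M : Type*} [CommGroup M] [Finite M] (p : ℕ) (hp : p.Prime)
    (hpM : p ∣ Nat.card M) : ∃ m₀ : M, ∀ n : M, n ^ p ≠ m₀ := by
  have : Fact p.Prime := ⟨hp⟩
  obtain ⟨x, hx⟩ := exists_prime_orderOf_dvd_card' p hpM
  by_contra hcon
  push Not at hcon
  have hsurj : Function.Surjective (powMonoidHom p : M →* M) := fun m => hcon m
  have hinj := Finite.injective_iff_surjective.mpr hsurj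
  have h1 : (powMonoidHom p : M →* M) x = (powMonoidHom p : M →* M) 1 := by
    simp only [powMonoidHom_apply, one_pow]
    rw [← hx]; exact pow_orderOf_eq_one x
  have h2 := hinj h1
  rw [h2, orderOf_one] at hx
  exact hp.one_lt.ne hx

/-- a homomorphism on a complement-like subgroup which does not extend -/
theorem exists_nonextendable {E : Type*} [Group E] {V ι : Type*} [AddCommGroup V] [Finite ι]
    (b : Basis ι ℤ V) (ab : E →* Multiplicative V) (hker : ab.ker ≤ commutator E)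
    (S : Subgroup E) (hS : S ⊓ ab.ker = ⊥) (p : ℕ) (hp : p.Prime) (e : E)
    (he1 : ∃ s ∈ S, ab (e ^ p) = ab s) (he2 : ∀ s ∈ S, ab e ≠ ab s)
    {M : Type*} [CommGroup M] [Finite M] (hpM : p ∣ Nat.card M) :
    ∃ φ : S →* M, ∀ θ : E →* M, ¬ ∀ s : S, θ (s : E) = φ s := by
  classical
  obtain ⟨s₀, hs₀, hes₀⟩ := he1
  have hinj : Function.Injective (ab.comp S.subtype) := by
    rw [injective_iff_map_eq_one]
    intro t ht
    have h1 : (t : E) ∈ S ⊓ ab.ker := Subgroup.mem_inf.mpr ⟨t.2, ht⟩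
    rw [hS, Subgroup.mem_bot] at h1
    exact Subtype.ext h1
  let _ : CommGroup S :=
    { (inferInstance : Group S) with
      mul_comm := fun a b => hinj (by rw [map_mul, map_mul, mul_comm]) }
  let f' : Additive S →+ V := MonoidHom.toAdditiveLeft (ab.comp S.subtype)
  let fL : Additive S →ₗ[ℤ] V := f'.toIntLinearMap
  have hfL : ∀ x : Additive S, fL x = Multiplicative.toAdd (ab ((Additive.toMul x : S) : E)) :=
    fun x => rfl
  obtain ⟨n, ⟨c⟩⟩ := Submodule.nonempty_basis_of_pid b (LinearMap.range fL)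
  have hp0 : (p : ℤ) ≠ 0 := by exact_mod_cast hp.ne_zero
  -- `s₀` is not a `p`-th power
  have hnot : ∀ t : LinearMap.range fL,
      (fL.rangeRestrict (Additive.ofMul (⟨s₀, hs₀⟩ : S))) ≠ (p : ℤ) • t := by
    rintro ⟨_, ⟨t, rfl⟩⟩ h
    have h1 : fL (Additive.ofMul (⟨s₀, hs₀⟩ : S)) = (p : ℤ) • fL t := congrArg Subtype.val h
    have h2 : fL (Additive.ofMul (⟨s₀, hs₀⟩ : S)) = (p : ℤ) • Multiplicative.toAdd (ab e) := by
      rw [hfL]
      show Multiplicative.toAdd (ab s₀) = _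
      rw [← hes₀, map_pow, toAdd_pow, natCast_zsmul]
    have h3 : (p : ℤ) • (Multiplicative.toAdd (ab e) - fL t) = 0 := by
      rw [smul_sub, ← h1, ← h2, sub_self]
    have h4 := (b.smul_eq_zero.mp h3).resolve_left hp0
    apply he2 ((Additive.toMul t : S) : E) (Additive.toMul t : S).2
    have h5 : Multiplicative.toAdd (ab e) = fL t := sub_eq_zero.mp h4
    rw [hfL] at h5
    exact Multiplicative.toAdd.injective h5
  obtain ⟨j, hj⟩ := exists_coord_not_dvd c (p : ℤ) _ hnot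
  obtain ⟨m₀, hm₀⟩ := exists_not_pow (M := M) p hp hpM
  let cj : Additive S →ₗ[ℤ] ℤ := (c.coord j).comp fL.rangeRestrict
  let φ : S →* M := MonoidHom.mk' (fun s => m₀ ^ (cj (Additive.ofMul s))) (by
    intro a b
    show m₀ ^ (cj (Additive.ofMul (a * b))) = _
    rw [ofMul_mul, map_add, zpow_add])
  refine ⟨φ, fun θ hθ => ?_⟩
  have h5 : θ e ^ p = θ s₀ := by
    have h6 : e ^ p * s₀⁻¹ ∈ ab.ker := by
      rw [MonoidHom.mem_ker, map_mul, map_inv, hes₀, mul_inv_cancel]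
    have h7 : e ^ p * s₀⁻¹ ∈ θ.ker := (Abelianization.commutator_subset_ker θ) (hker h6)
    rw [MonoidHom.mem_ker, map_mul, map_inv, mul_inv_eq_one, map_pow] at h7
    exact h7
  have h7 : θ s₀ = m₀ ^ (cj (Additive.ofMul (⟨s₀, hs₀⟩ : S))) := hθ ⟨s₀, hs₀⟩
  have hcop : IsCoprime (p : ℤ) (cj (Additive.ofMul (⟨s₀, hs₀⟩ : S))) := by
    rw [Irreducible.coprime_iff_not_dvd (Nat.prime_iff_prime_int.mp hp).irreducible]
    exact hj
  obtain ⟨x, y, hxy⟩ := hcop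
  apply hm₀ (m₀ ^ x * θ e ^ y)
  set cc := cj (Additive.ofMul (⟨s₀, hs₀⟩ : S)) with hcc
  have e1 : (m₀ ^ x) ^ p = m₀ ^ (x * p) := by
    rw [← zpow_natCast (m₀ ^ x) p, ← zpow_mul]
  have e2 : (θ e ^ y) ^ p = (θ e ^ p) ^ y := by
    rw [← zpow_natCast (θ e ^ y) p, ← zpow_mul, mul_comm, zpow_mul, zpow_natCast]
  calc (m₀ ^ x * θ e ^ y) ^ p = m₀ ^ (x * p) * (θ e ^ p) ^ y := by
        rw [mul_pow, e1, e2]
    _ = m₀ ^ (x * p) * m₀ ^ (y * cc) := by rw [h5, h7, ← zpow_mul, mul_comm y]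
    _ = m₀ ^ (x * p + y * cc) := by rw [← zpow_add]
    _ = m₀ := by rw [hxy, zpow_one]


variable (Q : Type u) [Group Q]

theorem multSub_comm (m : multSub Q) (x : Ehat Q) : (m : Ehat Q) * x = x * (m : Ehat Q) :=
  (Subgroup.mem_center_iff.mp (multSub_le_center Q m.2) x).symm

theorem ker_comm {k : Ehat Q} (hk : k ∈ (ehatProj Q).ker) (x : Ehat Q) : k * x = x * k :=
  (Subgroup.mem_center_iff.mp (ehatProj_ker_le_center Q hk) x).symm

/-- a complement meets `Ê'` trivially -/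
theorem IsKerCompl.inf_ker_ab {S : Subgroup (Ehat Q)} (hS : IsKerCompl Q S) :
    S ⊓ (ehatAbM Q).ker = ⊥ := by
  rw [ehatAbM_ker, eq_bot_iff]
  intro x hx
  have h : x ∈ S ⊓ multSub Q := ⟨hx.1, hx.2, hS.le_ker hx.1⟩
  rw [hS.inf_eq] at h
  exact h

theorem map_commutator_ehat : (commutator (Ehat Q)).map (ehatProj Q) = commutator Q := by
  rw [commutator_def, Subgroup.map_commutator, ← MonoidHom.range_eq_map,
    MonoidHom.range_eq_top.mpr (ehatProj_surjective Q), ← commutator_def]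

/-- Lemma P -/
theorem exists_ab_pow_eq {S : Subgroup (Ehat Q)} (hS : IsKerCompl Q S) (e : Ehat Q) (n : ℕ)
    (hn : (Abelianization.of (ehatProj Q e)) ^ n = 1) :
    ∃ s ∈ S, ehatAbM Q (e ^ n) = ehatAbM Q s := by
  have h1 : ehatProj Q (e ^ n) ∈ commutator Q := by
    rw [← Abelianization.ker_of, MonoidHom.mem_ker, map_pow, map_pow]
    exact hn
  rw [← map_commutator_ehat] at h1
  obtain ⟨d, hd, hde⟩ := h1
  have hk : e ^ n * d⁻¹ ∈ (ehatProj Q).ker := by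
    rw [MonoidHom.mem_ker, map_mul, map_inv, hde, mul_inv_cancel]
  obtain ⟨s, hs, hm⟩ := hS.cov _ hk
  refine ⟨s, hs, ?_⟩
  have h2 : e ^ n * d⁻¹ * s⁻¹ ∈ (ehatAbM Q).ker := by rw [ehatAbM_ker]; exact hm.1
  have h3 : d ∈ (ehatAbM Q).ker := by rw [ehatAbM_ker]; exact hd
  rw [MonoidHom.mem_ker] at h2 h3
  rw [map_mul, map_mul, map_inv, map_inv, h3, inv_one, mul_one, mul_inv_eq_one] at h2
  exact h2

/-- the twist of a subgroup of the kernel by a homomorphism into `M` -/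
def twistHom (S : Subgroup (Ehat Q)) (φ : S →* multSub Q) : S →* Ehat Q :=
  MonoidHom.mk' (fun s => (s : Ehat Q) * (φ s : Ehat Q)) (by
    intro a b
    show ((a * b : S) : Ehat Q) * ((φ (a * b) : multSub Q) : Ehat Q) = _
    rw [map_mul, Subgroup.coe_mul, Subgroup.coe_mul, mul_assoc, mul_assoc]
    congr 1
    rw [← mul_assoc, ← mul_assoc, multSub_comm Q (φ a) (b : Ehat Q)])

theorem twistHom_apply (S : Subgroup (Ehat Q)) (φ : S →* multSub Q) (s : S) :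
    twistHom Q S φ s = (s : Ehat Q) * (φ s : Ehat Q) := rfl

theorem twist_isKerCompl {S : Subgroup (Ehat Q)} (hS : IsKerCompl Q S) (φ : S →* multSub Q) :
    IsKerCompl Q (twistHom Q S φ).range := by
  refine ⟨?_, ?_, ?_⟩
  · rintro _ ⟨s, rfl⟩
    rw [twistHom_apply]
    exact Subgroup.mul_mem _ (hS.le_ker s.2) (φ s).2.2
  · rw [eq_bot_iff]
    rintro _ ⟨⟨s, rfl⟩, hx⟩
    rw [twistHom_apply] at hx ⊢
    have h1 : (s : Ehat Q) ∈ multSub Q := by
      have := Subgroup.mul_mem _ hx (Subgroup.inv_mem _ (φ s).2)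
      rwa [mul_inv_cancel_right] at this
    have h2 : (s : Ehat Q) ∈ S ⊓ multSub Q := ⟨s.2, h1⟩
    rw [hS.inf_eq, Subgroup.mem_bot] at h2
    have h3 : s = 1 := Subtype.ext h2
    rw [h3, map_one]
    simp
  · intro k hk
    obtain ⟨s, hs, hm⟩ := hS.cov k hk
    refine ⟨twistHom Q S φ ⟨s, hs⟩, ⟨⟨s, hs⟩, rfl⟩, ?_⟩
    rw [twistHom_apply, mul_inv_rev, ← mul_assoc]
    have h1 : k * ((φ ⟨s, hs⟩ : multSub Q) : Ehat Q)⁻¹ * s⁻¹
        = (k * s⁻¹) * ((φ ⟨s, hs⟩ : multSub Q) : Ehat Q)⁻¹ := by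
      have hc := multSub_comm Q (φ ⟨s, hs⟩)⁻¹ (s⁻¹ : Ehat Q)
      rw [Subgroup.coe_inv] at hc
      rw [mul_assoc, hc, ← mul_assoc]
    show k * ((φ ⟨s, hs⟩ : multSub Q) : Ehat Q)⁻¹ * s⁻¹ ∈ multSub Q
    rw [h1]
    exact Subgroup.mul_mem _ hm (Subgroup.inv_mem _ (φ ⟨s, hs⟩).2)

/-- from a homomorphism of covers over `Q` to a homomorphism into `M` -/
theorem exists_theta_of_hom {S₁ S₂ : Subgroup (Ehat Q)} [S₁.Normal] [S₂.Normal]
    (hS₁ : IsKerCompl Q S₁) (hS₂ : IsKerCompl Q S₂) (ε : Ehat Q ⧸ S₁ →* Ehat Q ⧸ S₂)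
    (hε : (coverProj Q S₂ hS₂.le_ker).comp ε = coverProj Q S₁ hS₁.le_ker) :
    ∃ θ : Ehat Q →* multSub Q, ∀ e : Ehat Q,
      ε (e : Ehat Q ⧸ S₁) = ((e * (θ e : Ehat Q) : Ehat Q) : Ehat Q ⧸ S₂) := by
  apply hom_of_rel (fun (e : Ehat Q) (m : multSub Q) =>
    ε (e : Ehat Q ⧸ S₁) = ((e * (m : Ehat Q) : Ehat Q) : Ehat Q ⧸ S₂))
  · intro e
    obtain ⟨e', he'⟩ := QuotientGroup.mk_surjective (ε (e : Ehat Q ⧸ S₁))
    have h1 : ehatProj Q e' = ehatProj Q e := by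
      have := DFunLike.congr_fun hε (e : Ehat Q ⧸ S₁)
      rw [MonoidHom.comp_apply, ← he', coverProj_mk, coverProj_mk] at this
      exact this
    have hk : e⁻¹ * e' ∈ (ehatProj Q).ker := by
      rw [MonoidHom.mem_ker, map_mul, map_inv, h1, inv_mul_cancel]
    obtain ⟨s, hs, hm⟩ := hS₂.cov _ hk
    refine ⟨⟨e⁻¹ * e' * s⁻¹, hm⟩, ?_⟩
    show ε (e : Ehat Q ⧸ S₁) = ((e * (e⁻¹ * e' * s⁻¹) : Ehat Q) : Ehat Q ⧸ S₂)
    rw [← he', ← mul_assoc, ← mul_assoc, mul_inv_cancel, one_mul, QuotientGroup.mk_mul,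
      QuotientGroup.mk_inv, (QuotientGroup.eq_one_iff s).mpr hs, inv_one, mul_one]
  · intro e m m' h h'
    rw [h] at h'
    rw [QuotientGroup.eq] at h'
    have h2 : (m : Ehat Q)⁻¹ * (m' : Ehat Q) ∈ S₂ ⊓ multSub Q := by
      refine ⟨?_, Subgroup.mul_mem _ (Subgroup.inv_mem _ m.2) m'.2⟩
      have : (e * (m : Ehat Q))⁻¹ * (e * (m' : Ehat Q)) = (m : Ehat Q)⁻¹ * (m' : Ehat Q) := by group
      rwa [this] at h'
    rw [hS₂.inf_eq, Subgroup.mem_bot, inv_mul_eq_one] at h2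
    exact Subtype.ext h2
  · intro e₁ e₂ m₁ m₂ h₁ h₂
    show ε ((e₁ * e₂ : Ehat Q) : Ehat Q ⧸ S₁)
      = ((e₁ * e₂ * ((m₁ * m₂ : multSub Q) : Ehat Q) : Ehat Q) : Ehat Q ⧸ S₂)
    rw [QuotientGroup.mk_mul, map_mul, h₁, h₂, ← QuotientGroup.mk_mul]
    congr 1
    rw [Subgroup.coe_mul, mul_assoc, mul_assoc]
    congr 1
    rw [← mul_assoc, ← mul_assoc, multSub_comm Q m₁ e₂]

theorem theta_mem {S₁ S₂ : Subgroup (Ehat Q)} [S₁.Normal] [S₂.Normal]
    (ε : Ehat Q ⧸ S₁ →* Ehat Q ⧸ S₂) (θ : Ehat Q →* multSub Q)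
    (hθ : ∀ e : Ehat Q,
      ε (e : Ehat Q ⧸ S₁) = ((e * (θ e : Ehat Q) : Ehat Q) : Ehat Q ⧸ S₂))
    (s : Ehat Q) (hs : s ∈ S₁) : s * (θ s : Ehat Q) ∈ S₂ := by
  have h1 := hθ s
  rw [(QuotientGroup.eq_one_iff s).mpr hs, map_one] at h1
  exact (QuotientGroup.eq_one_iff _).mp h1.symm


theorem IsKerCompl.ab_inj {S : Subgroup (Ehat Q)} (hS : IsKerCompl Q S) {s s' : Ehat Q}
    (hs : s ∈ S) (hs' : s' ∈ S) (h : ehatAbM Q s = ehatAbM Q s') : s = s' := by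
  have h1 : s * s'⁻¹ ∈ S ⊓ (ehatAbM Q).ker :=
    ⟨Subgroup.mul_mem _ hs (Subgroup.inv_mem _ hs'), by
      show s * s'⁻¹ ∈ (ehatAbM Q).ker
      rw [MonoidHom.mem_ker, map_mul, map_inv, h, mul_inv_cancel]⟩
  rw [hS.inf_ker_ab, Subgroup.mem_bot, mul_inv_eq_one] at h1
  exact h1

/-- Lemma C : the coprime case -/
theorem exists_theta_of_coprime [Finite Q] {S₁ S₂ : Subgroup (Ehat Q)} (hS₁ : IsKerCompl Q S₁)
    (hS₂ : IsKerCompl Q S₂)
    (hcop : Nat.Coprime (Nat.card (Abelianization Q)) (Nat.card (multSub Q))) :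
    ∃ θ : Ehat Q →* multSub Q, ∀ s ∈ S₁, s * (θ s : Ehat Q) ∈ S₂ := by
  obtain ⟨ν, hν⟩ : ∃ ν : Ehat Q →* S₁, ∀ e,
      ehatAbM Q (e ^ Nat.card (Abelianization Q)) = ehatAbM Q (ν e : Ehat Q) := by
    apply hom_of_rel (fun (e : Ehat Q) (s : S₁) =>
      ehatAbM Q (e ^ Nat.card (Abelianization Q)) = ehatAbM Q (s : Ehat Q))
    · intro e
      obtain ⟨s, hs, h⟩ := exists_ab_pow_eq Q hS₁ e _ pow_card_eq_one'
      exact ⟨⟨s, hs⟩, h⟩
    · intro e s s' h h'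
      exact Subtype.ext (hS₁.ab_inj Q s.2 s'.2 (h.symm.trans h'))
    · intro e₁ e₂ s₁ s₂ h₁ h₂
      show ehatAbM Q ((e₁ * e₂) ^ _) = ehatAbM Q ((s₁ : Ehat Q) * (s₂ : Ehat Q))
      rw [map_mul, ← h₁, ← h₂, map_pow, map_pow, map_pow, map_mul, mul_pow]
  obtain ⟨φ, hφ⟩ : ∃ φ : S₁ →* multSub Q, ∀ s : S₁, (s : Ehat Q) * (φ s : Ehat Q) ∈ S₂ := by
    apply hom_of_rel (fun (s : S₁) (m : multSub Q) => (s : Ehat Q) * (m : Ehat Q) ∈ S₂)
    · intro s
      obtain ⟨s₂, hs₂, hm⟩ := hS₂.cov s (hS₁.le_ker s.2)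
      refine ⟨⟨((s : Ehat Q) * s₂⁻¹)⁻¹, Subgroup.inv_mem _ hm⟩, ?_⟩
      show (s : Ehat Q) * ((s : Ehat Q) * s₂⁻¹)⁻¹ ∈ S₂
      rw [mul_inv_rev, inv_inv, ker_comm Q (hS₂.le_ker hs₂), mul_inv_cancel_left]
      exact hs₂
    · intro s m m' h h'
      have h2 : (m : Ehat Q)⁻¹ * (m' : Ehat Q) ∈ S₂ ⊓ multSub Q := by
        refine ⟨?_, Subgroup.mul_mem _ (Subgroup.inv_mem _ m.2) m'.2⟩
        have := Subgroup.mul_mem _ (Subgroup.inv_mem _ h) h'
        have e1 : ((s : Ehat Q) * (m : Ehat Q))⁻¹ * ((s : Ehat Q) * (m' : Ehat Q))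
            = (m : Ehat Q)⁻¹ * (m' : Ehat Q) := by group
        rwa [e1] at this
      rw [hS₂.inf_eq, Subgroup.mem_bot, inv_mul_eq_one] at h2
      exact Subtype.ext h2
    · intro s₁ s₂ m₁ m₂ h₁ h₂
      show ((s₁ * s₂ : S₁) : Ehat Q) * ((m₁ * m₂ : multSub Q) : Ehat Q) ∈ S₂
      have e1 : ((s₁ * s₂ : S₁) : Ehat Q) * ((m₁ * m₂ : multSub Q) : Ehat Q)
          = ((s₁ : Ehat Q) * (m₁ : Ehat Q)) * ((s₂ : Ehat Q) * (m₂ : Ehat Q)) := by
        rw [Subgroup.coe_mul, Subgroup.coe_mul, mul_assoc, mul_assoc]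
        congr 1
        rw [← mul_assoc, ← mul_assoc, multSub_comm Q m₁ (s₂ : Ehat Q)]
      rw [e1]
      exact Subgroup.mul_mem _ h₁ h₂
  have hbez : (1 : ℤ) = (Nat.card (Abelianization Q) : ℤ) *
      Int.gcdA (Nat.card (Abelianization Q)) (Nat.card (multSub Q)) +
      (Nat.card (multSub Q) : ℤ) *
      Int.gcdB (Nat.card (Abelianization Q)) (Nat.card (multSub Q)) := by
    have h := Int.gcd_eq_gcd_ab (Nat.card (Abelianization Q)) (Nat.card (multSub Q))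
    rw [Int.gcd_natCast_natCast, Nat.Coprime.gcd_eq_one hcop] at h
    exact_mod_cast h
  refine ⟨(zpowGroupHom (Int.gcdA (Nat.card (Abelianization Q)) (Nat.card (multSub Q)))).comp
    (φ.comp ν), fun s hs => ?_⟩
  have h1 : ν s = (⟨s, hs⟩ : S₁) ^ Nat.card (Abelianization Q) := by
    apply Subtype.ext
    apply hS₁.ab_inj Q (ν s).2 (Subgroup.pow_mem _ hs _)
    rw [← hν]
  have h2 : ((zpowGroupHom (Int.gcdA (Nat.card (Abelianization Q))
      (Nat.card (multSub Q)))).comp (φ.comp ν)) s = φ ⟨s, hs⟩ := by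
    rw [MonoidHom.comp_apply, MonoidHom.comp_apply, zpowGroupHom_apply, h1, map_pow]
    have h3 : (φ ⟨s, hs⟩) ^ (Nat.card (multSub Q) : ℤ) = 1 := by
      rw [zpow_natCast]; exact pow_card_eq_one'
    calc ((φ ⟨s, hs⟩) ^ Nat.card (Abelianization Q)) ^
          (Int.gcdA (Nat.card (Abelianization Q)) (Nat.card (multSub Q)))
        = (φ ⟨s, hs⟩) ^ ((Nat.card (Abelianization Q) : ℤ) *
          Int.gcdA (Nat.card (Abelianization Q)) (Nat.card (multSub Q))) := by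
          rw [← zpow_natCast, ← zpow_mul]
      _ = (φ ⟨s, hs⟩) ^ ((Nat.card (Abelianization Q) : ℤ) *
          Int.gcdA (Nat.card (Abelianization Q)) (Nat.card (multSub Q)) +
          (Nat.card (multSub Q) : ℤ) *
          Int.gcdB (Nat.card (Abelianization Q)) (Nat.card (multSub Q))) := by
          rw [zpow_add, zpow_mul _ (Nat.card (multSub Q) : ℤ), h3, one_zpow, mul_one]
      _ = φ ⟨s, hs⟩ := by rw [← hbez, zpow_one]
  rw [h2]
  exact hφ ⟨s, hs⟩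

/-- the kernel of a lift to a covering group is a complement -/
theorem isKerCompl_ker_lift [Finite Q] {Γ : Type v} [Group Γ] (σ : Γ →* Q)
    (hσ : Cfsg.IsStemExtension σ) (hcard : Nat.card (multSub Q) = Nat.card σ.ker)
    (ψ : Ehat Q →* Γ) (hψ : σ.comp ψ = ehatProj Q) : IsKerCompl Q ψ.ker := by
  have hker := ker_eq_map_of_stem σ ψ hψ hσ
  let r : multSub Q →* σ.ker := (ψ.comp (multSub Q).subtype).codRestrict _ (by
    intro m
    rw [hker]
    exact ⟨m, m.2, rfl⟩)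
  have hr : Function.Surjective r := by
    rintro ⟨k, hk⟩
    have hk' := hk
    rw [hker] at hk'
    obtain ⟨m, hm, hmk⟩ := hk'
    exact ⟨⟨m, hm⟩, Subtype.ext hmk⟩
  have hrb : Function.Bijective r := (Nat.bijective_iff_surjective_and_card r).mpr ⟨hr, hcard⟩
  refine ⟨?_, ?_, ?_⟩
  · intro t ht
    rw [MonoidHom.mem_ker] at ht ⊢
    rw [← lift_apply σ ψ hψ, ht, map_one]
  · rw [eq_bot_iff]
    intro x hx
    obtain ⟨hx1, hx2⟩ := Subgroup.mem_inf.mp hx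
    rw [Subgroup.mem_bot]
    have h1 : r ⟨x, hx2⟩ = r 1 := by
      apply Subtype.ext
      rw [map_one]
      exact hx1
    have := hrb.1 h1
    exact congrArg Subtype.val this
  · intro k hk
    have h1 : ψ k ∈ σ.ker := by
      rw [MonoidHom.mem_ker, lift_apply σ ψ hψ]; exact hk
    rw [hker] at h1
    obtain ⟨m, hm, hmk⟩ := h1
    refine ⟨k * m⁻¹, ?_, ?_⟩
    · show k * m⁻¹ ∈ ψ.ker
      rw [MonoidHom.mem_ker, map_mul, map_inv, hmk, mul_inv_cancel]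
    · have hkc : k ∈ Subgroup.center (Ehat Q) := ehatProj_ker_le_center Q hk
      have : k * (k * m⁻¹)⁻¹ = k * m * k⁻¹ := by group
      rw [this, conj_central k hkc]; exact hm

end Cfsg.Agent.Lib.Helper65
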