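import Mathlib

set_option autoImplicit false

namespace Cfsg.Agent.Lib.Helper65

open scoped Pointwise IsMulCommutative commutatorElement

theorem inv_smul_eq_of_normal {F : Type*} [Group F] (E : Subgroup F) (r : F)
    (hr : ∀ g : F, g⁻¹ * r * g ∈ E) (q : F ⧸ E) : r⁻¹ • q = q := by
  induction q using QuotientGroup.induction_on with
  | H g =>
    show ((r⁻¹ * g : F) : F ⧸ E) = (g : F ⧸ E)
    rw [QuotientGroup.eq]
    have : (r⁻¹ * g)⁻¹ * g = g⁻¹ * r * g := by group
    rw [this]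
    exact hr g

/-- the transfer evaluated on an element of the normal core -/
theorem transfer_eq_prod_of_normal {F : Type*} [Group F] (E : Subgroup F) [E.FiniteIndex]
    {A : Type*} [CommGroup A] (ϕ : E →* A) (T : E.LeftTransversal) (r : F)
    (hr : ∀ g : F, g⁻¹ * r * g ∈ E) :
    letI := E.fintypeQuotientOfFiniteIndex
    MonoidHom.transfer ϕ r = ∏ q : F ⧸ E,
      ϕ ⟨(T.2.leftQuotientEquiv q : F)⁻¹ * r * (T.2.leftQuotientEquiv q : F), hr _⟩ := by
  rw [MonoidHom.transfer_def ϕ T r]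
  unfold Subgroup.leftTransversals.diff
  refine Finset.prod_congr rfl fun q _ => ?_
  congr 1
  apply Subtype.ext
  show (T.2.leftQuotientEquiv q : F)⁻¹ * ((r • T).2.leftQuotientEquiv q : F) = _
  rw [Subgroup.smul_apply_eq_smul_apply_inv_smul, inv_smul_eq_of_normal E r hr q, smul_eq_mul]
  exact (mul_assoc _ _ _).symm

theorem map_coe_prod_center {X Y : Type*} [Group X] [Group Y] (ι : X →* Y) {α : Type*}
    (s : Finset α) (c : α → Subgroup.center X) (d : α → Subgroup.center Y)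
    (h : ∀ a, ι (c a : X) = (d a : Y)) :
    ι ((∏ a ∈ s, c a : Subgroup.center X) : X) = ((∏ a ∈ s, d a : Subgroup.center Y) : Y) := by
  classical
  induction s using Finset.induction_on with
  | empty => simp
  | insert a s ha ih =>
    rw [Finset.prod_insert ha, Finset.prod_insert ha, Subgroup.coe_mul, Subgroup.coe_mul, map_mul,
      ih, h]

section Abstract

variable {F : Type*} [Group F] (R E : Subgroup F) [hRn : R.Normal] (hRE : R ≤ E)
  [E.FiniteIndex] {X : Type*} [Group X] (lam : E →* X)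
  (hlam : ∀ r (hr : r ∈ R), lam ⟨r, hRE hr⟩ ∈ Subgroup.center X)
  (T : E.LeftTransversal)

include hRn in
theorem conj_mem_of_normal' {r : F} (hr : r ∈ R) (g : F) : g⁻¹ * r * g ∈ R := by
  have := hRn.conj_mem r hr g⁻¹
  rwa [inv_inv] at this

/-- one factor of the Hopf transfer -/
noncomputable def hopfFactor (g : F) (r : R) : Subgroup.center X :=
  ⟨lam ⟨g⁻¹ * (r : F) * g, hRE (conj_mem_of_normal' R r.2 g)⟩,
    hlam _ (conj_mem_of_normal' R r.2 g)⟩

theorem hopfFactor_mul (g : F) (r r' : R) :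
    hopfFactor R E hRE lam hlam g (r * r') =
      hopfFactor R E hRE lam hlam g r * hopfFactor R E hRE lam hlam g r' := by
  apply Subtype.ext
  show lam ⟨g⁻¹ * ((r * r' : R) : F) * g, _⟩ = lam ⟨g⁻¹ * (r : F) * g, _⟩ * lam ⟨g⁻¹ * (r' : F) * g, _⟩
  rw [← map_mul]
  congr 1
  apply Subtype.ext
  show g⁻¹ * ((r : F) * (r' : F)) * g = (g⁻¹ * (r : F) * g) * (g⁻¹ * (r' : F) * g)
  group

/-- the Hopf transfer `R → Z(X)` -/
noncomputable def hopfTransfer : R →* Subgroup.center X :=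
  letI := E.fintypeQuotientOfFiniteIndex
  MonoidHom.mk' (fun r => ∏ q : F ⧸ E,
    hopfFactor R E hRE lam hlam (T.2.leftQuotientEquiv q : F) r) (by
    intro r r'
    simp only [hopfFactor_mul]
    exact Finset.prod_mul_distrib)

theorem hopfTransfer_apply (r : R) :
    letI := E.fintypeQuotientOfFiniteIndex
    hopfTransfer R E hRE lam hlam T r = ∏ q : F ⧸ E,
      hopfFactor R E hRE lam hlam (T.2.leftQuotientEquiv q : F) r := rfl

/-- the factor at `g` depends only on the coset `gE` -/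
theorem hopfFactor_mul_right (g : F) (e : F) (he : e ∈ E) (r : R) :
    hopfFactor R E hRE lam hlam (g * e) r = hopfFactor R E hRE lam hlam g r := by
  apply Subtype.ext
  show lam ⟨(g * e)⁻¹ * (r : F) * (g * e), _⟩ = lam ⟨g⁻¹ * (r : F) * g, _⟩
  have h1 : (⟨(g * e)⁻¹ * (r : F) * (g * e), hRE (conj_mem_of_normal' R r.2 (g * e))⟩ : E)
      = (⟨e, he⟩ : E)⁻¹ * ⟨g⁻¹ * (r : F) * g, hRE (conj_mem_of_normal' R r.2 g)⟩ * ⟨e, he⟩ := by
    apply Subtype.ext
    show (g * e)⁻¹ * (r : F) * (g * e) = e⁻¹ * (g⁻¹ * (r : F) * g) * e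
    group
  rw [h1, map_mul, map_mul, map_inv]
  have hc := hlam _ (conj_mem_of_normal' R r.2 g)
  rw [mul_assoc, ← Subgroup.mem_center_iff.mp hc (lam ⟨e, he⟩), ← mul_assoc, inv_mul_cancel,
    one_mul]

theorem hopfFactor_eq_of_mk_eq (g g' : F) (h : (g : F ⧸ E) = (g' : F ⧸ E)) (r : R) :
    hopfFactor R E hRE lam hlam g r = hopfFactor R E hRE lam hlam g' r := by
  have he : g⁻¹ * g' ∈ E := QuotientGroup.eq.mp h
  have : g' = g * (g⁻¹ * g') := by group
  rw [this, hopfFactor_mul_right R E hRE lam hlam g _ he]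

/-- conjugation invariance of the Hopf transfer -/
theorem hopfTransfer_conj (f : F) (r : R) :
    hopfTransfer R E hRE lam hlam T ⟨f⁻¹ * (r : F) * f, conj_mem_of_normal' R r.2 f⟩
      = hopfTransfer R E hRE lam hlam T r := by
  let _ := E.fintypeQuotientOfFiniteIndex
  rw [hopfTransfer_apply, hopfTransfer_apply]
  rw [← Equiv.prod_comp (MulAction.toPerm f : Equiv.Perm (F ⧸ E))
    (fun q => hopfFactor R E hRE lam hlam (T.2.leftQuotientEquiv q : F) r)]
  refine Finset.prod_congr rfl fun q _ => ?_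
  -- factor at t_q of f⁻¹ r f = factor at f t_q of r = factor at t_{f q} of r
  have h1 : hopfFactor R E hRE lam hlam (T.2.leftQuotientEquiv q : F)
      ⟨f⁻¹ * (r : F) * f, conj_mem_of_normal' R r.2 f⟩
      = hopfFactor R E hRE lam hlam (f * (T.2.leftQuotientEquiv q : F)) r := by
    apply Subtype.ext
    show lam ⟨_, _⟩ = lam ⟨_, _⟩
    congr 1
    apply Subtype.ext
    show (T.2.leftQuotientEquiv q : F)⁻¹ * (f⁻¹ * (r : F) * f) * (T.2.leftQuotientEquiv q : F)
      = (f * (T.2.leftQuotientEquiv q : F))⁻¹ * (r : F) * (f * (T.2.leftQuotientEquiv q : F))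
    group
  rw [h1]
  apply hopfFactor_eq_of_mk_eq
  rw [MulAction.toPerm_apply]
  have h2 : ((T.2.leftQuotientEquiv (f • q) : F) : F ⧸ E) = f • q :=
    T.2.quotientGroupMk_leftQuotientEquiv (f • q)
  have h3 : ((T.2.leftQuotientEquiv q : F) : F ⧸ E) = q :=
    T.2.quotientGroupMk_leftQuotientEquiv q
  rw [h2]
  show ((f * (T.2.leftQuotientEquiv q : F) : F) : F ⧸ E) = f • q
  conv_rhs => rw [← h3]
  rfl

/-- the Hopf transfer kills `[F,R]` -/
theorem hopfTransfer_commutator (f : F) (r : R) (h : ⁅f, (r : F)⁆ ∈ R) :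
    hopfTransfer R E hRE lam hlam T ⟨⁅f, (r : F)⁆, h⟩ = 1 := by
  have h1 : (⟨⁅f, (r : F)⁆, h⟩ : R)
      = ⟨f⁻¹⁻¹ * (r : F) * f⁻¹, conj_mem_of_normal' R r.2 f⁻¹⟩ * r⁻¹ := by
    apply Subtype.ext
    show ⁅f, (r : F)⁆ = f⁻¹⁻¹ * (r : F) * f⁻¹ * (r : F)⁻¹
    rw [commutatorElement_def, inv_inv]
  rw [h1, map_mul, hopfTransfer_conj, map_inv, mul_inv_cancel]

/-- on `R ∩ F'` the Hopf transfer takes values in `X'` -/
theorem hopfTransfer_mem_commutator (r : R) (hr : (r : F) ∈ commutator F) :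
    ((hopfTransfer R E hRE lam hlam T r : Subgroup.center X) : X) ∈ commutator X := by
  let _ := E.fintypeQuotientOfFiniteIndex
  let ab : X →* Abelianization X := Abelianization.of
  let ϕ : E →* Abelianization X := ab.comp lam
  have hcore : ∀ g : F, g⁻¹ * (r : F) * g ∈ E := fun g => hRE (conj_mem_of_normal' R r.2 g)
  have h1 := transfer_eq_prod_of_normal E ϕ T (r : F) hcore
  have h2 : MonoidHom.transfer ϕ (r : F) = 1 :=
    Abelianization.commutator_subset_ker (MonoidHom.transfer ϕ) hr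
  have h3 : ab ((hopfTransfer R E hRE lam hlam T r : Subgroup.center X) : X)
      = ∏ q : F ⧸ E, ϕ ⟨(T.2.leftQuotientEquiv q : F)⁻¹ * (r : F) * (T.2.leftQuotientEquiv q : F),
        hcore _⟩ := by
    rw [hopfTransfer_apply]
    show (ab.comp (Subgroup.center X).subtype) (∏ q : F ⧸ E,
      hopfFactor R E hRE lam hlam (T.2.leftQuotientEquiv q : F) r) = _
    rw [map_prod]
    rfl
  rw [← Abelianization.ker_of, MonoidHom.mem_ker]
  show ab _ = 1
  rw [h3, ← h1, h2]

section Compare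

variable {Y : Type*} [Group Y] (mk : F →* Y) (ι : X →* Y)
  (hδ : ∀ e : E, (mk (e : F))⁻¹ * ι (lam e) ∈ Subgroup.center Y)
  (hmkR : ∀ r ∈ R, mk r ∈ Subgroup.center Y)

/-- the difference of the two lifts, a homomorphism into the centre -/
noncomputable def liftDiff : E →* Subgroup.center Y :=
  MonoidHom.mk' (fun e => ⟨(mk (e : F))⁻¹ * ι (lam e), hδ e⟩) (by
    intro a b
    apply Subtype.ext
    show (mk ((a * b : E) : F))⁻¹ * ι (lam (a * b))
      = ((mk (a : F))⁻¹ * ι (lam a)) * ((mk (b : F))⁻¹ * ι (lam b))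
    have hc := Subgroup.mem_center_iff.mp (hδ a) (mk (b : F))⁻¹
    rw [Subgroup.coe_mul, map_mul, map_mul, map_mul, mul_inv_rev]
    calc (mk (b : F))⁻¹ * (mk (a : F))⁻¹ * (ι (lam a) * ι (lam b))
        = (mk (b : F))⁻¹ * ((mk (a : F))⁻¹ * ι (lam a)) * ι (lam b) := by group
      _ = ((mk (a : F))⁻¹ * ι (lam a)) * (mk (b : F))⁻¹ * ι (lam b) := by rw [hc]
      _ = _ := by group)

include hδ hmkR in
theorem map_hopfTransfer (r : R) (hr : (r : F) ∈ commutator F) :
    ι ((hopfTransfer R E hRE lam hlam T r : Subgroup.center X) : X) = (mk (r : F)) ^ E.index := by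
  let _ := E.fintypeQuotientOfFiniteIndex
  have hcore : ∀ g : F, g⁻¹ * (r : F) * g ∈ E := fun g => hRE (conj_mem_of_normal' R r.2 g)
  let δ := liftDiff E lam mk ι hδ
  let z : Subgroup.center Y := ⟨mk (r : F), hmkR _ r.2⟩
  have hfac : ∀ q : F ⧸ E,
      ι ((hopfFactor R E hRE lam hlam (T.2.leftQuotientEquiv q : F) r : Subgroup.center X) : X)
      = ((z * δ ⟨(T.2.leftQuotientEquiv q : F)⁻¹ * (r : F) * (T.2.leftQuotientEquiv q : F),
          hcore _⟩ : Subgroup.center Y) : Y) := by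
    intro q
    show ι (lam ⟨_, _⟩) = mk (r : F) * ((mk _)⁻¹ * ι (lam ⟨_, _⟩))
    rw [← mul_assoc]
    have h1 : mk ((T.2.leftQuotientEquiv q : F)⁻¹ * (r : F) * (T.2.leftQuotientEquiv q : F))
        = mk (r : F) := by
      rw [map_mul, map_mul, map_inv, mul_assoc,
        ← Subgroup.mem_center_iff.mp (hmkR _ r.2) (mk (T.2.leftQuotientEquiv q : F)),
        ← mul_assoc, inv_mul_cancel, one_mul]
    show _ = mk (r : F) * (mk ((T.2.leftQuotientEquiv q : F)⁻¹ * (r : F)
      * (T.2.leftQuotientEquiv q : F)))⁻¹ * _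
    rw [h1, mul_inv_cancel, one_mul]
  rw [hopfTransfer_apply, map_coe_prod_center ι Finset.univ _ _ hfac, Finset.prod_mul_distrib,
    Finset.prod_const, Finset.card_univ]
  have h2 : MonoidHom.transfer δ (r : F) = 1 :=
    Abelianization.commutator_subset_ker (MonoidHom.transfer δ) hr
  rw [← transfer_eq_prod_of_normal E δ T (r : F) hcore, h2, mul_one, Subgroup.coe_pow]
  congr 1
  rw [Subgroup.index_eq_card, Nat.card_eq_fintype_card]

end Compare

end Abstract

end Cfsg.Agent.Lib.Helper65
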