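import Mathlib
import Cfsg.Agent.Lib.Helper65.HopfTransfer
import Cfsg.Agent.Lib.Helper65.CoverUnique

set_option autoImplicit false

namespace Cfsg.Agent.Lib.Helper65

open scoped Pointwise IsMulCommutative commutatorElement

universe u

variable (G : Type u) [Group G] (H : Subgroup G)

theorem freeProj_map_val (f : FreeGroup H) :
    freeProj G (FreeGroup.map Subtype.val f) = ((freeProj H f : H) : G) := by
  have : (freeProj G).comp (FreeGroup.map (Subtype.val : H → G)) = H.subtype.comp (freeProj H) := by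
    ext x
    simp [freeProj]
  exact DFunLike.congr_fun this f

theorem relComm_le_comap :
    relComm H ≤ (relComm G).comap (FreeGroup.map (Subtype.val : H → G)) := by
  rw [← Subgroup.map_le_iff_le_comap]
  unfold relComm
  rw [Subgroup.map_commutator]
  apply Subgroup.commutator_mono le_top
  rintro _ ⟨f, hf, rfl⟩
  rw [MonoidHom.mem_ker, freeProj_map_val]
  have hf' : freeProj H f = 1 := hf
  rw [hf']
  rfl

/-- the map `Ê_H → Ê_G` induced by inclusion -/
def ehatMap : Ehat H →* Ehat G :=
  QuotientGroup.map (relComm H) (relComm G) (FreeGroup.map Subtype.val) (relComm_le_comap G H)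

theorem ehatMap_mk (f : FreeGroup H) :
    ehatMap G H (f : Ehat H) = ((FreeGroup.map Subtype.val f : FreeGroup G) : Ehat G) := rfl

theorem ehatProj_ehatMap (x : Ehat H) : ehatProj G (ehatMap G H x) = ((ehatProj H x : H) : G) := by
  induction x using QuotientGroup.induction_on with
  | H f => exact freeProj_map_val G H f

/-- the preimage of `H` in the free group -/
def preE : Subgroup (FreeGroup G) := H.comap (freeProj G)

theorem ker_le_preE : (freeProj G).ker ≤ preE G H := by
  intro r hr
  show freeProj G r ∈ H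
  rw [MonoidHom.mem_ker.mp hr]
  exact H.one_mem

instance preE_finiteIndex [Finite G] : (preE G H).FiniteIndex := by
  constructor
  unfold preE
  rw [Subgroup.index_comap_of_surjective H (freeProj_surjective G)]
  exact Subgroup.index_ne_zero_of_finite

theorem preE_index : (preE G H).index = H.index :=
  Subgroup.index_comap_of_surjective H (freeProj_surjective G)

/-- a lift `E → Ê_H` (Nielsen--Schreier) -/
theorem exists_preE_lift : ∃ lam : preE G H →* Ehat H,
    ∀ e : preE G H, ehatProj H (lam e) = ⟨freeProj G (e : FreeGroup G), e.2⟩ := by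
  let πE : preE G H →* H := (freeProj G).subgroupComap H
  let s : H → Ehat H := Function.surjInv (ehatProj_surjective H)
  have hs : ∀ h, ehatProj H (s h) = h := Function.surjInv_eq (ehatProj_surjective H)
  let lam : preE G H →* Ehat H := IsFreeGroup.lift (fun x => s (πE (IsFreeGroup.of x)))
  have h : (ehatProj H).comp lam = πE := by
    apply IsFreeGroup.ext_hom
    intro a
    rw [MonoidHom.comp_apply, IsFreeGroup.lift_of, hs]
  refine ⟨lam, fun e => ?_⟩
  have := DFunLike.congr_fun h e
  rw [MonoidHom.comp_apply] at this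
  rw [this]
  rfl


theorem commutator_ehat_eq_map :
    commutator (Ehat G) = (commutator (FreeGroup G)).map (QuotientGroup.mk' (relComm G)) := by
  rw [commutator_def, commutator_def, Subgroup.map_commutator, ← MonoidHom.range_eq_map,
    MonoidHom.range_eq_top.mpr (QuotientGroup.mk'_surjective _)]

theorem map_commutator_le_commutator {X Y : Type*} [Group X] [Group Y] (f : X →* Y) {x : X}
    (hx : x ∈ commutator X) : f x ∈ commutator Y := by
  have h : (commutator X).map f ≤ commutator Y := by
    rw [commutator_def, Subgroup.map_commutator, commutator_def]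
    exact Subgroup.commutator_mono le_top le_top
  exact h ⟨x, hx, rfl⟩

/-- the natural map `M(H) → M(G)` -/
def multMap : multSub H →* multSub G :=
  ((ehatMap G H).comp (multSub H).subtype).codRestrict (multSub G) (by
    intro x
    refine ⟨map_commutator_le_commutator (ehatMap G H) x.2.1, ?_⟩
    show ehatMap G H (x : Ehat H) ∈ (ehatProj G).ker
    rw [MonoidHom.mem_ker, ehatProj_ehatMap]
    have : ehatProj H (x : Ehat H) = 1 := x.2.2
    rw [this]
    rfl)

theorem multMap_coe (x : multSub H) : ((multMap G H x : multSub G) : Ehat G) = ehatMap G H x := rfl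

/-- the transfer `M(G) → M(H)` with `multMap ∘ transfer = index`-th power -/
theorem exists_mult_transfer [Finite G] :
    ∃ t : multSub G →* multSub H, ∀ x : multSub G, multMap G H (t x) = x ^ H.index := by
  obtain ⟨lam, hlamP⟩ := exists_preE_lift G H
  have hRE := ker_le_preE G H
  have hRn : (freeProj G).ker.Normal := inferInstance
  have hlam : ∀ r (hr : r ∈ (freeProj G).ker), lam ⟨r, hRE hr⟩ ∈ Subgroup.center (Ehat H) := by
    intro r hr
    apply ehatProj_ker_le_center H
    rw [MonoidHom.mem_ker, hlamP]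
    apply Subtype.ext
    exact hr
  let T : (preE G H).LeftTransversal := default
  let τ := hopfTransfer (freeProj G).ker (preE G H) hRE lam hlam T
  let mk : FreeGroup G →* Ehat G := QuotientGroup.mk' (relComm G)
  have hδ : ∀ e : preE G H, (mk (e : FreeGroup G))⁻¹ * ehatMap G H (lam e)
      ∈ Subgroup.center (Ehat G) := by
    intro e
    apply ehatProj_ker_le_center G
    rw [MonoidHom.mem_ker, map_mul, map_inv, ehatProj_ehatMap, hlamP]
    show (freeProj G (e : FreeGroup G))⁻¹ * freeProj G (e : FreeGroup G) = 1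
    rw [inv_mul_cancel]
  have hmkR : ∀ r ∈ (freeProj G).ker, mk r ∈ Subgroup.center (Ehat G) := by
    intro r hr
    apply ehatProj_ker_le_center G
    rw [MonoidHom.mem_ker]
    exact hr
  -- τ lands in the kernel
  have hτker : ∀ r, ((τ r : Subgroup.center (Ehat H)) : Ehat H) ∈ (ehatProj H).ker := by
    intro r
    let _ := (preE G H).fintypeQuotientOfFiniteIndex
    have : τ r ∈ ((ehatProj H).ker).subgroupOf (Subgroup.center (Ehat H)) := by
      show hopfTransfer (freeProj G).ker (preE G H) hRE lam hlam T r ∈ _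
      rw [hopfTransfer_apply]
      apply Subgroup.prod_mem
      intro q _
      show lam ⟨_, _⟩ ∈ (ehatProj H).ker
      rw [MonoidHom.mem_ker, hlamP]
      apply Subtype.ext
      exact conj_mem_of_normal' (freeProj G).ker r.2 _
    exact this
  -- τ kills [F,R]
  have hτrel : ∀ (x : FreeGroup G) (hx : x ∈ relComm G), τ ⟨x, relComm_le_ker G hx⟩ = 1 := by
    have hle : relComm G ≤ τ.ker.map (freeProj G).ker.subtype := by
      unfold relComm
      rw [Subgroup.commutator_le]
      intro f _ r hr
      have hmem : ⁅f, r⁆ ∈ (freeProj G).ker :=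
        relComm_le_ker G (Subgroup.commutator_mem_commutator (Subgroup.mem_top f) hr)
      refine ⟨⟨⁅f, r⁆, hmem⟩, ?_, rfl⟩
      exact hopfTransfer_commutator (freeProj G).ker (preE G H) hRE lam hlam T f ⟨r, hr⟩ hmem
    intro x hx
    obtain ⟨y, hy, hyx⟩ := hle hx
    have : y = ⟨x, relComm_le_ker G hx⟩ := Subtype.ext hyx
    rw [← this]
    exact hy
  -- the relation
  have hrel := hom_of_rel (fun (x : multSub G) (y : multSub H) =>
    ∃ (f : FreeGroup G) (hfR : f ∈ (freeProj G).ker), f ∈ commutator (FreeGroup G) ∧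
      mk f = (x : Ehat G) ∧ (y : Ehat H) = ((τ ⟨f, hfR⟩ : Subgroup.center (Ehat H)) : Ehat H))
    (by
      intro x
      have hx1 : (x : Ehat G) ∈ commutator (Ehat G) := x.2.1
      rw [commutator_ehat_eq_map] at hx1
      obtain ⟨f, hf, hfx⟩ := hx1
      have hfR : f ∈ (freeProj G).ker := by
        have hx2 : ehatProj G (x : Ehat G) = 1 := x.2.2
        rw [← hfx] at hx2
        exact hx2
      refine ⟨⟨τ ⟨f, hfR⟩, ?_, hτker _⟩, f, hfR, hf, hfx, rfl⟩
      exact hopfTransfer_mem_commutator (freeProj G).ker (preE G H) hRE lam hlam T ⟨f, hfR⟩ hf)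
    (by
      rintro x y y' ⟨f, hfR, hf, hfx, hy⟩ ⟨f', hfR', hf', hfx', hy'⟩
      apply Subtype.ext
      rw [hy, hy']
      have h1 : f⁻¹ * f' ∈ relComm G := by
        rw [← QuotientGroup.eq]
        exact hfx.trans hfx'.symm
      have h2 := hτrel _ h1
      have h3 : (⟨f⁻¹ * f', relComm_le_ker G h1⟩ : (freeProj G).ker)
          = (⟨f, hfR⟩ : (freeProj G).ker)⁻¹ * ⟨f', hfR'⟩ := rfl
      rw [h3, map_mul, map_inv, inv_mul_eq_one] at h2
      rw [h2])
    (by
      rintro x₁ x₂ y₁ y₂ ⟨f₁, hfR₁, hf₁, hfx₁, hy₁⟩ ⟨f₂, hfR₂, hf₂, hfx₂, hy₂⟩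
      refine ⟨f₁ * f₂, Subgroup.mul_mem _ hfR₁ hfR₂, Subgroup.mul_mem _ hf₁ hf₂, ?_, ?_⟩
      · rw [map_mul, hfx₁, hfx₂]; rfl
      · have h3 : (⟨f₁ * f₂, Subgroup.mul_mem _ hfR₁ hfR₂⟩ : (freeProj G).ker)
            = (⟨f₁, hfR₁⟩ : (freeProj G).ker) * ⟨f₂, hfR₂⟩ := rfl
        rw [h3, map_mul]
        show (y₁ : Ehat H) * (y₂ : Ehat H) = _
        rw [hy₁, hy₂]
        rfl)
  obtain ⟨t, ht⟩ := hrel
  refine ⟨t, fun x => ?_⟩
  obtain ⟨f, hfR, hf, hfx, hy⟩ := ht x
  apply Subtype.ext
  rw [multMap_coe, hy]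
  have := map_hopfTransfer (freeProj G).ker (preE G H) hRE lam hlam T mk (ehatMap G H) hδ hmkR
    ⟨f, hfR⟩ hf
  rw [this, preE_index]
  show mk f ^ H.index = ((x ^ H.index : multSub G) : Ehat G)
  rw [hfx]
  rfl

end Cfsg.Agent.Lib.Helper65
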