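import Cfsg.Agent.Lib.Helper65.Metacyclic
import Cfsg.Agent.Lib.Helper65.StemLemmas2

/-!
# The Schur multiplier of a metacyclic group

* `upper`: every stem extension of `⟨a, b | a^m, b^n = a^t, b a b⁻¹ = a^r⟩` has cyclic kernel
  generated by an element killed by `d`, `l` and `Σ / m'`.
* `lower`: an explicit stem extension with kernel of order `N`.
* `arith1`, `exists_R`: the arithmetic.
-/

set_option autoImplicit false

namespace Cfsg.Agent.Lib.Helper65.Metacyclic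

universe u v

open scoped commutatorElement

open Finset



theorem geom_id (s k : ℕ) : (s + 1) ^ k = s * (∑ i ∈ range k, (s + 1) ^ i) + 1 := by
  induction k with
  | zero => simp
  | succ k ih =>
    have h1 : (s + 1) ^ (k + 1) = s * (s + 1) ^ k + (s + 1) ^ k := by ring
    rw [Finset.sum_range_succ, mul_add, h1]
    conv_lhs => arg 2; rw [ih]
    ring

theorem modEq_add_of_dvd {n a b : ℕ} (h : n ∣ b) : a + b ≡ a [MOD n] := by
  simpa using (Nat.modEq_zero_iff_dvd.2 h).add_left a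

/-- basic arithmetic of the parameters -/
theorem arith1 (m n r : ℕ) (hm : 0 < m) (hr : 0 < r) (hrn : r ^ n ≡ 1 [MOD m]) :
    ∃ s d m' s' : ℕ, r = s + 1 ∧ d = Nat.gcd m (r - 1) ∧ 0 < d ∧ 0 < m' ∧ m = d * m' ∧ s = d * s' ∧
      Nat.Coprime m' s' ∧ m' ∣ ∑ i ∈ range n, (s + 1) ^ i ∧
      (∀ l, m * l / Nat.gcd m (r - 1) = m' * l) ∧
      Nat.gcd m (r - 1) * Nat.gcd m (∑ i ∈ range n, r ^ i) / m
        = Nat.gcd d ((∑ i ∈ range n, (s + 1) ^ i) / m') := by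
  obtain ⟨s, rfl⟩ : ∃ s, r = s + 1 := ⟨r - 1, by omega⟩
  have hs : s + 1 - 1 = s := by omega
  rw [hs]
  have hd0' : 0 < Nat.gcd m s := Nat.gcd_pos_of_pos_left _ hm
  have hcop' := Nat.coprime_div_gcd_div_gcd hd0'
  obtain ⟨m', hm'⟩ := Nat.gcd_dvd_left m s
  obtain ⟨s', hs'⟩ := Nat.gcd_dvd_right m s
  obtain ⟨d, hd⟩ : ∃ d, d = Nat.gcd m s := ⟨_, rfl⟩
  rw [← hd] at hm' hs' hcop' hd0' ⊢
  have hd0 : 0 < d := hd0'
  have hm'0 : 0 < m' := by
    rcases Nat.eq_zero_or_pos m' with h | h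
    · rw [h, mul_zero] at hm'; omega
    · exact h
  have hcop : Nat.Coprime m' s' := by
    have e1 : m / d = m' := by
      rw [hm']
      exact Nat.mul_div_cancel_left _ hd0
    have e2 : s / d = s' := by
      rw [hs']
      exact Nat.mul_div_cancel_left _ hd0
    rwa [e1, e2] at hcop'
  have hdvd : m ∣ s * ∑ i ∈ range n, (s + 1) ^ i := by
    have h1 : 1 ≤ (s + 1) ^ n := Nat.one_le_pow _ _ (by omega)
    have := (Nat.modEq_iff_dvd' h1).1 hrn.symm
    rwa [geom_id s n, Nat.add_sub_cancel] at this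
  have hm'S : m' ∣ ∑ i ∈ range n, (s + 1) ^ i := by
    have h2 : d * m' ∣ d * (s' * ∑ i ∈ range n, (s + 1) ^ i) := by
      rw [← hm', ← mul_assoc, ← hs']
      exact hdvd
    have h3 := Nat.dvd_of_mul_dvd_mul_left hd0 h2
    exact hcop.dvd_of_dvd_mul_left h3
  refine ⟨s, d, m', s', rfl, rfl, hd0, hm'0, hm', hs', hcop, hm'S, ?_, ?_⟩
  · intro l
    rw [hm', mul_assoc]
    exact Nat.mul_div_cancel_left _ hd0
  · obtain ⟨q, hq⟩ := hm'S
    rw [hq, Nat.mul_div_cancel_left _ hm'0]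
    have e3 : Nat.gcd m (m' * q) = m' * Nat.gcd d q := by
      rw [hm', mul_comm d m']
      exact Nat.gcd_mul_left _ _ _
    rw [e3, hm', ← mul_assoc]
    exact Nat.mul_div_cancel_left _ (Nat.mul_pos hd0 hm'0)

/-- the choice of the exponent `R` -/
theorem exists_R (d m' s' N l n : ℕ) (hm'0 : 0 < m') (hN0 : 0 < N)
    (hcop : Nat.Coprime m' s') (hNd : N ∣ d) (hNl : N ∣ l)
    (hSg : m' * N ∣ ∑ i ∈ range n, (d * s' + 1) ^ i) :
    ∃ R y : ℕ, R ≡ d * s' + 1 [MOD d * m'] ∧ R ^ n ≡ 1 [MOD d * m' * N] ∧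
      m' * l * R ≡ m' * l [MOD d * m' * N] ∧ d * m' * R ≡ d * m' [MOD d * m' * N] ∧
      R * y ≡ y + d * m' [MOD d * m' * N] := by
  have : NeZero (m' * N) := ⟨(Nat.mul_pos hm'0 hN0).ne'⟩
  obtain ⟨v, hv⟩ := ZMod.unitsMap_surjective (Dvd.intro N rfl : m' ∣ m' * N)
    (ZMod.unitOfCoprime s' hcop.symm)
  obtain ⟨u', hu'⟩ : ∃ u', u' = (v : ZMod (m' * N)).val := ⟨_, rfl⟩
  obtain ⟨y₀, hy₀⟩ : ∃ y₀, y₀ = ((v⁻¹ : (ZMod (m' * N))ˣ) : ZMod (m' * N)).val := ⟨_, rfl⟩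
  have hu's' : u' ≡ s' [MOD m'] := by
    have h1 := congrArg Units.val hv
    rw [ZMod.unitsMap_def, Units.coe_map, ZMod.coe_unitOfCoprime] at h1
    rw [← ZMod.natCast_zmod_val (v : ZMod (m' * N)), ← hu'] at h1
    simp only [MonoidHom.coe_coe, map_natCast] at h1
    exact (ZMod.natCast_eq_natCast_iff _ _ _).1 h1
  have hy : u' * y₀ ≡ 1 [MOD m' * N] := by
    apply (ZMod.natCast_eq_natCast_iff _ _ _).1
    rw [hu', hy₀]
    push_cast
    rw [ZMod.natCast_zmod_val, ZMod.natCast_zmod_val, Units.mul_inv]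
  have ha : d * u' + 1 ≡ d * s' + 1 [MOD d * m'] := (hu's'.mul_left' d).add_right 1
  have hNm : m' * N ∣ d * m' := by
    rw [mul_comm d m']
    exact Nat.mul_dvd_mul_left m' hNd
  refine ⟨d * u' + 1, y₀ * m', ha, ?_, ?_, ?_, ?_⟩
  · rw [geom_id (d * u') n]
    have h1 : m' * N ∣ ∑ i ∈ range n, (d * u' + 1) ^ i := by
      have ha' : d * u' + 1 ≡ d * s' + 1 [MOD m' * N] := ha.of_dvd hNm
      have h2 : ((d * u' + 1 : ℕ) : ZMod (m' * N)) = ((d * s' + 1 : ℕ) : ZMod (m' * N)) :=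
        (ZMod.natCast_eq_natCast_iff _ _ _).2 ha'
      rw [← ZMod.natCast_eq_zero_iff] at hSg ⊢
      rw [Nat.cast_sum] at hSg ⊢
      rw [← hSg]
      apply Finset.sum_congr rfl
      intro i _
      rw [Nat.cast_pow, Nat.cast_pow, h2]
    have h3 : d * m' * N ∣ d * u' * ∑ i ∈ range n, (d * u' + 1) ^ i := by
      obtain ⟨q, hq⟩ := h1
      rw [hq]
      exact ⟨u' * q, by ring⟩
    rw [add_comm]
    exact modEq_add_of_dvd h3
  · have h3 : d * m' * N ∣ m' * l * (d * u') := by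
      obtain ⟨q, rfl⟩ := hNl
      exact ⟨q * u', by ring⟩
    rw [mul_add, mul_one, add_comm]
    exact modEq_add_of_dvd h3
  · have h3 : d * m' * N ∣ d * m' * (d * u') := by
      obtain ⟨q, hq⟩ := hNd
      exact ⟨q * u', by
        calc d * m' * (d * u') = d * m' * ((N * q) * u') := by rw [← hq]
          _ = d * m' * N * (q * u') := by ring⟩
    rw [mul_add, mul_one, add_comm]
    exact modEq_add_of_dvd h3
  · have h4 : u' * y₀ * m' ≡ 1 * m' [MOD m' * N] := hy.mul_right m'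
    have h5 := (h4.mul_left' d).add_left (y₀ * m')
    rw [one_mul, ← mul_assoc d m' N] at h5
    have e : (d * u' + 1) * (y₀ * m') = y₀ * m' + d * (u' * y₀ * m') := by ring
    rw [e]
    exact h5




/-- in a finite group, `g c g⁻¹ ∈ ⟨c⟩` implies `g` normalizes `⟨c⟩` -/
theorem mem_normalizer_zpowers_of_conj_mem {X : Type*} [Group X] [Finite X] {g c : X}
    (h : g * c * g⁻¹ ∈ Subgroup.zpowers c) :
    g ∈ Subgroup.normalizer (Subgroup.zpowers c : Set X) := by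
  have hmap : ∀ x ∈ Subgroup.zpowers c, g * x * g⁻¹ ∈ Subgroup.zpowers c := by
    intro x hx
    obtain ⟨k, rfl⟩ := Subgroup.mem_zpowers_iff.1 hx
    rw [← conj_zpow]
    exact zpow_mem h k
  let f : Subgroup.zpowers c → Subgroup.zpowers c := fun x => ⟨g * x * g⁻¹, hmap x x.2⟩
  have hinj : Function.Injective f := by
    intro x y hxy
    have := congrArg Subtype.val hxy
    simp only [f] at this
    apply Subtype.ext
    simpa using this
  have hsurj : Function.Surjective f := Finite.injective_iff_surjective.1 hinj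
  rw [Subgroup.mem_normalizer_iff]
  intro x
  refine ⟨hmap x, fun hx => ?_⟩
  obtain ⟨y, hy⟩ := hsurj ⟨g * x * g⁻¹, hx⟩
  have := congrArg Subtype.val hy
  simp only [f] at this
  have hyx : (y : X) = x := by simpa using this
  rw [← hyx]
  exact y.2

section Upper

variable {G₀ : Type u} [Group G₀] {Γ : Type v} [Group Γ] [Finite Γ]

open Finset in
/-- the upper bound for the multiplier of a metacyclic group -/
theorem upper (σ : Γ →* G₀) (hσ : Cfsg.IsStemExtension σ) (α β : Γ)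
    (hgen : Subgroup.closure {σ β, σ α} = ⊤)
    (m n s l d m' s' : ℕ) (hm0 : 0 < m)
    (hm : m = d * m') (hs : s = d * s') (hcop : Nat.Coprime m' s')
    (hgeom : (s + 1) ^ n = s * (∑ i ∈ range n, (s + 1) ^ i) + 1)
    (hSgdvd : m' ∣ ∑ i ∈ range n, (s + 1) ^ i)
    (hG1 : ∀ k : ℤ, (σ α) ^ k = 1 → (m : ℤ) ∣ k)
    (h1 : β * α * β⁻¹ * (α ^ (s + 1))⁻¹ ∈ σ.ker)
    (h2 : α ^ m ∈ σ.ker)
    (h3 : β ^ n * (α ^ (m' * l))⁻¹ ∈ σ.ker) :
    ∃ ω ∈ σ.ker, σ.ker ≤ Subgroup.zpowers ω ∧ ω ^ d = 1 ∧ ω ^ l = 1 ∧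
      ω ^ ((∑ i ∈ range n, (s + 1) ^ i) / m') = 1 := by
  obtain ⟨hsurj, hcen, hcomm⟩ := hσ
  have hc : ∀ z ∈ σ.ker, ∀ g : Γ, Commute z g := fun z hz g =>
    ((Subgroup.mem_center_iff.1 (hcen hz)) g).symm
  obtain ⟨r, hr⟩ : ∃ r, r = s + 1 := ⟨_, rfl⟩
  rw [← hr] at h1 hgeom hSgdvd ⊢
  obtain ⟨z1, hz1⟩ : ∃ z1, z1 = β * α * β⁻¹ * (α ^ r)⁻¹ := ⟨_, rfl⟩
  have hz1k : z1 ∈ σ.ker := hz1 ▸ h1
  have cz1 : ∀ g, Commute z1 g := hc z1 hz1k
  have e1 : β * α * β⁻¹ = α ^ r * z1 := by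
    rw [← (cz1 (α ^ r)).eq, hz1]; group
  have e2 : ∀ k : ℕ, β * α ^ k * β⁻¹ = α ^ (r * k) * z1 ^ k := by
    intro k
    rw [← conj_pow, e1, (cz1 (α ^ r)).symm.mul_pow, ← pow_mul]
  obtain ⟨c, hcdef⟩ : ∃ c, c = β * α * β⁻¹ * α⁻¹ := ⟨_, rfl⟩
  have e3 : c = α ^ s * z1 := by
    rw [hcdef, e1, hr, pow_succ, mul_assoc (α ^ s * α), (cz1 α⁻¹).eq, ← mul_assoc,
      mul_inv_cancel_right]
  have e4 : ∀ k : ℕ, c ^ k = α ^ (s * k) * z1 ^ k := by
    intro k
    rw [e3, (cz1 (α ^ s)).symm.mul_pow, ← pow_mul]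
  have hαn : α ∈ Subgroup.normalizer (Subgroup.zpowers c : Set Γ) := by
    apply mem_normalizer_zpowers_of_conj_mem
    have : α * c * α⁻¹ = c := by
      have hcc : Commute α c := by
        rw [e3]
        exact ((Commute.refl α).pow_right s).mul_right (cz1 α).symm
      rw [hcc.eq, mul_inv_cancel_right]
    rw [this]
    exact Subgroup.mem_zpowers c
  have hβn : β ∈ Subgroup.normalizer (Subgroup.zpowers c : Set Γ) := by
    apply mem_normalizer_zpowers_of_conj_mem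
    have : β * c * β⁻¹ = c ^ r := by
      rw [e4 r, e3]
      calc β * (α ^ s * z1) * β⁻¹ = (β * α ^ s * β⁻¹) * z1 := by
            simp only [mul_assoc]
            rw [(cz1 β⁻¹).eq]
        _ = α ^ (r * s) * z1 ^ s * z1 := by rw [e2]
        _ = α ^ (s * r) * z1 ^ r := by rw [mul_assoc, ← pow_succ, mul_comm r s, hr]
    rw [this]
    exact pow_mem (Subgroup.mem_zpowers c) r
  have hker : σ.ker ≤ Subgroup.zpowers c := by
    rw [hcdef]
    exact ker_le_zpowers_of_normalizer σ ⟨hsurj, hcen, hcomm⟩ β α hgen (hcdef ▸ hβn) (hcdef ▸ hαn)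
  have hσc : σ c = (σ α) ^ s := by
    rw [e3, map_mul, map_pow, MonoidHom.mem_ker.1 hz1k, mul_one]
  have hσαm : (σ α) ^ m = 1 := by rw [← map_pow]; exact h2
  have hd0 : d ≠ 0 := by
    rintro rfl
    simp at hm
    omega
  -- a general cancellation step
  have cancel : ∀ t : ℕ, β * α ^ t * β⁻¹ = α ^ t → α ^ (s * t) * z1 ^ t = 1 := by
    intro t ht
    have h8 := e2 t
    rw [ht, hr, (by ring : (s + 1) * t = t + s * t), pow_add, mul_assoc] at h8
    exact (left_eq_mul.1 h8)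
  refine ⟨c ^ m', ?_, ?_, ?_, ?_, ?_⟩
  · rw [MonoidHom.mem_ker, map_pow, hσc, ← pow_mul, hs,
      (by ring : d * s' * m' = (d * m') * s'), ← hm, pow_mul, hσαm, one_pow]
  · intro z hz
    obtain ⟨k, rfl⟩ := Subgroup.mem_zpowers_iff.1 (hker hz)
    have h5 : (σ α) ^ ((s : ℤ) * k) = 1 := by
      rw [zpow_mul, zpow_natCast, ← hσc, ← map_zpow]
      exact hz
    have h6 := hG1 _ h5
    have h7 : (m' : ℤ) ∣ k := by
      rw [hm, hs] at h6
      push_cast at h6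
      rw [mul_assoc] at h6
      have h6' := Int.dvd_of_mul_dvd_mul_left (by exact_mod_cast hd0) h6
      have hcop' : IsCoprime (m' : ℤ) (s' : ℤ) := Nat.Coprime.isCoprime hcop
      exact hcop'.dvd_of_dvd_mul_left h6'
    obtain ⟨j, rfl⟩ := h7
    rw [Subgroup.mem_zpowers_iff]
    exact ⟨j, by rw [← zpow_natCast, ← zpow_mul]⟩
  · rw [← pow_mul, mul_comm, ← hm, e4 m]
    apply cancel
    rw [← (hc _ h2 β).eq, mul_inv_cancel_right]
  · rw [← pow_mul, e4 (m' * l)]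
    apply cancel
    obtain ⟨z3, hz3⟩ : ∃ z3, z3 = β ^ n * (α ^ (m' * l))⁻¹ := ⟨_, rfl⟩
    have hz3k : z3 ∈ σ.ker := hz3 ▸ h3
    have e : α ^ (m' * l) = z3⁻¹ * β ^ n := by rw [hz3]; group
    rw [e]
    have c1 : Commute β (z3⁻¹ * β ^ n) :=
      ((hc _ (inv_mem hz3k) β).symm).mul_right ((Commute.refl β).pow_right n)
    rw [c1.eq, mul_inv_cancel_right]
  · rw [← pow_mul, Nat.mul_div_cancel' hSgdvd, e4]
    have e5 : ∀ k : ℕ, β ^ k * α * (β ^ k)⁻¹ = α ^ (r ^ k) * z1 ^ (∑ i ∈ range k, r ^ i) := by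
      intro k
      induction k with
      | zero => simp
      | succ k ih =>
        have : β ^ (k + 1) * α * (β ^ (k + 1))⁻¹ = β * (β ^ k * α * (β ^ k)⁻¹) * β⁻¹ := by
          rw [pow_succ']; group
        rw [this, ih]
        calc β * (α ^ r ^ k * z1 ^ ∑ i ∈ range k, r ^ i) * β⁻¹
            = (β * α ^ r ^ k * β⁻¹) * z1 ^ ∑ i ∈ range k, r ^ i := by
              simp only [mul_assoc]
              rw [((cz1 β⁻¹).pow_left _).eq]
          _ = α ^ (r * r ^ k) * z1 ^ (r ^ k) * z1 ^ ∑ i ∈ range k, r ^ i := by rw [e2]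
          _ = α ^ r ^ (k + 1) * z1 ^ ∑ i ∈ range (k + 1), r ^ i := by
              rw [mul_assoc, ← pow_add, Finset.sum_range_succ, pow_succ' r k, add_comm]
    have h9 : β ^ n * α * (β ^ n)⁻¹ = α := by
      obtain ⟨z3, hz3⟩ : ∃ z3, z3 = β ^ n * (α ^ (m' * l))⁻¹ := ⟨_, rfl⟩
      have hz3k : z3 ∈ σ.ker := hz3 ▸ h3
      have e : β ^ n = z3 * α ^ (m' * l) := by rw [hz3]; group
      have c1 : Commute (β ^ n) α := by
        rw [e]
        exact (hc _ hz3k α).mul_left ((Commute.refl α).pow_left _)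
      rw [c1.eq, mul_inv_cancel_right]
    have h10 := e5 n
    rw [h9, hgeom, pow_succ', mul_assoc] at h10
    exact (left_eq_mul.1 h10)

end Upper





/-- hom from `ZMod n` given an element with `k ^ n = 1`. -/
noncomputable def zmodHom {K : Type*} [Group K] (n : ℕ) (k : K) (hk : k ^ n = 1) :
    Multiplicative (ZMod n) →* K :=
  AddMonoidHom.toMultiplicativeLeft
    (ZMod.lift n ⟨zmultiplesHom (Additive K) (Additive.ofMul k), by
      rw [zmultiplesHom_apply, natCast_zsmul, ← ofMul_pow, hk]; rfl⟩)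

theorem zmodHom_apply {K : Type*} [Group K] (n : ℕ) (k : K) (hk : k ^ n = 1) (i : ℤ) :
    zmodHom n k hk (Multiplicative.ofAdd (i : ZMod n)) = k ^ i := by
  unfold zmodHom
  rw [AddMonoidHom.coe_toMultiplicativeLeft]
  simp only [Function.comp_apply, toAdd_ofAdd]
  rw [ZMod.lift_coe]
  simp only [zmultiplesHom_apply]
  rw [← ofMul_zpow]
  rfl

theorem exists_surj_of_le_zpowers {K : Type*} [Group K] (H : Subgroup K) (ω : K) (hω : ω ∈ H)
    (hle : H ≤ Subgroup.zpowers ω) (N : ℕ) (hN : ω ^ N = 1) :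
    ∃ π : Multiplicative (ZMod N) →* H, Function.Surjective π := by
  refine ⟨zmodHom N (⟨ω, hω⟩ : H) (Subtype.ext (by simpa using hN)), ?_⟩
  intro z
  obtain ⟨k, hk⟩ := Subgroup.mem_zpowers_iff.1 (hle z.2)
  refine ⟨Multiplicative.ofAdd (k : ZMod N), ?_⟩
  rw [zmodHom_apply]
  apply Subtype.ext
  rw [Subgroup.coe_zpow]
  exact hk

theorem nonempty_mulEquiv_zmod {K : Type*} [Group K] (k : K)
    (htop : ∀ g, g ∈ Subgroup.zpowers k) :
    Nonempty (K ≃* Multiplicative (ZMod (orderOf k))) := by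
  have hc : IsCyclic K := ⟨k, htop⟩
  rw [orderOf_eq_card_of_forall_mem_zpowers htop]
  exact ⟨(zmodCyclicMulEquiv hc).symm⟩

section Lower

variable {G₀ : Type u} [Group G₀]

theorem lower (ga gb : G₀) (hgen : Subgroup.closure {gb, ga} = ⊤) (m n t N R y : ℕ)
    (hm0 : 0 < m) (hn0 : 0 < n) (hN0 : 0 < N)
    (hga : ga ^ m = 1) (hgb : gb ^ n = ga ^ t) (hgab : gb * ga * gb⁻¹ = ga ^ R)
    (hG1 : ∀ k : ℤ, ga ^ k = 1 → (m : ℤ) ∣ k)
    (hG2 : ∀ i j : ℤ, ga ^ i * gb ^ j = 1 → (n : ℤ) ∣ j)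
    (hb : R ^ n ≡ 1 [MOD m * N]) (hc : t * R ≡ t [MOD m * N]) (hd : m * R ≡ m [MOD m * N])
    (he : R * y ≡ y + m [MOD m * N]) :
    ∃ (Γ : Type) (_ : Group Γ) (_ : Finite Γ) (σ : Γ →* G₀),
      Cfsg.IsStemExtension σ ∧ Nonempty (σ.ker ≃* Multiplicative (ZMod N)) := by
  obtain ⟨P, hPM, hPn, hPR, hPT⟩ : ∃ P : Params, P.M = m * N ∧ P.n = n ∧ P.R = R ∧ P.T = t :=
    ⟨⟨m * N, n, R, t, Nat.mul_pos hm0 hN0, hn0, hb, hc⟩, rfl, rfl, rfl, rfl⟩
  have hx : ga ^ P.M = 1 := by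
    rw [hPM, pow_mul, hga, one_pow]
  have hgb' : gb ^ P.n = ga ^ P.T := by rw [hPn, hPT, hgb]
  have hgab' : gb * ga * gb⁻¹ = ga ^ P.R := by rw [hPR, hgab]
  obtain ⟨σ, hσ⟩ : ∃ σ : P.Q →* G₀, σ = P.liftQ ga gb hx hgb' hgab' := ⟨_, rfl⟩
  have hσa : σ P.a = ga := by rw [hσ]; exact P.liftQ_a ga gb hx hgb' hgab'
  have hσb : σ P.b = gb := by rw [hσ]; exact P.liftQ_b ga gb hx hgb' hgab'
  have haM : P.a ^ (m * N) = 1 := by rw [← hPM]; exact P.a_pow_M
  have hbn : P.b ^ n = P.a ^ t := by rw [← hPn, ← hPT]; exact P.b_pow_n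
  have hbab : P.b * P.a * P.b⁻¹ = P.a ^ R := by rw [← hPR]; exact P.bab
  have haz : ∀ k : ℤ, P.a ^ k = 1 → ((m * N : ℕ) : ℤ) ∣ k := by
    intro k hk
    rw [← hPM]
    exact P.a_zpow_eq_one hk
  -- kernel description
  have hker : ∀ g ∈ σ.ker, ∃ k : ℤ, g = (P.a ^ m) ^ k := by
    intro g hg
    obtain ⟨i, j, rfl⟩ := P.eq_a_mul_b g
    rw [MonoidHom.mem_ker, map_mul, map_zpow, map_zpow, hσa, hσb] at hg
    obtain ⟨j', rfl⟩ := hG2 i j hg
    have hbj : P.b ^ ((n : ℤ) * j') = P.a ^ ((t : ℤ) * j') := by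
      rw [zpow_mul, zpow_natCast, hbn, ← zpow_natCast, ← zpow_mul]
    have hgbj : gb ^ ((n : ℤ) * j') = ga ^ ((t : ℤ) * j') := by
      rw [zpow_mul, zpow_natCast, hgb, ← zpow_natCast, ← zpow_mul]
    rw [hgbj, ← zpow_add] at hg
    obtain ⟨k, hk⟩ := hG1 _ hg
    refine ⟨k, ?_⟩
    rw [hbj, ← zpow_add, hk, ← zpow_natCast, ← zpow_mul]
  have ham_b : Commute (P.a ^ m) P.b := by
    have : P.b * P.a ^ m * P.b⁻¹ = P.a ^ m := by
      rw [← conj_pow, hbab, ← pow_mul, mul_comm]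
      exact pow_eq_pow_of_modEq hd haM
    rw [Commute, SemiconjBy]
    calc P.a ^ m * P.b = (P.b * P.a ^ m * P.b⁻¹) * P.b := by rw [this]
      _ = P.b * P.a ^ m := by group
  have hcen : ∀ g : P.Q, Commute (P.a ^ m) g := by
    intro g
    obtain ⟨i, j, rfl⟩ := P.eq_a_mul_b g
    exact (((Commute.refl P.a).pow_left m).zpow_right i).mul_right (ham_b.zpow_right j)
  have hcm : P.a ^ m ∈ commutator P.Q := by
    have h1 : ⁅P.b, P.a⁆ = P.a ^ R * P.a⁻¹ := by rw [commutatorElement_def, hbab]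
    have h2 : (⁅P.b, P.a⁆) ^ y = P.a ^ m := by
      rw [h1, (((Commute.refl P.a).pow_left R).inv_right).mul_pow, ← pow_mul, inv_pow,
        pow_eq_pow_of_modEq he haM, pow_add]
      group
    rw [← h2]
    apply pow_mem
    rw [commutator_def]
    exact Subgroup.commutator_mem_commutator (Subgroup.mem_top _) (Subgroup.mem_top _)
  have ham_ker : P.a ^ m ∈ σ.ker := by
    rw [MonoidHom.mem_ker, map_pow, hσa, hga]
  have hord : orderOf (P.a ^ m) = N := by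
    apply Nat.dvd_antisymm
    · apply orderOf_dvd_of_pow_eq_one
      rw [← pow_mul, haM]
    · have h1 : (P.a ^ m) ^ orderOf (P.a ^ m) = 1 := pow_orderOf_eq_one _
      rw [← pow_mul, ← zpow_natCast] at h1
      have h2 := haz _ h1
      have h3 : m * N ∣ m * orderOf (P.a ^ m) := by exact_mod_cast h2
      exact Nat.dvd_of_mul_dvd_mul_left hm0 h3
  refine ⟨P.Q, inferInstance, inferInstance, σ, ⟨?_, ?_, ?_⟩, ?_⟩
  · rw [← MonoidHom.range_eq_top, eq_top_iff, ← hgen, Subgroup.closure_le]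
    rintro x (rfl | rfl)
    · exact ⟨P.b, hσb⟩
    · exact ⟨P.a, hσa⟩
  · intro g hg
    obtain ⟨k, rfl⟩ := hker g hg
    rw [Subgroup.mem_center_iff]
    intro g'
    exact ((hcen g').zpow_left k).eq.symm
  · intro g hg
    obtain ⟨k, rfl⟩ := hker g hg
    exact zpow_mem hcm k
  · let k₀ : σ.ker := ⟨P.a ^ m, ham_ker⟩
    have htop : ∀ g : σ.ker, g ∈ Subgroup.zpowers k₀ := by
      intro g
      obtain ⟨k, hk⟩ := hker g.1 g.2
      rw [Subgroup.mem_zpowers_iff]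
      refine ⟨k, Subtype.ext ?_⟩
      rw [Subgroup.coe_zpow]
      exact hk.symm
    have := nonempty_mulEquiv_zmod k₀ htop
    have hk₀ : orderOf k₀ = N := by
      rw [← hord, ← Subgroup.orderOf_coe]
    rwa [hk₀] at this

end Lower


end Cfsg.Agent.Lib.Helper65.Metacyclic
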