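import Cfsg.Agent.Lib.Helper65.SL2Mult
import Cfsg.Agent.Lib.Helper65.StemLemmas2
import Cfsg.Agent.Lib.Helper65.MetacyclicMult

set_option autoImplicit false

namespace Cfsg.Agent.Lib.Helper65

open scoped commutatorElement

/-- transfer: a central element of `Γ` lying in the commutator subgroup has its `index`-th power in
the commutator subgroup of any finite-index subgroup `H`. -/
theorem pow_index_mem_commutator {Γ : Type*} [Group Γ] (H : Subgroup Γ) [H.FiniteIndex]
    (z : Γ) (hzc : z ∈ Subgroup.center Γ) (hz' : z ∈ commutator Γ) :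
    ∃ h : z ^ H.index ∈ H, (⟨z ^ H.index, h⟩ : H) ∈ commutator H := by
  have key : ∀ (k : ℕ) (g₀ : Γ), g₀⁻¹ * z ^ k * g₀ ∈ H → g₀⁻¹ * z ^ k * g₀ = z ^ k := by
    intro k g₀ _
    have hzk : z ^ k ∈ Subgroup.center Γ := pow_mem hzc k
    rw [Subgroup.mem_center_iff] at hzk
    rw [mul_assoc, ← hzk g₀, ← mul_assoc, inv_mul_cancel, one_mul]
  have h1 := MonoidHom.transfer_eq_pow (ϕ := (Abelianization.of : H →* Abelianization H)) z key
  have h2 : MonoidHom.transfer (Abelianization.of : H →* Abelianization H) z = 1 := by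
    have := Abelianization.commutator_subset_ker
      (MonoidHom.transfer (Abelianization.of : H →* Abelianization H)) hz'
    exact this
  rw [h2] at h1
  refine ⟨MonoidHom.transfer_eq_pow_aux z key, ?_⟩
  rw [← Abelianization.ker_of, MonoidHom.mem_ker]
  exact h1.symm

/-- for a central commutator, `⁅x ^ n, y⁆ = ⁅x, y⁆ ^ n` -/
theorem commutator_pow_left {Γ : Type*} [Group Γ] (x y : Γ)
    (hc : ⁅x, y⁆ ∈ Subgroup.center Γ) (n : ℕ) : ⁅x ^ n, y⁆ = ⁅x, y⁆ ^ n := by
  induction n with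
  | zero => simp
  | succ n ih =>
    have h1 : ⁅x ^ (n + 1), y⁆ = x ^ n * ⁅x, y⁆ * (x ^ n)⁻¹ * ⁅x ^ n, y⁆ := by
      rw [pow_succ]
      simp only [commutatorElement_def]
      group
    have h2 : x ^ n * ⁅x, y⁆ * (x ^ n)⁻¹ = ⁅x, y⁆ := by
      rw [(Subgroup.mem_center_iff.1 hc) (x ^ n), mul_inv_cancel_right]
    rw [h1, h2, ih, pow_succ']

end Cfsg.Agent.Lib.Helper65
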