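import Cfsg.Agent.Lib.Helper65.AltSplit
import Cfsg.Agent.Lib.Helper65.SylowMult
import Cfsg.Agent.Lib.Helper65.SL2Mult
import Cfsg.Agent.Lib.Helper65.TransferComm
import Cfsg.Prelude.Def_KGroupFacts

/-!
# Stem extensions of `A_n`, `n ≥ 8`, have kernel of order at most two
-/

set_option autoImplicit false

namespace Cfsg.Agent.Lib.Helper65.AltCentral

open Cfsg.Agent.Lib.Helper52.AltPres Cfsg.Agent.Lib.Helper65.AltSplit
open scoped commutatorElement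

section Pushout

variable {m : ℕ} {Γ : Type*} [Group Γ] (σ : Γ →* alternatingGroup (Fin (m + 2)))
  (χ : σ.ker →* ℂˣ)

/-- the antidiagonal embedding of the kernel -/
noncomputable def jmap : σ.ker →* Γ × ℂˣ := MonoidHom.prod σ.ker.subtype χ⁻¹

/-- the subgroup to be killed -/
noncomputable def Nsub : Subgroup (Γ × ℂˣ) := (jmap σ χ).range

lemma mem_Nsub {x : Γ × ℂˣ} : x ∈ Nsub σ χ ↔ ∃ z : σ.ker, (z : Γ) = x.1 ∧ (χ z)⁻¹ = x.2 := by
  constructor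
  · rintro ⟨z, rfl⟩
    exact ⟨z, rfl, rfl⟩
  · rintro ⟨z, h1, h2⟩
    exact ⟨z, Prod.ext h1 h2⟩

lemma Nsub_normal (hcen : σ.ker ≤ Subgroup.center Γ) : (Nsub σ χ).Normal := by
  constructor
  intro n hn g
  obtain ⟨z, h1, h2⟩ := (mem_Nsub σ χ).1 hn
  rw [mem_Nsub]
  refine ⟨z, ?_, ?_⟩
  · show (z : Γ) = g.1 * n.1 * g.1⁻¹
    have hz := Subgroup.mem_center_iff.1 (hcen z.2) g.1
    rw [← h1, hz, mul_inv_cancel_right]
  · show (χ z)⁻¹ = g.2 * n.2 * g.2⁻¹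
    rw [← h2, mul_comm, inv_mul_cancel_left]

lemma exists_root (c : ℂˣ) (n : ℕ) (hn : 0 < n) : ∃ r : ℂˣ, r ^ n = c := by
  obtain ⟨w, hw⟩ := IsAlgClosed.exists_pow_nat_eq (c : ℂ) hn
  have hw0 : w ≠ 0 := by
    rintro rfl
    rw [zero_pow hn.ne'] at hw
    exact c.ne_zero hw.symm
  refine ⟨Units.mk0 w hw0, ?_⟩
  apply Units.ext
  rw [Units.val_pow_eq_pow_val, Units.val_mk0]
  exact hw

/-- a character of the kernel killing `[X₁, X₃]` kills every kernel element lying in the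
commutator subgroup -/
theorem char_trivial (hcen : σ.ker ≤ Subgroup.center Γ) (hm : 6 ≤ m)
    (hσ : Function.Surjective σ)
    (X1 X3 : Γ) (h1 : σ X1 = xg m 1) (h3 : σ X3 = xg m 3)
    (hε : ∀ hk : ⁅X1, X3⁆ ∈ σ.ker, χ ⟨⁅X1, X3⁆, hk⟩ = 1)
    (z : σ.ker) (hz : (z : Γ) ∈ commutator Γ) : χ z = 1 := by
  classical
  haveI := Nsub_normal σ χ hcen
  obtain ⟨mk, hmk⟩ : ∃ mk : Γ × ℂˣ →* (Γ × ℂˣ) ⧸ Nsub σ χ, mk = QuotientGroup.mk' (Nsub σ χ) :=
    ⟨_, rfl⟩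
  have hmk_surj : Function.Surjective mk := by rw [hmk]; exact QuotientGroup.mk'_surjective _
  have hmk_eq : ∀ a b : Γ × ℂˣ, mk a = mk b ↔ a⁻¹ * b ∈ Nsub σ χ := by
    intro a b
    rw [hmk]
    exact QuotientGroup.eq
  have hNker : Nsub σ χ ≤ (σ.comp (MonoidHom.fst Γ ℂˣ)).ker := by
    intro x hx
    obtain ⟨k, hk1, -⟩ := (mem_Nsub σ χ).1 hx
    rw [MonoidHom.mem_ker]
    show σ x.1 = 1
    rw [← hk1]
    exact MonoidHom.mem_ker.1 k.2
  obtain ⟨π, hπmk⟩ : ∃ π : (Γ × ℂˣ) ⧸ Nsub σ χ →* alternatingGroup (Fin (m + 2)),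
      ∀ x, π (mk x) = σ x.1 := by
    refine ⟨QuotientGroup.lift _ (σ.comp (MonoidHom.fst Γ ℂˣ)) hNker, ?_⟩
    intro x
    rw [hmk]
    rfl
  obtain ⟨ι, hι⟩ : ∃ ι : ℂˣ →* (Γ × ℂˣ) ⧸ Nsub σ χ, ∀ c, ι c = mk (1, c) :=
    ⟨mk.comp (MonoidHom.inr Γ ℂˣ), fun c => rfl⟩
  obtain ⟨D, hDdef⟩ : ∃ D : Subgroup ((Γ × ℂˣ) ⧸ Nsub σ χ), D = ι.range := ⟨_, rfl⟩
  have hkey : ∀ (k : σ.ker) (c : ℂˣ), mk ((k : Γ), c) = ι (χ k * c) := by
    intro k c
    rw [hι, hmk_eq, mem_Nsub]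
    refine ⟨k⁻¹, ?_, ?_⟩
    · show ((k⁻¹ : σ.ker) : Γ) = (k : Γ)⁻¹ * 1
      rw [mul_one]
      rfl
    · show (χ k⁻¹)⁻¹ = c⁻¹ * (χ k * c)
      rw [map_inv, inv_inv, mul_comm (χ k) c, inv_mul_cancel_left]
  have hDc : ∀ d ∈ D, ∀ g, d * g = g * d := by
    intro d hd g
    rw [hDdef] at hd
    obtain ⟨c, rfl⟩ := hd
    obtain ⟨x, rfl⟩ := hmk_surj g
    rw [hι, ← map_mul, ← map_mul]
    congr 1
    apply Prod.ext
    · show 1 * x.1 = x.1 * 1
      rw [one_mul, mul_one]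
    · show c * x.2 = x.2 * c
      exact mul_comm _ _
  have hπsurj : Function.Surjective π := by
    intro a
    obtain ⟨g, hg⟩ := hσ a
    exact ⟨mk (g, 1), by rw [hπmk]; exact hg⟩
  have hker : π.ker = D := by
    ext e
    obtain ⟨x, rfl⟩ := hmk_surj e
    rw [MonoidHom.mem_ker, hπmk, hDdef]
    constructor
    · intro hx
      have hx' : x.1 ∈ σ.ker := MonoidHom.mem_ker.2 hx
      have := hkey ⟨x.1, hx'⟩ x.2
      exact ⟨_, this.symm⟩
    · rintro ⟨c, hc⟩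
      have := congrArg π hc
      rw [hι, hπmk, hπmk] at this
      rw [← this]
      exact map_one σ
  have hroot : ∀ n : ℕ, 0 < n → ∀ d ∈ D, ∃ r ∈ D, r ^ n = d := by
    intro n hn d hd
    rw [hDdef] at hd
    obtain ⟨c, rfl⟩ := hd
    obtain ⟨r, hr⟩ := exists_root c n hn
    refine ⟨ι r, ?_, ?_⟩
    · rw [hDdef]; exact ⟨r, rfl⟩
    · rw [← map_pow, hr]
  have hεker : ⁅X1, X3⁆ ∈ σ.ker := by
    rw [MonoidHom.mem_ker, map_commutatorElement, h1, h3, commutatorElement_eq_one_iff_mul_comm]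
    exact xg_comm le_rfl (by norm_num) (by omega)
  have h13 : CommL π 1 3 := by
    apply commL_of_exists hDc hker (mk (X1, (1 : ℂˣ))) (mk (X3, (1 : ℂˣ)))
    · rw [hπmk]; exact h1
    · rw [hπmk]; exact h3
    · rw [← commutatorElement_eq_one_iff_mul_comm, ← map_commutatorElement]
      have e : ⁅((X1, (1 : ℂˣ)) : Γ × ℂˣ), ((X3, (1 : ℂˣ)) : Γ × ℂˣ)⁆ = (⁅X1, X3⁆, (1 : ℂˣ)) := by
        rw [commutatorElement_def, commutatorElement_def]
        apply Prod.ext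
        · rfl
        · show (1 : ℂˣ) * 1 * 1⁻¹ * 1⁻¹ = 1
          simp
      rw [e]
      have := hkey ⟨_, hεker⟩ 1
      rw [hε hεker, mul_one, map_one] at this
      exact this
  obtain ⟨s, hs⟩ := exists_split hm hDc hπsurj hker (hroot 2 (by norm_num)) (hroot 3 (by norm_num)) h13
  have hDcen : ∀ d ∈ D, d ∈ Subgroup.center ((Γ × ℂˣ) ⧸ Nsub σ χ) := by
    intro d hd
    rw [Subgroup.mem_center_iff]
    intro g
    exact (hDc d hd g).symm
  have hcomm_le : commutator ((Γ × ℂˣ) ⧸ Nsub σ χ) ≤ s.range := by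
    rw [commutator_def, Subgroup.commutator_le]
    intro e₁ _ e₂ _
    obtain ⟨p₁, hp₁⟩ := psiAlt_surjective m (π e₁)
    obtain ⟨p₂, hp₂⟩ := psiAlt_surjective m (π e₂)
    have hd₁ : (s p₁)⁻¹ * e₁ ∈ D := by
      rw [← hker, MonoidHom.mem_ker, map_mul, map_inv, hs, hp₁, inv_mul_cancel]
    have hd₂ : (s p₂)⁻¹ * e₂ ∈ D := by
      rw [← hker, MonoidHom.mem_ker, map_mul, map_inv, hs, hp₂, inv_mul_cancel]
    have e1 : e₁ = s p₁ * ((s p₁)⁻¹ * e₁) := by group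
    have e2 : e₂ = s p₂ * ((s p₂)⁻¹ * e₂) := by group
    have : ⁅e₁, e₂⁆ = ⁅s p₁, s p₂⁆ := by
      rw [e1, e2, SL2Mult.comm_left_central (hDcen _ hd₁),
        SL2Mult.comm_right_central (hDcen _ hd₂)]
    rw [this, ← map_commutatorElement]
    exact ⟨_, rfl⟩
  have hz1 : mk ((z : Γ), 1) ∈ commutator ((Γ × ℂˣ) ⧸ Nsub σ χ) :=
    map_commutator_le_commutator (mk.comp (MonoidHom.inl Γ ℂˣ)) hz
  have hz2 : mk ((z : Γ), 1) = ι (χ z) := by rw [hkey z 1, mul_one]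
  obtain ⟨p, hp⟩ := hcomm_le hz1
  have hpz : psiAlt m p = 1 := by
    rw [← hs, hp, hπmk]
    exact MonoidHom.mem_ker.1 z.2
  have hp1 : p = 1 := (psiAlt_bijective m).1 (by rw [hpz, map_one])
  rw [hp1, map_one] at hp
  have hι1 : ι (χ z) = 1 := by rw [← hz2, ← hp]
  have hmem : ((1 : Γ), χ z) ∈ Nsub σ χ := by
    have h := hι1.symm
    rw [hι, ← map_one mk, hmk_eq] at h
    simpa using h
  obtain ⟨z', h1', h2'⟩ := (mem_Nsub σ χ).1 hmem
  have hz' : z' = 1 := Subtype.ext h1'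
  rw [hz', map_one, inv_one] at h2'
  exact h2'.symm

/-- a finite stem extension of `A_{m+2}`, `m ≥ 6`, has kernel of order at most two -/
theorem card_ker_le_two [Finite Γ] (hcen : σ.ker ≤ Subgroup.center Γ)
    (hcomm : σ.ker ≤ commutator Γ) (hm : 6 ≤ m) (hσ : Function.Surjective σ) :
    Nat.card σ.ker ≤ 2 := by
  classical
  obtain ⟨X1, h1⟩ := hσ (xg m 1)
  obtain ⟨X3, h3⟩ := hσ (xg m 3)
  have hεker : ⁅X1, X3⁆ ∈ σ.ker := by
    rw [MonoidHom.mem_ker, map_commutatorElement, h1, h3, commutatorElement_eq_one_iff_mul_comm]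
    exact xg_comm le_rfl (by norm_num) (by omega)
  have hεsq : ⁅X1, X3⁆ ^ 2 = 1 := by
    rw [← Cfsg.Agent.Lib.Helper65.commutator_pow_left X1 X3 (hcen hεker) 2]
    have hk : X1 ^ 2 ∈ σ.ker := by
      rw [MonoidHom.mem_ker, map_pow, h1]
      exact xg_sq le_rfl
    rw [commutatorElement_eq_one_iff_mul_comm]
    exact (Subgroup.mem_center_iff.1 (hcen hk) X3).symm
  let _ : CommGroup σ.ker :=
    { (inferInstance : Group σ.ker) with
      mul_comm := fun a b => Subtype.ext (Subgroup.mem_center_iff.mp (hcen b.2) a.1) }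
  obtain ⟨ε, hε⟩ : ∃ ε : σ.ker, (ε : Γ) = ⁅X1, X3⁆ := ⟨⟨_, hεker⟩, rfl⟩
  have hε2 : ε ^ 2 = 1 := by
    apply Subtype.ext
    rw [Subgroup.coe_pow, hε, hεsq]
    rfl
  have hall : ∀ k : σ.ker, k ∈ Subgroup.zpowers ε := by
    intro k
    by_contra hk
    have hq : (QuotientGroup.mk' (Subgroup.zpowers ε) k) ≠ 1 := by
      intro h
      exact hk ((QuotientGroup.eq_one_iff k).1 h)
    have hne : NeZero ((Monoid.exponent (σ.ker ⧸ Subgroup.zpowers ε) : ℕ) : ℂ) := by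
      have : NeZero (Monoid.exponent (σ.ker ⧸ Subgroup.zpowers ε)) :=
        ⟨Monoid.exponent_ne_zero_of_finite⟩
      exact NeZero.charZero
    obtain ⟨ψ, hψ⟩ := CommGroup.exists_apply_ne_one_of_hasEnoughRootsOfUnity
      (σ.ker ⧸ Subgroup.zpowers ε) ℂ hq
    have hχ : ∀ hk' : ⁅X1, X3⁆ ∈ σ.ker,
        (ψ.comp (QuotientGroup.mk' (Subgroup.zpowers ε))) ⟨⁅X1, X3⁆, hk'⟩ = 1 := by
      intro hk'
      have e : (⟨⁅X1, X3⁆, hk'⟩ : σ.ker) = ε := Subtype.ext hε.symm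
      rw [e, MonoidHom.comp_apply]
      have : (QuotientGroup.mk' (Subgroup.zpowers ε)) ε = 1 :=
        (QuotientGroup.eq_one_iff ε).2 (Subgroup.mem_zpowers ε)
      rw [this, map_one]
    exact hψ (char_trivial σ (ψ.comp (QuotientGroup.mk' (Subgroup.zpowers ε))) hcen hm hσ
      X1 X3 h1 h3 hχ k (hcomm k.2))
  have htop : Subgroup.zpowers ε = ⊤ := by
    rw [eq_top_iff]
    intro k _
    exact hall k
  have hcard : Nat.card σ.ker = orderOf ε := by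
    rw [← Nat.card_zpowers, htop, Subgroup.card_top]
  rw [hcard]
  exact Nat.le_of_dvd (by norm_num) (orderOf_dvd_of_pow_eq_one hε2)

end Pushout

end Cfsg.Agent.Lib.Helper65.AltCentral
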