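import Mathlib
import Cfsg.Agent.Lib.Helper52.AltPresentation

/-!
# Splitting central extensions of `A_n` over a divisible central subgroup

Word identities in groups, and the normalisation of lifts of the Carmichael generators.
-/

set_option autoImplicit false

namespace Cfsg.Agent.Lib.Helper65.AltSplit

open Cfsg.Agent.Lib.Helper52.AltPres
open scoped commutatorElement

section Identities

variable {G : Type*} [Group G]

lemma inv_of_sq {a : G} (ha : a ^ 2 = 1) : a⁻¹ = a :=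
  inv_eq_of_mul_eq_one_right (by rwa [pow_two] at ha)

lemma mul_self_of_sq {a : G} (ha : a ^ 2 = 1) : a * a = 1 := by rwa [pow_two] at ha

/-- (L1) -/
lemma conj_braid (a b : G) (ha : a ^ 2 = 1) (hb : b ^ 2 = 1) (hab : (a * b) ^ 3 = 1) :
    (a * b) * a * (a * b)⁻¹ = b := by
  have ha' := inv_of_sq ha
  have hb' := inv_of_sq hb
  have h1 : a * b * a * (b * a * b) = 1 := by
    rw [← hab, pow_three']; group
  have braid : a * b * a = b * a * b := by
    have : a * b * a = (b * a * b)⁻¹ := eq_inv_of_mul_eq_one_left h1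
    rw [this, mul_inv_rev, mul_inv_rev, ha', hb', mul_assoc]
  calc (a * b) * a * (a * b)⁻¹ = a * b * a * (b * a) := by rw [mul_inv_rev, ha', hb']
    _ = b * a * b * (b * a) := by rw [braid]
    _ = b * a * (b * b) * a := by simp only [mul_assoc]
    _ = b := by rw [mul_self_of_sq hb, mul_one, mul_assoc, mul_self_of_sq ha, mul_one]

/-- (L2) -/
lemma comm_of_sq (a b : G) (ha : a ^ 2 = 1) (hb : b ^ 2 = 1) (hab : (a * b) ^ 2 = 1) :
    a * b = b * a := by
  have h := inv_of_sq hab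
  rw [mul_inv_rev, inv_of_sq ha, inv_of_sq hb] at h
  exact h.symm

/-- an involution `t` with `(y t)² = 1` inverts `y` -/
lemma conj_inv_of_sq (y t : G) (ht : t ^ 2 = 1) (hyt : (y * t) ^ 2 = 1) : t * y * t⁻¹ = y⁻¹ := by
  have ht' := inv_of_sq ht
  have h1 : y * (t * y * t) = 1 := by rw [← hyt, pow_two]; group
  have : t * y * t = y⁻¹ := (eq_inv_of_mul_eq_one_right h1)
  rw [ht', this]

/-- (L3) -/
lemma sq_eq_x1 (x0 x1 x3 : G) (h0 : x0 ^ 3 = 1) (h1 : x1 ^ 2 = 1) (h3 : x3 ^ 2 = 1)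
    (h01 : (x0 * x1) ^ 3 = 1) (h03 : (x0 * x3) ^ 2 = 1) (h13 : (x1 * x3) ^ 2 = 1) :
    (x3 * (x0⁻¹ * x1 * x0)) ^ 2 = x1 := by
  have h3' := inv_of_sq h3
  have hc : x1 * x3 = x3 * x1 := comm_of_sq x1 x3 h1 h3 h13
  have hinv : x3 * x0 * x3⁻¹ = x0⁻¹ := conj_inv_of_sq x0 x3 h3 h03
  have hinv' : x3 * x0⁻¹ * x3⁻¹ = x0 := by
    have := congrArg (fun g => g⁻¹) hinv
    simpa [mul_assoc] using this
  have hx1 : x3 * x1 * x3⁻¹ = x1 := by rw [← hc, mul_assoc, h3', mul_self_of_sq h3, mul_one]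
  have hv : x3 * (x0⁻¹ * x1 * x0) * x3⁻¹ = x0 * x1 * x0⁻¹ := by
    calc x3 * (x0⁻¹ * x1 * x0) * x3⁻¹
        = (x3 * x0⁻¹ * x3⁻¹) * (x3 * x1 * x3⁻¹) * (x3 * x0 * x3⁻¹) := by group
      _ = x0 * x1 * x0⁻¹ := by rw [hinv', hx1, hinv]
  have h0' : x0⁻¹ * x0⁻¹ = x0 := by
    have : x0 * x0 * x0 = 1 := by rw [← h0, pow_three']
    calc x0⁻¹ * x0⁻¹ = x0⁻¹ * x0⁻¹ * (x0 * x0 * x0) := by rw [this, mul_one]
      _ = x0 := by group
  calc (x3 * (x0⁻¹ * x1 * x0)) ^ 2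
      = (x3 * (x0⁻¹ * x1 * x0) * x3⁻¹) * (x3 * x3) * (x0⁻¹ * x1 * x0) := by rw [pow_two]; group
    _ = x0 * x1 * (x0⁻¹ * x0⁻¹) * x1 * x0 := by
        rw [hv, mul_self_of_sq h3, mul_one]; group
    _ = (x0 * x1) ^ 3 * x1⁻¹ := by rw [h0', pow_three']; group
    _ = x1 := by rw [h01, one_mul, inv_of_sq h1]

/-- (L4) -/
lemma braid_sq (U V : G) (hU : U ^ 2 = 1) (hV : V ^ 2 = 1)
    (hB : ∀ g : G, (U * V) ^ 3 * g = g * (U * V) ^ 3) : ((U * V) ^ 3) ^ 2 = 1 := by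
  set B := (U * V) ^ 3 with hBdef
  have hU' := mul_self_of_sq hU
  have hV' := mul_self_of_sq hV
  have hu2 : (U * V * U) * (U * V * U) = 1 := by
    calc (U * V * U) * (U * V * U) = U * V * (U * U) * V * U := by group
      _ = U * (V * V) * U := by rw [hU', mul_one]; group
      _ = 1 := by rw [hV', mul_one, hU']
  have hv2 : (V * U * V) * (V * U * V) = 1 := by
    calc (V * U * V) * (V * U * V) = V * U * (V * V) * U * V := by group
      _ = V * (U * U) * V := by rw [hV', mul_one]; group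
      _ = 1 := by rw [hU', mul_one, hV']
  have huv : (U * V * U) * (V * U * V) = B := by rw [hBdef, pow_three']; group
  have hv : V * U * V = (U * V * U) * B := by
    rw [← huv, ← mul_assoc, hu2, one_mul]
  have : (V * U * V) * (V * U * V) = B ^ 2 := by
    calc (V * U * V) * (V * U * V) = (U * V * U) * B * ((U * V * U) * B) := by rw [← hv]
      _ = (U * V * U) * (B * (U * V * U)) * B := by group
      _ = (U * V * U) * ((U * V * U) * B) * B := by rw [hB]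
      _ = ((U * V * U) * (U * V * U)) * B * B := by group
      _ = B ^ 2 := by rw [hu2, one_mul, pow_two]
  rw [← this, hv2]

/-- (L6) -/
lemma conj_of_sq_central (Y T : G) (hT : T ^ 2 = 1) : T * Y * T⁻¹ = Y⁻¹ * (Y * T) ^ 2 := by
  rw [inv_of_sq hT, pow_two]; group

/-- (L5) -/
lemma sq_cube (Y T : G) (hY : Y ^ 3 = 1) (hT : T ^ 2 = 1)
    (hc : ∀ g : G, (Y * T) ^ 2 * g = g * (Y * T) ^ 2) : ((Y * T) ^ 2) ^ 3 = 1 := by
  set c := (Y * T) ^ 2 with hcdef
  have h1 : T * Y * T⁻¹ = Y⁻¹ * c := conj_of_sq_central Y T hT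
  have h2 : (T * Y * T⁻¹) ^ 3 = 1 := by
    rw [conj_pow, hY, mul_one, mul_inv_cancel]
  rw [h1] at h2
  have hcomm : Commute Y⁻¹ c := (hc Y⁻¹).symm
  rw [hcomm.mul_pow, inv_pow, hY, inv_one, one_mul] at h2
  exact h2

/-- (L7) -/
lemma sq_ratio (Y Tj Tk : G) (hj : Tj ^ 2 = 1) (hk : Tk ^ 2 = 1) (hjk : Tj * Tk = Tk * Tj)
    (hcj : ∀ g : G, (Y * Tj) ^ 2 * g = g * (Y * Tj) ^ 2)
    (hck : ∀ g : G, (Y * Tk) ^ 2 * g = g * (Y * Tk) ^ 2) :
    ((Y * Tj) ^ 2 * ((Y * Tk) ^ 2)⁻¹) ^ 2 = 1 := by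
  set cj := (Y * Tj) ^ 2 with hcjdef
  set ck := (Y * Tk) ^ 2 with hckdef
  have h1 : Tj * Y * Tj⁻¹ = Y⁻¹ * cj := conj_of_sq_central Y Tj hj
  have h2 : Tk * Y * Tk⁻¹ = Y⁻¹ * ck := conj_of_sq_central Y Tk hk
  have h2' : Tk * Y⁻¹ * Tk⁻¹ = ck⁻¹ * Y := by
    have := congrArg (fun g => g⁻¹) h2
    simpa [mul_assoc] using this
  have hg : (Tk * Tj) * Y * (Tk * Tj)⁻¹ = cj * ck⁻¹ * Y := by
    calc (Tk * Tj) * Y * (Tk * Tj)⁻¹ = Tk * (Tj * Y * Tj⁻¹) * Tk⁻¹ := by group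
      _ = Tk * (Y⁻¹ * cj) * Tk⁻¹ := by rw [h1]
      _ = Tk * (cj * Y⁻¹) * Tk⁻¹ := by rw [hcj]
      _ = (Tk * cj) * Y⁻¹ * Tk⁻¹ := by group
      _ = (cj * Tk) * Y⁻¹ * Tk⁻¹ := by rw [hcj]
      _ = cj * (Tk * Y⁻¹ * Tk⁻¹) := by group
      _ = cj * ck⁻¹ * Y := by rw [h2']; group
  have hg2 : (Tk * Tj) * (Tk * Tj) = 1 := by
    calc (Tk * Tj) * (Tk * Tj) = Tk * (Tj * Tk) * Tj := by group
      _ = Tk * (Tk * Tj) * Tj := by rw [hjk]
      _ = (Tk * Tk) * (Tj * Tj) := by group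
      _ = 1 := by rw [mul_self_of_sq hk, mul_self_of_sq hj, one_mul]
  have hginv : (Tk * Tj)⁻¹ = Tk * Tj := inv_eq_of_mul_eq_one_right hg2
  set d := cj * ck⁻¹ with hd
  have hdc : ∀ g : G, d * g = g * d := by
    intro g
    have hckinv : ck⁻¹ * g = g * ck⁻¹ := by
      have := hck g
      calc ck⁻¹ * g = ck⁻¹ * (g * ck) * ck⁻¹ := by group
        _ = ck⁻¹ * (ck * g) * ck⁻¹ := by rw [this]
        _ = g * ck⁻¹ := by group
    calc d * g = cj * (ck⁻¹ * g) := by rw [hd]; group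
      _ = cj * (g * ck⁻¹) := by rw [hckinv]
      _ = (cj * g) * ck⁻¹ := by group
      _ = (g * cj) * ck⁻¹ := by rw [hcj]
      _ = g * d := by rw [hd]; group
  have h3 : Y = d * d * Y := by
    calc Y = ((Tk * Tj) * (Tk * Tj)) * Y * ((Tk * Tj) * (Tk * Tj))⁻¹ := by
          rw [hg2]; group
      _ = (Tk * Tj) * ((Tk * Tj) * Y * (Tk * Tj)⁻¹) * (Tk * Tj)⁻¹ := by group
      _ = (Tk * Tj) * (d * Y) * (Tk * Tj)⁻¹ := by rw [hg]
      _ = ((Tk * Tj) * d) * Y * (Tk * Tj)⁻¹ := by group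
      _ = (d * (Tk * Tj)) * Y * (Tk * Tj)⁻¹ := by rw [hdc]
      _ = d * ((Tk * Tj) * Y * (Tk * Tj)⁻¹) := by group
      _ = d * d * Y := by rw [hg]; group
  have : d * d = 1 := by
    have := congrArg (fun g => g * Y⁻¹) h3
    simp only [mul_inv_cancel, mul_inv_cancel_right] at this
    exact this.symm
  rw [pow_two, this]

/-- (L8) -/
lemma comm_eq_sq (s t : G) (hs : s ^ 3 = 1) (ht : t ^ 2 = 1)
    (hb : ∀ g : G, (s * t) ^ 3 * g = g * (s * t) ^ 3) :
    ⁅s⁻¹ * t * s, t⁆ = ((s * t) ^ 3) ^ 2 := by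
  set b := (s * t) ^ 3 with hbdef
  have ht' := inv_of_sq ht
  have htt := mul_self_of_sq ht
  have hs' : s⁻¹ * s⁻¹ = s := by
    have : s * s * s = 1 := by rw [← hs, pow_three']
    calc s⁻¹ * s⁻¹ = s⁻¹ * s⁻¹ * (s * s * s) := by rw [this, mul_one]
      _ = s := by group
  -- t s t = b s⁻¹ t s⁻¹
  have h1 : s * t * (s * t) = b * (t * s⁻¹) := by
    have : s * t * (s * t) * (s * t) = b := by rw [hbdef, pow_three']
    calc s * t * (s * t) = (s * t * (s * t) * (s * t)) * (s * t)⁻¹ := by group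
      _ = b * (t * s⁻¹) := by rw [this, mul_inv_rev, ht']
  have h2 : s⁻¹ * t * s * t = b * (s * t * s⁻¹) := by
    calc s⁻¹ * t * s * t = s⁻¹ * s⁻¹ * (s * t * (s * t)) := by group
      _ = s⁻¹ * s⁻¹ * (b * (t * s⁻¹)) := by rw [h1]
      _ = s * (b * (t * s⁻¹)) := by rw [hs']
      _ = (s * b) * (t * s⁻¹) := by group
      _ = (b * s) * (t * s⁻¹) := by rw [hb]
      _ = b * (s * t * s⁻¹) := by group
  have hw : (s⁻¹ * t * s)⁻¹ = s⁻¹ * t * s := by
    rw [mul_inv_rev, mul_inv_rev, inv_inv, ht', mul_assoc]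
  calc ⁅s⁻¹ * t * s, t⁆ = (s⁻¹ * t * s) * t * (s⁻¹ * t * s) * t := by
        rw [commutatorElement_def, hw, ht']
    _ = (s⁻¹ * t * s * t) * (s⁻¹ * t * s * t) := by group
    _ = b * (s * t * s⁻¹) * (b * (s * t * s⁻¹)) := by rw [h2]
    _ = b * ((s * t * s⁻¹) * b) * (s * t * s⁻¹) := by group
    _ = b * (b * (s * t * s⁻¹)) * (s * t * s⁻¹) := by rw [← hb (s * t * s⁻¹)]
    _ = b * b * (s * (t * t) * s⁻¹) := by group
    _ = b ^ 2 := by rw [htt, mul_one, mul_inv_cancel, mul_one, pow_two]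

/-- (L9) -/
lemma d8_identity (U V : G) (hU : ∀ g : G, U ^ 2 * g = g * U ^ 2) :
    ⁅U, (U * V) ^ 2⁆ = ⁅V, (U * V) ^ 2⁆ := by
  have h1 : U * (U * V) * U⁻¹ = V * U := by
    calc U * (U * V) * U⁻¹ = (U ^ 2 * V) * U⁻¹ := by rw [pow_two]; group
      _ = (V * U ^ 2) * U⁻¹ := by rw [hU]
      _ = V * U := by group
  have h2 : V * (U * V) * V⁻¹ = V * U := by group
  have h3 : U * (U * V) ^ 2 * U⁻¹ = V * (U * V) ^ 2 * V⁻¹ := by
    rw [← conj_pow, ← conj_pow, h1, h2]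
  rw [commutatorElement_def, commutatorElement_def, h3]

end Identities

section Gens

/-- the Carmichael generators of `A_{m+2}` -/
noncomputable def xg (m i : ℕ) : alternatingGroup (Fin (m + 2)) := psiAlt m (X m i)

variable {m : ℕ}

lemma xg_cube : xg m 0 ^ 3 = 1 := by
  unfold xg
  rw [← map_pow, X_cube, map_one]

lemma xg_sq {i : ℕ} (hi : 1 ≤ i) : xg m i ^ 2 = 1 := by
  unfold xg
  rw [← map_pow, X_sq m hi, map_one]

lemma xg_r2 {i : ℕ} (hi : i + 1 < m) : (xg m i * xg m (i + 1)) ^ 3 = 1 := by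
  unfold xg
  rw [← map_mul, ← map_pow, X_r2 m hi, map_one]

lemma xg_r3 {i j : ℕ} (hij : i + 1 < j) (hj : j < m) : (xg m i * xg m j) ^ 2 = 1 := by
  unfold xg
  rw [← map_mul, ← map_pow, X_r3 m hij hj, map_one]

lemma xg_comm {i j : ℕ} (hi : 1 ≤ i) (hij : i + 1 < j) (hj : j < m) :
    xg m i * xg m j = xg m j * xg m i :=
  comm_of_sq _ _ (xg_sq hi) (xg_sq (by omega)) (xg_r3 hij hj)

end Gens

section Split

variable {m : ℕ} {E : Type*} [Group E] (D : Subgroup E)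
  (π : E →* alternatingGroup (Fin (m + 2)))

/-- all lifts of `x_i` and `x_j` commute -/
def CommL (i j : ℕ) : Prop := ∀ A B : E, π A = xg m i → π B = xg m j → A * B = B * A

variable {D π}

lemma commL_of_exists (hDc : ∀ d ∈ D, ∀ g : E, d * g = g * d) (hker : π.ker = D) {i j : ℕ}
    (A B : E) (hA : π A = xg m i) (hB : π B = xg m j) (h : A * B = B * A) : CommL π i j := by
  intro A' B' hA' hB'
  have hd : A⁻¹ * A' ∈ D := by
    rw [← hker, MonoidHom.mem_ker, map_mul, map_inv, hA, hA', inv_mul_cancel]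
  have hd' : B⁻¹ * B' ∈ D := by
    rw [← hker, MonoidHom.mem_ker, map_mul, map_inv, hB, hB', inv_mul_cancel]
  have e1 : A' = A * (A⁻¹ * A') := by group
  have e2 : B' = B * (B⁻¹ * B') := by group
  set d := A⁻¹ * A'
  set d' := B⁻¹ * B'
  rw [e1, e2]
  calc A * d * (B * d') = A * (d * B) * d' := by group
    _ = A * (B * d) * d' := by rw [hDc d hd B]
    _ = (A * B) * (d * d') := by group
    _ = (B * A) * (d * d') := by rw [h]
    _ = B * A * (d' * d) := by rw [hDc d hd d']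
    _ = B * (A * d') * d := by group
    _ = B * (d' * A) * d := by rw [hDc d' hd' A]
    _ = B * d' * (A * d) := by group

lemma commL_conj (g : E) {i j i' j' : ℕ} (hi : π g * xg m i * (π g)⁻¹ = xg m i')
    (hj : π g * xg m j * (π g)⁻¹ = xg m j') (h : CommL π i j) : CommL π i' j' := by
  intro A' B' hA' hB'
  have h1 : π (g⁻¹ * A' * g) = xg m i := by
    rw [map_mul, map_mul, map_inv, hA', ← hi]; group
  have h2 : π (g⁻¹ * B' * g) = xg m j := by
    rw [map_mul, map_mul, map_inv, hB', ← hj]; group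
  have := h _ _ h1 h2
  calc A' * B' = g * ((g⁻¹ * A' * g) * (g⁻¹ * B' * g)) * g⁻¹ := by group
    _ = g * ((g⁻¹ * B' * g) * (g⁻¹ * A' * g)) * g⁻¹ := by rw [this]
    _ = B' * A' := by group

lemma commL_succ_right (hπ : Function.Surjective π) {i j : ℕ} (hi : 1 ≤ i) (hij : i + 1 < j)
    (hj : j + 1 < m) (h : CommL π i j) : CommL π i (j + 1) := by
  obtain ⟨g, hg⟩ := hπ (xg m j * xg m (j + 1))
  apply commL_conj g _ _ h
  · rw [hg]
    have h1 := xg_comm (m := m) hi hij (by omega)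
    have h2 := xg_comm (m := m) hi (show i + 1 < j + 1 by omega) hj
    calc xg m j * xg m (j + 1) * xg m i * (xg m j * xg m (j + 1))⁻¹
        = xg m j * (xg m (j + 1) * xg m i) * (xg m j * xg m (j + 1))⁻¹ := by group
      _ = xg m j * (xg m i * xg m (j + 1)) * (xg m j * xg m (j + 1))⁻¹ := by rw [h2]
      _ = (xg m j * xg m i) * xg m (j + 1) * (xg m j * xg m (j + 1))⁻¹ := by group
      _ = (xg m i * xg m j) * xg m (j + 1) * (xg m j * xg m (j + 1))⁻¹ := by rw [h1]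
      _ = xg m i := by group
  · rw [hg]
    exact conj_braid _ _ (xg_sq (by omega)) (xg_sq (by omega)) (xg_r2 hj)

lemma commL_succ_left (hπ : Function.Surjective π) {i j : ℕ} (hi : 1 ≤ i) (hij : i + 2 < j)
    (hj : j < m) (h : CommL π i j) : CommL π (i + 1) j := by
  obtain ⟨g, hg⟩ := hπ (xg m i * xg m (i + 1))
  apply commL_conj g _ _ h
  · rw [hg]
    exact conj_braid _ _ (xg_sq hi) (xg_sq (by omega)) (xg_r2 (by omega))
  · rw [hg]
    have h1 := xg_comm (m := m) hi (show i + 1 < j by omega) hj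
    have h2 := xg_comm (m := m) (show 1 ≤ i + 1 by omega) (show i + 1 + 1 < j by omega) hj
    calc xg m i * xg m (i + 1) * xg m j * (xg m i * xg m (i + 1))⁻¹
        = xg m i * (xg m (i + 1) * xg m j) * (xg m i * xg m (i + 1))⁻¹ := by group
      _ = xg m i * (xg m j * xg m (i + 1)) * (xg m i * xg m (i + 1))⁻¹ := by rw [h2]
      _ = (xg m i * xg m j) * xg m (i + 1) * (xg m i * xg m (i + 1))⁻¹ := by group
      _ = (xg m j * xg m i) * xg m (i + 1) * (xg m i * xg m (i + 1))⁻¹ := by rw [h1]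
      _ = xg m j := by group

lemma commL_all (hπ : Function.Surjective π) (h13 : CommL π 1 3) :
    ∀ i j : ℕ, 1 ≤ i → i + 1 < j → j < m → CommL π i j := by
  have hrow : ∀ j : ℕ, 3 ≤ j → j < m → CommL π 1 j := by
    intro j hj
    induction j, hj using Nat.le_induction with
    | base => intro _; exact h13
    | succ j hj ih =>
      intro hjm
      exact commL_succ_right hπ le_rfl (by omega) hjm (ih (by omega))
  intro i j hi
  induction i, hi using Nat.le_induction generalizing j with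
  | base => intro hij hjm; exact hrow j (by omega) hjm
  | succ i hi ih =>
    intro hij hjm
    exact commL_succ_left hπ hi (by omega) hjm (ih j (by omega) hjm)

/-- product of two elements each multiplied by a central element -/
lemma mul_central_mul {A B d d' : E} (hd : ∀ g : E, d * g = g * d) :
    (A * d) * (B * d') = (A * B) * (d * d') := by
  calc (A * d) * (B * d') = A * (d * B) * d' := by group
    _ = A * (B * d) * d' := by rw [hd B]
    _ = (A * B) * (d * d') := by group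

lemma pow_mul_central {A d : E} (hd : ∀ g : E, d * g = g * d) (n : ℕ) :
    (A * d) ^ n = A ^ n * d ^ n :=
  (show Commute A d from (hd A).symm).mul_pow n

/-- The splitting theorem: if all lifts of `x₁` and `x₃` commute and the central kernel has
square and cube roots, then the extension splits (for `n = m + 2 ≥ 8`). -/
theorem exists_split (hm : 6 ≤ m) (hDc : ∀ d ∈ D, ∀ g : E, d * g = g * d)
    (hπ : Function.Surjective π) (hker : π.ker = D)
    (hsq : ∀ d ∈ D, ∃ r ∈ D, r ^ 2 = d) (hcu : ∀ d ∈ D, ∃ r ∈ D, r ^ 3 = d)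
    (h13 : CommL π 1 3) : ∃ s : P m →* E, ∀ p, π (s p) = psiAlt m p := by
  classical
  have hcomm := commL_all hπ h13
  have hπD : ∀ d ∈ D, π d = 1 := fun d hd => by
    have : d ∈ π.ker := by rw [hker]; exact hd
    exact MonoidHom.mem_ker.1 this
  have hDof : ∀ w : E, π w = 1 → w ∈ D := fun w hw => by
    rw [← hker]; exact MonoidHom.mem_ker.2 hw
  -- involutive lifts
  have hT' : ∀ i : ℕ, ∃ T : E, 1 ≤ i → π T = xg m i ∧ T ^ 2 = 1 := by
    intro i
    by_cases hi : 1 ≤ i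
    · obtain ⟨X0, hX0⟩ := hπ (xg m i)
      have hX2 : (X0 ^ 2)⁻¹ ∈ D := by
        apply inv_mem
        apply hDof
        rw [map_pow, hX0, xg_sq hi]
      obtain ⟨r, hr, hr2⟩ := hsq _ hX2
      refine ⟨X0 * r, fun _ => ⟨?_, ?_⟩⟩
      · rw [map_mul, hX0, hπD r hr, mul_one]
      · rw [pow_mul_central (hDc r hr), hr2, mul_inv_cancel]
    · exact ⟨1, fun h => absurd h hi⟩
  choose T' hT' using hT'
  have hT'π : ∀ i, 1 ≤ i → π (T' i) = xg m i := fun i hi => (hT' i hi).1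
  have hT'sq : ∀ i, 1 ≤ i → T' i ^ 2 = 1 := fun i hi => (hT' i hi).2
  -- lift of x₀ of order 3
  obtain ⟨Y', hY'π, hY'3⟩ : ∃ Y : E, π Y = xg m 0 ∧ Y ^ 3 = 1 := by
    obtain ⟨X0, hX0⟩ := hπ (xg m 0)
    have hX3 : (X0 ^ 3)⁻¹ ∈ D := by
      apply inv_mem
      apply hDof
      rw [map_pow, hX0, xg_cube]
    obtain ⟨r, hr, hr3⟩ := hcu _ hX3
    refine ⟨X0 * r, ?_, ?_⟩
    · rw [map_mul, hX0, hπD r hr, mul_one]
    · rw [pow_mul_central (hDc r hr), hr3, mul_inv_cancel]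
  -- braid corrections
  obtain ⟨B'', hB''⟩ : ∃ B'' : ℕ → E, ∀ k, B'' k =
      if 1 ≤ k ∧ k + 1 < m then (T' k * T' (k + 1)) ^ 3 else 1 := ⟨_, fun _ => rfl⟩
  have hB''D : ∀ k, B'' k ∈ D := by
    intro k
    rw [hB'']
    split_ifs with h
    · apply hDof
      rw [map_pow, map_mul, hT'π k h.1, hT'π (k + 1) (by omega), xg_r2 h.2]
    · exact one_mem D
  have hB''sq : ∀ k, B'' k ^ 2 = 1 := by
    intro k
    have hD' := hB''D k
    rw [hB''] at hD' ⊢
    split_ifs with h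
    · rw [if_pos h] at hD'
      exact braid_sq _ _ (hT'sq k h.1) (hT'sq (k + 1) (by omega)) (hDc _ hD')
    · exact one_pow 2
  obtain ⟨β, hβ0, hβs⟩ : ∃ β : ℕ → E, β 0 = 1 ∧ ∀ k, β (k + 1) = β k * B'' k :=
    ⟨fun n => Nat.rec (motive := fun _ => E) 1 (fun k b => b * B'' k) n, rfl, fun _ => rfl⟩
  have hβD : ∀ k, β k ∈ D := by
    intro k
    induction k with
    | zero => rw [hβ0]; exact one_mem D
    | succ k ih => rw [hβs]; exact mul_mem ih (hB''D k)
  have hβsq : ∀ k, β k ^ 2 = 1 := by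
    intro k
    induction k with
    | zero => rw [hβ0]; exact one_pow 2
    | succ k ih => rw [hβs, pow_mul_central (hDc _ (hB''D k)), ih, hB''sq, one_mul]
  obtain ⟨T, hTdef⟩ : ∃ T : ℕ → E, ∀ i, T i = T' i * β i := ⟨_, fun _ => rfl⟩
  have hTπ : ∀ i, 1 ≤ i → π (T i) = xg m i := by
    intro i hi
    rw [hTdef, map_mul, hT'π i hi, hπD _ (hβD i), mul_one]
  have hTsq : ∀ i, 1 ≤ i → T i ^ 2 = 1 := by
    intro i hi
    rw [hTdef, pow_mul_central (hDc _ (hβD i)), hT'sq i hi, hβsq, one_mul]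
  have hTbraid : ∀ i, 1 ≤ i → i + 1 < m → (T i * T (i + 1)) ^ 3 = 1 := by
    intro i hi him
    rw [hTdef, hTdef, mul_central_mul (hDc _ (hβD i)), hβs]
    have hBi : B'' i = (T' i * T' (i + 1)) ^ 3 := by
      rw [hB'', if_pos ⟨hi, him⟩]
    have hcen : ∀ g : E, (β i * (β i * B'' i)) * g = g * (β i * (β i * B'' i)) :=
      hDc _ (mul_mem (hβD i) (mul_mem (hβD i) (hB''D i)))
    rw [pow_mul_central hcen, ← hBi]
    have e : β i * (β i * B'' i) = β i ^ 2 * B'' i := by rw [pow_two]; group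
    rw [e, hβsq, one_mul]
    have : B'' i * B'' i ^ 3 = (B'' i ^ 2) ^ 2 := by
      rw [← pow_succ', ← pow_mul]
    rw [this, hB''sq, one_pow]
  have hTcomm : ∀ i j, 1 ≤ i → i + 1 < j → j < m → T i * T j = T j * T i := by
    intro i j hi hij hj
    exact hcomm i j hi hij hj _ _ (hTπ i hi) (hTπ j (by omega))
  have hTr3 : ∀ i j, 1 ≤ i → i + 1 < j → j < m → (T i * T j) ^ 2 = 1 := by
    intro i j hi hij hj
    have hc := hTcomm i j hi hij hj
    rw [(show Commute (T i) (T j) from hc).mul_pow, hTsq i hi, hTsq j (by omega), one_mul]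
  -- b₀
  obtain ⟨b₀, hb₀def⟩ : ∃ b₀ : E, b₀ = (Y' * T 1) ^ 3 := ⟨_, rfl⟩
  have hb₀D : b₀ ∈ D := by
    apply hDof
    rw [hb₀def, map_pow, map_mul, hY'π, hTπ 1 le_rfl]
    exact xg_r2 (by omega)
  have hb₀sq : b₀ ^ 2 = 1 := by
    have h1 := comm_eq_sq Y' (T 1) hY'3 (hTsq 1 le_rfl) (hDc _ (hb₀def ▸ hb₀D))
    rw [← hb₀def] at h1
    -- the D₈ identity
    obtain ⟨V, hV⟩ : ∃ V : E, V = Y'⁻¹ * T 1 * Y' := ⟨_, rfl⟩
    rw [← hV] at h1
    rw [← h1]
    have hU2 : ∀ g : E, T 3 ^ 2 * g = g * T 3 ^ 2 := by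
      intro g; rw [hTsq 3 (by norm_num), one_mul, mul_one]
    have hd8 := d8_identity (T 3) V hU2
    have hR : π ((T 3 * V) ^ 2) = xg m 1 := by
      have e : π ((T 3 * V) ^ 2) = (xg m 3 * ((xg m 0)⁻¹ * xg m 1 * xg m 0)) ^ 2 := by
        rw [hV]
        simp only [map_pow, map_mul, map_inv]
        rw [hY'π, hTπ 1 le_rfl, hTπ 3 (by norm_num)]
      rw [e]
      exact sq_eq_x1 _ _ _ xg_cube (xg_sq le_rfl) (xg_sq (by norm_num)) (xg_r2 (by omega))
        (xg_r3 (by norm_num) (by omega)) (xg_r3 (by norm_num) (by omega))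
    -- (T 3 * V)^2 = T 1 * d
    obtain ⟨d, hd, hRd⟩ : ∃ d ∈ D, (T 3 * V) ^ 2 = T 1 * d := by
      refine ⟨(T 1)⁻¹ * (T 3 * V) ^ 2, ?_, by group⟩
      apply hDof
      rw [map_mul, map_inv, hR, hTπ 1 le_rfl, inv_mul_cancel]
    have hcd : ∀ W : E, ⁅W, T 1 * d⁆ = ⁅W, T 1⁆ := by
      intro W
      rw [commutatorElement_def, commutatorElement_def, mul_inv_rev]
      calc W * (T 1 * d) * W⁻¹ * (d⁻¹ * (T 1)⁻¹)
          = W * T 1 * (d * W⁻¹) * d⁻¹ * (T 1)⁻¹ := by group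
        _ = W * T 1 * (W⁻¹ * d) * d⁻¹ * (T 1)⁻¹ := by rw [hDc d hd W⁻¹]
        _ = W * T 1 * W⁻¹ * (T 1)⁻¹ := by group
    rw [hRd, hcd, hcd] at hd8
    rw [← hd8, commutatorElement_eq_one_iff_mul_comm]
    have := hTcomm 1 3 le_rfl (by norm_num) (by omega)
    exact this.symm
  -- the c's
  obtain ⟨c, hcdef⟩ : ∃ c : ℕ → E, ∀ j, c j = (Y' * T j) ^ 2 := ⟨_, fun _ => rfl⟩
  have hcD : ∀ j, 2 ≤ j → j < m → c j ∈ D := by
    intro j hj hjm
    apply hDof
    rw [hcdef, map_pow, map_mul, hY'π, hTπ j (by omega)]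
    exact xg_r3 (by omega) hjm
  have hc3 : ∀ j, 2 ≤ j → j < m → c j ^ 3 = 1 := by
    intro j hj hjm
    have := hcD j hj hjm
    rw [hcdef] at this ⊢
    exact sq_cube Y' (T j) hY'3 (hTsq j (by omega)) (hDc _ this)
  have hceq' : ∀ j k, 2 ≤ j → j + 1 < k → k < m → c j = c k := by
    intro j k hj hjk hk
    have hDj := hcD j hj (by omega)
    have hDk := hcD k (by omega) hk
    rw [hcdef] at hDj hDk
    have h2 := sq_ratio Y' (T j) (T k) (hTsq j (by omega)) (hTsq k (by omega))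
      (hTcomm j k (by omega) hjk hk) (hDc _ hDj) (hDc _ hDk)
    rw [← hcdef, ← hcdef] at h2
    have hcomm' : Commute (c j) (c k)⁻¹ := (hDc _ (hcD j hj (by omega)) _)
    have h3 : (c j * (c k)⁻¹) ^ 3 = 1 := by
      rw [hcomm'.mul_pow, inv_pow, hc3 j hj (by omega), hc3 k (by omega) hk, inv_one, one_mul]
    have h1 : c j * (c k)⁻¹ = 1 := by
      have e : c j * (c k)⁻¹ = (c j * (c k)⁻¹) ^ 3 * ((c j * (c k)⁻¹) ^ 2)⁻¹ := by group
      rw [e, h3, h2, inv_one, one_mul]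
    exact mul_inv_eq_one.1 h1
  have hceq : ∀ j, 2 ≤ j → j < m → c j = c 2 := by
    intro j hj hjm
    rcases Nat.lt_or_ge j 4 with h4 | h4
    · rcases Nat.eq_or_lt_of_le hj with h2 | h2
      · rw [← h2]
      · have hj3 : j = 3 := by omega
        rw [hj3, hceq' 3 5 (by norm_num) (by norm_num) (by omega),
          ← hceq' 2 5 le_rfl (by norm_num) (by omega)]
    · exact (hceq' 2 j le_rfl (by omega) hjm).symm
  have hc2D := hcD 2 le_rfl (by omega)
  have hc23 := hc3 2 le_rfl (by omega)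
  -- the normalised generators
  obtain ⟨f, hfdef⟩ : ∃ f : ℕ → E, ∀ i, f i = if i = 0 then Y' * c 2 else T i * b₀ :=
    ⟨_, fun _ => rfl⟩
  have hf0 : f 0 = Y' * c 2 := by rw [hfdef, if_pos rfl]
  have hfi : ∀ i, 1 ≤ i → f i = T i * b₀ := by
    intro i hi
    rw [hfdef, if_neg (by omega)]
  have hb₀4 : b₀ ^ 4 = 1 := by
    have : b₀ ^ 4 = (b₀ ^ 2) ^ 2 := by rw [← pow_mul]
    rw [this, hb₀sq, one_pow]
  have hb₀6 : (b₀ * b₀) ^ 3 = 1 := by
    rw [← pow_two, hb₀sq, one_pow]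
  have h0 : 0 < m → f 0 ^ 3 = 1 := by
    intro _
    rw [hf0, pow_mul_central (hDc _ hc2D), hY'3, hc23, one_mul]
  have h1 : ∀ i, 1 ≤ i → i < m → f i ^ 2 = 1 := by
    intro i hi _
    rw [hfi i hi, pow_mul_central (hDc _ hb₀D), hTsq i hi, hb₀sq, one_mul]
  have h2 : ∀ i, i + 1 < m → (f i * f (i + 1)) ^ 3 = 1 := by
    intro i him
    rcases Nat.eq_zero_or_pos i with hi0 | hipos
    · subst hi0
      show (f 0 * f 1) ^ 3 = 1
      rw [hf0, hfi 1 le_rfl, mul_central_mul (hDc _ hc2D),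
        pow_mul_central (hDc _ (mul_mem hc2D hb₀D)), ← hb₀def,
        (show Commute (c 2) b₀ from hDc _ hc2D _).mul_pow, hc23, one_mul, ← pow_succ']
      exact hb₀4
    · rw [hfi i hipos, hfi (i + 1) (by omega), mul_central_mul (hDc _ hb₀D),
        pow_mul_central (hDc _ (mul_mem hb₀D hb₀D)), hTbraid i hipos him, one_mul]
      exact hb₀6
  have h3 : ∀ i j, i + 1 < j → j < m → (f i * f j) ^ 2 = 1 := by
    intro i j hij hjm
    rcases Nat.eq_zero_or_pos i with hi0 | hipos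
    · subst hi0
      rw [hf0, hfi j (by omega), mul_central_mul (hDc _ hc2D),
        pow_mul_central (hDc _ (mul_mem hc2D hb₀D)),
        (show Commute (c 2) b₀ from hDc _ hc2D _).mul_pow, hb₀sq, mul_one]
      have : (Y' * T j) ^ 2 = c 2 := by rw [← hcdef]; exact hceq j (by omega) hjm
      rw [this, ← pow_succ']
      exact hc23
    · rw [hfi i hipos, hfi j (by omega), mul_central_mul (hDc _ hb₀D),
        pow_mul_central (hDc _ (mul_mem hb₀D hb₀D)), hTr3 i j hipos hij hjm, one_mul,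
        ← pow_two, hb₀sq, one_pow]
  refine ⟨liftP m f h0 h1 h2 h3, ?_⟩
  have hcomp : π.comp (liftP m f h0 h1 h2 h3) = psiAlt m := by
    apply PresentedGroup.ext
    intro i
    show π (liftP m f h0 h1 h2 h3 (PresentedGroup.of i)) = psiAlt m (PresentedGroup.of i)
    rw [← X_of i.isLt, liftP_X m f h0 h1 h2 h3 i.isLt]
    show π (f i.val) = xg m i.val
    rcases Nat.eq_zero_or_pos i.val with hi0 | hipos
    · rw [hi0, hf0, map_mul, hY'π, hπD _ hc2D, mul_one]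
    · rw [hfi _ hipos, map_mul, hTπ _ hipos, hπD _ hb₀D, mul_one]
  intro p
  exact DFunLike.congr_fun hcomp p

end Split

end Cfsg.Agent.Lib.Helper65.AltSplit
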