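import Mathlib
import Cfsg.Prelude.Def_KGroupFacts

set_option autoImplicit false

namespace Cfsg.Agent.Lib.Helper65

open scoped commutatorElement

/-- Central extension of the additive group `A` by `C` defined by a biadditive cocycle `β`. -/
structure BiExt {A C : Type*} [AddCommGroup A] [AddCommGroup C] (β : A →+ A →+ C) where
  fst : A
  snd : C

namespace BiExt

variable {A C : Type*} [AddCommGroup A] [AddCommGroup C] (β : A →+ A →+ C)

instance instMul : Mul (BiExt β) := ⟨fun x y => ⟨x.fst + y.fst, x.snd + y.snd + β x.fst y.fst⟩⟩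
instance instOne : One (BiExt β) := ⟨⟨0, 0⟩⟩
instance instInv : Inv (BiExt β) := ⟨fun x => ⟨-x.fst, -x.snd + β x.fst x.fst⟩⟩

@[simp] theorem mul_fst (x y : BiExt β) : (x * y).fst = x.fst + y.fst := rfl
@[simp] theorem mul_snd (x y : BiExt β) : (x * y).snd = x.snd + y.snd + β x.fst y.fst := rfl
@[simp] theorem one_fst : (1 : BiExt β).fst = 0 := rfl
@[simp] theorem one_snd : (1 : BiExt β).snd = 0 := rfl
@[simp] theorem inv_fst (x : BiExt β) : (x⁻¹).fst = -x.fst := rfl
@[simp] theorem inv_snd (x : BiExt β) : (x⁻¹).snd = -x.snd + β x.fst x.fst := rfl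

@[ext] theorem ext' {x y : BiExt β} (h1 : x.fst = y.fst) (h2 : x.snd = y.snd) : x = y := by
  cases x; cases y; simp_all

instance instGroup : Group (BiExt β) :=
  Group.ofLeftAxioms
    (by
      intro x y z
      apply ext'
      · simp [add_assoc]
      · simp only [mul_snd, mul_fst, map_add, AddMonoidHom.add_apply]
        abel)
    (by
      intro x
      apply ext'
      · simp
      · simp)
    (by
      intro x
      apply ext'
      · simp
      · simp)

/-- the projection onto `A`. -/
def proj : BiExt β →* Multiplicative A where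
  toFun x := Multiplicative.ofAdd x.fst
  map_one' := rfl
  map_mul' _ _ := rfl

@[simp] theorem proj_apply (x : BiExt β) : proj β x = Multiplicative.ofAdd x.fst := rfl

theorem proj_surjective : Function.Surjective (proj β) := by
  intro a
  exact ⟨⟨Multiplicative.toAdd a, 0⟩, rfl⟩

theorem mem_ker_proj (x : BiExt β) : x ∈ (proj β).ker ↔ x.fst = 0 := by
  rw [MonoidHom.mem_ker, proj_apply]
  exact Iff.rfl

/-- the inclusion of `C`. -/
def incl : Multiplicative C →* BiExt β where
  toFun c := ⟨0, Multiplicative.toAdd c⟩
  map_one' := rfl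
  map_mul' c d := by
    apply ext'
    · simp
    · simp

@[simp] theorem incl_fst (c : Multiplicative C) : (incl β c).fst = 0 := rfl
@[simp] theorem incl_snd (c : Multiplicative C) : (incl β c).snd = Multiplicative.toAdd c := rfl

theorem incl_injective : Function.Injective (incl β) := by
  intro c d h
  have := congrArg BiExt.snd h
  simpa using this

theorem range_incl : (incl β).range = (proj β).ker := by
  ext x
  rw [mem_ker_proj]
  constructor
  · rintro ⟨c, rfl⟩; rfl
  · intro h
    refine ⟨Multiplicative.ofAdd x.snd, ?_⟩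
    apply ext'
    · simp [h]
    · simp

theorem ker_le_center : (proj β).ker ≤ Subgroup.center (BiExt β) := by
  intro x hx
  rw [mem_ker_proj] at hx
  rw [Subgroup.mem_center_iff]
  intro y
  apply ext'
  · simp [add_comm]
  · simp only [mul_snd, hx, map_zero, AddMonoidHom.zero_apply]
    abel

theorem commutator_fst (x y : BiExt β) : ⁅x, y⁆.fst = 0 := by
  simp [commutatorElement_def]

theorem commutator_snd (x y : BiExt β) : ⁅x, y⁆.snd = β x.fst y.fst - β y.fst x.fst := by
  simp only [commutatorElement_def, mul_snd, mul_fst, inv_fst, inv_snd, map_add, map_neg,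
    AddMonoidHom.add_apply, AddMonoidHom.neg_apply]
  abel

/-- The kernel isomorphism. -/
noncomputable def kerEquiv : (proj β).ker ≃* Multiplicative C :=
  ((MulEquiv.subgroupCongr (range_incl β).symm).trans
    (MonoidHom.ofInjective (incl_injective β)).symm)

theorem incl_mem_commutator (a a' : A) (h : ∀ c : C, ∃ k : ℤ, c = k • (β a a' - β a' a))
    (c : Multiplicative C) : incl β c ∈ commutator (BiExt β) := by
  obtain ⟨k, hk⟩ := h (Multiplicative.toAdd c)
  have h1 : incl β (Multiplicative.ofAdd (β a a' - β a' a)) = ⁅(⟨a, 0⟩ : BiExt β), ⟨a', 0⟩⁆ := by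
    apply ext'
    · rw [commutator_fst]; rfl
    · rw [commutator_snd]; rfl
  have h2 : incl β c = (incl β (Multiplicative.ofAdd (β a a' - β a' a))) ^ k := by
    rw [← map_zpow, ← ofAdd_zsmul, ← hk]
    rfl
  rw [h2, h1]
  apply Subgroup.zpow_mem
  rw [commutator_def]
  exact Subgroup.commutator_mem_commutator (Subgroup.mem_top _) (Subgroup.mem_top _)

theorem isStemExtension (a a' : A) (h : ∀ c : C, ∃ k : ℤ, c = k • (β a a' - β a' a)) :
    Cfsg.IsStemExtension (proj β) := by
  refine ⟨proj_surjective β, ker_le_center β, ?_⟩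
  intro x hx
  rw [← range_incl] at hx
  obtain ⟨c, rfl⟩ := hx
  exact incl_mem_commutator β a a' h c

/-- as a type it is a product -/
def equivProd : BiExt β ≃ A × C where
  toFun x := (x.fst, x.snd)
  invFun p := ⟨p.1, p.2⟩
  left_inv x := by cases x; rfl
  right_inv p := rfl

instance instFinite [Finite A] [Finite C] : Finite (BiExt β) :=
  Finite.of_equiv _ (equivProd β).symm

end BiExt

end Cfsg.Agent.Lib.Helper65
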