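import Mathlib

set_option autoImplicit false

namespace Cfsg.Agent.Lib.Helper65

/-- if `ι ∘ t` is the `n`-th power map with `n` prime to `p`, then the `p`-primary component
of the source of `t` is a direct factor of its target. -/
theorem exists_direct_factor {M₁ M₂ : Type*} [CommGroup M₁] [Finite M₁] [CommGroup M₂]
    (p n : ℕ) [hp : Fact p.Prime] (hn : ¬ p ∣ n) (ι : M₂ →* M₁) (t : M₁ →* M₂)
    (h : ∀ x, ι (t x) = x ^ n) :
    ∃ C D : Subgroup M₂, C ⊓ D = ⊥ ∧ C ⊔ D = ⊤ ∧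
      Nonempty (CommGroup.primaryComponent M₁ p ≃* C) := by
  obtain ⟨k, N', hN', hcard⟩ := Nat.exists_eq_pow_mul_and_not_dvd (Nat.card_pos (α := M₁)).ne' p
    hp.out.ne_one
  -- elements of the primary component are killed by p^k
  have hAp : ∀ a : M₁, a ∈ CommGroup.primaryComponent M₁ p ↔ a ^ (p ^ k) = 1 := by
    intro a
    constructor
    · intro ha
      obtain ⟨j, hj⟩ := CommGroup.mem_primaryComponent_iff_orderOf.mp ha
      have h1 : p ^ j ∣ p ^ k * N' := by rw [← hcard, ← hj]; exact orderOf_dvd_natCard a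
      have h2 : p ^ j ∣ p ^ k :=
        (Nat.Coprime.pow_left j ((Nat.Prime.coprime_iff_not_dvd hp.out).mpr hN')).dvd_of_dvd_mul_right h1
      rw [← orderOf_dvd_iff_pow_eq_one, hj]
      exact h2
    · intro ha
      exact ⟨k, ha⟩
  have hcop1 : Nat.Coprime n (p ^ k) :=
    Nat.Coprime.pow_right k ((Nat.Prime.coprime_iff_not_dvd hp.out).mpr hn).symm
  have hcop2 : Nat.Coprime N' (p ^ k) :=
    Nat.Coprime.pow_right k ((Nat.Prime.coprime_iff_not_dvd hp.out).mpr hN').symm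
  -- Bezout
  obtain ⟨u, v, huv⟩ : ∃ u v : ℤ, (n : ℤ) * u + (p ^ k : ℕ) * v = 1 := by
    have := Int.gcd_eq_gcd_ab n (p ^ k : ℕ)
    rw [Int.gcd_natCast_natCast, hcop1.gcd_eq_one] at this
    exact ⟨_, _, by exact_mod_cast this.symm⟩
  obtain ⟨u', v', huv'⟩ : ∃ u v : ℤ, (N' : ℤ) * u + (p ^ k : ℕ) * v = 1 := by
    have := Int.gcd_eq_gcd_ab N' (p ^ k : ℕ)
    rw [Int.gcd_natCast_natCast, hcop2.gcd_eq_one] at this
    exact ⟨_, _, by exact_mod_cast this.symm⟩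
  let s : CommGroup.primaryComponent M₁ p →* M₂ :=
    (zpowGroupHom u).comp (t.comp (CommGroup.primaryComponent M₁ p).subtype)
  have hs : ∀ a : CommGroup.primaryComponent M₁ p, ι (s a) = (a : M₁) := by
    intro a
    show ι ((t (a : M₁)) ^ u) = (a : M₁)
    rw [map_zpow, h, ← zpow_natCast, ← zpow_mul]
    have ha : (a : M₁) ^ ((p ^ k : ℕ) : ℤ) = 1 := by
      rw [zpow_natCast]; exact (hAp _).mp a.2
    have : (n : ℤ) * u = 1 - (p ^ k : ℕ) * v := by linarith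
    rw [this, zpow_sub, zpow_one, zpow_mul, ha, one_zpow]
    simp
  have hsinj : Function.Injective s := by
    intro a b hab
    apply Subtype.ext
    rw [← hs a, ← hs b, hab]
  let D : Subgroup M₂ := ((powMonoidHom N' : M₁ →* M₁).comp ι).ker
  have hD : ∀ y : M₂, y ∈ D ↔ ι y ^ N' = 1 := fun y => Iff.rfl
  have hcardpow : ∀ w : M₁, w ^ (p ^ k * N') = 1 := by
    intro w
    rw [← hcard]; exact pow_card_eq_one'
  refine ⟨s.range, D, ?_, ?_, ⟨MonoidHom.ofInjective hsinj⟩⟩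
  · rw [eq_bot_iff]
    rintro y ⟨⟨a, rfl⟩, hy⟩
    have hy' : s a ∈ D := hy
    rw [hD, hs] at hy'
    have hy := hy'
    have h1 : (a : M₁) ^ (p ^ k) = 1 := (hAp _).mp a.2
    have h2 : orderOf (a : M₁) ∣ Nat.gcd N' (p ^ k) :=
      Nat.dvd_gcd (orderOf_dvd_of_pow_eq_one hy) (orderOf_dvd_of_pow_eq_one h1)
    rw [hcop2.gcd_eq_one, Nat.dvd_one, orderOf_eq_one_iff] at h2
    have h3 : a = 1 := Subtype.ext h2
    rw [h3, map_one]
    exact Subgroup.one_mem _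
  · rw [eq_top_iff]
    intro y _
    rw [Subgroup.mem_sup]
    set w := ι y with hw
    have ha : (w ^ ((N' : ℤ) * u')) ∈ CommGroup.primaryComponent M₁ p := by
      rw [hAp, ← zpow_natCast, ← zpow_mul]
      have : (N' : ℤ) * u' * ((p ^ k : ℕ) : ℤ) = ((p ^ k * N' : ℕ) : ℤ) * u' := by
        push_cast; ring
      rw [this, zpow_mul, zpow_natCast, hcardpow, one_zpow]
    refine ⟨s ⟨_, ha⟩, ⟨_, rfl⟩, y * (s ⟨_, ha⟩)⁻¹, ?_, by rw [mul_comm, inv_mul_cancel_right]⟩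
    rw [hD, map_mul, map_inv, hs, ← hw]
    show (w * (w ^ ((N' : ℤ) * u'))⁻¹) ^ N' = 1
    have h1 : w * (w ^ ((N' : ℤ) * u'))⁻¹ = w ^ (((p ^ k : ℕ) : ℤ) * v') := by
      have : ((p ^ k : ℕ) : ℤ) * v' = 1 - (N' : ℤ) * u' := by linarith
      rw [this, zpow_sub, zpow_one]
    rw [h1, ← zpow_natCast, ← zpow_mul]
    have : ((p ^ k : ℕ) : ℤ) * v' * (N' : ℤ) = ((p ^ k * N' : ℕ) : ℤ) * v' := by
      push_cast; ring
    rw [this, zpow_mul, zpow_natCast, hcardpow, one_zpow]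

end Cfsg.Agent.Lib.Helper65
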