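import Mathlib

set_option autoImplicit false

namespace Cfsg.Agent.Lib.Helper65

/-- a quotient of a finite abelian group embeds in it -/
theorem exists_injective_of_surjective {B B' : Type*} [CommGroup B] [CommGroup B'] [Finite B]
    [Finite B'] (π : B →* B') (hπ : Function.Surjective π) :
    ∃ j : B' →* B, Function.Injective j := by
  have h1 : NeZero ((Monoid.exponent B : ℕ) : ℂ) := by
    have : NeZero (Monoid.exponent B) := ⟨Monoid.exponent_ne_zero_of_finite⟩
    exact NeZero.charZero
  have h2 : NeZero ((Monoid.exponent B' : ℕ) : ℂ) := by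
    have : NeZero (Monoid.exponent B') := ⟨Monoid.exponent_ne_zero_of_finite⟩
    exact NeZero.charZero
  obtain ⟨eB⟩ := CommGroup.monoidHom_mulEquiv_of_hasEnoughRootsOfUnity B ℂ
  obtain ⟨eB'⟩ := CommGroup.monoidHom_mulEquiv_of_hasEnoughRootsOfUnity B' ℂ
  let c : (B' →* ℂˣ) →* (B →* ℂˣ) := MonoidHom.compHom' π
  have hc : Function.Injective c := by
    intro f g hfg
    have : f.comp π = g.comp π := hfg
    exact (MonoidHom.cancel_right hπ).mp this
  exact ⟨eB.toMonoidHom.comp (c.comp eB'.symm.toMonoidHom),
    eB.injective.comp (hc.comp eB'.symm.injective)⟩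

end Cfsg.Agent.Lib.Helper65
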