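import Mathlib
import Cfsg.Prelude.Def_GeometricClasses
import Cfsg.Agent.Lib.Helper81.EsDefs
import Cfsg.Agent.Lib.Helper81.EsDD

/-! ES-R2c3 (helper65, for helper81's Es hive S5877): joint eigenspaces are independent. -/

set_option autoImplicit false
set_option linter.unusedSectionVars false

namespace Cfsg.Agent.Lib.Helper81.Es

open scoped MatrixGroups

variable {F : Type*} [Field F] {n : ℕ}

/-- the finranks of an independent family of submodules of `W` add up to at most `finrank W` -/
theorem r2c3_sum_finrank_le {M : Type*} [AddCommGroup M] [Module F M] [FiniteDimensional F M]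
    {ι : Type*} [Fintype ι] (V : ι → Submodule F M) (W : Submodule F M) (hind : iSupIndep V)
    (hle : ∀ i, V i ≤ W) : ∑ i, Module.finrank F (V i) ≤ Module.finrank F W := by
  classical
  let φ : (∀ i, V i) →ₗ[F] M := ∑ i, (V i).subtype ∘ₗ LinearMap.proj i
  have hφ : ∀ f : ∀ i, V i, φ f = ∑ i, (f i : M) := by
    intro f
    simp only [φ, LinearMap.sum_apply, LinearMap.comp_apply, LinearMap.proj_apply,
      Submodule.subtype_apply]
  have hW : ∀ f, φ f ∈ W := by
    intro f
    rw [hφ]
    exact Submodule.sum_mem _ (fun i _ => hle i (f i).2)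
  let ψ : (∀ i, V i) →ₗ[F] W := LinearMap.codRestrict W φ hW
  have hinj : Function.Injective ψ := by
    rw [injective_iff_map_eq_zero]
    intro f hf
    have h0 : φ f = 0 := by
      have := congrArg Subtype.val hf
      simpa [ψ] using this
    rw [hφ] at h0
    have h1 := (iSupIndep_iff_finsetSum_eq_zero_imp_eq_zero V).1 hind Finset.univ
      (fun i => (f i : M)) (fun i _ => (f i).2) h0
    funext i
    exact Subtype.ext (h1 i (Finset.mem_univ i))
  have := LinearMap.finrank_le_finrank_of_injective hinj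
  rwa [Module.finrank_pi_fintype] at this

theorem r2c3_pow_injective {r : ℕ} [NeZero r] (hr : r.Prime) {ζ : F} (hζ1 : ζ ≠ 1) (hζ : ζ ^ r = 1) :
    Function.Injective (fun j : ZMod r => ζ ^ j.val) := by
  have : Fact r.Prime := ⟨hr⟩
  have hord : orderOf ζ = r := orderOf_eq_prime hζ hζ1
  intro a b hab
  have hab' : ζ ^ a.val = ζ ^ b.val := hab
  have ha : a.val ∈ Set.Iio (orderOf ζ) := by rw [hord]; exact ZMod.val_lt a
  have hb : b.val ∈ Set.Iio (orderOf ζ) := by rw [hord]; exact ZMod.val_lt b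
  exact ZMod.val_injective r (pow_injOn_Iio_orderOf ha hb hab')

/-- ES-R2c3 : joint eigenspaces are independent. -/
theorem dd_sum_le {r : ℕ} [NeZero r] (hr : r.Prime) (g b : GL (Fin n) F) (c ζ : F) (hζ1 : ζ ≠ 1)
    (hζ : ζ ^ r = 1) (hc : c ≠ 0) :
    (∑ j : ZMod r, ∑ i : ZMod r, dd r g b c ζ j i ≤ n) ∧
    ∀ j : ZMod r, ∑ i : ZMod r, dd r g b c ζ j i ≤ Module.finrank F (eig b (ζ ^ j.val)) := by
  classical
  have hinj := r2c3_pow_injective (F := F) hr hζ1 hζ
  have hinj2 : Function.Injective (fun i : ZMod r => c * ζ ^ i.val) := by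
    intro a a' h
    exact hinj (mul_left_cancel₀ hc h)
  -- independence of the eigenspaces of `g` at `c ζ^i`
  have hindg : iSupIndep (fun i : ZMod r => eig g (c * ζ ^ i.val)) :=
    (Module.End.eigenspaces_iSupIndep
      (Matrix.toLin' (g : Matrix (Fin n) (Fin n) F))).comp hinj2
  have hindb : iSupIndep (fun j : ZMod r => eig b (ζ ^ j.val)) :=
    (Module.End.eigenspaces_iSupIndep
      (Matrix.toLin' (b : Matrix (Fin n) (Fin n) F))).comp hinj
  have h2 : ∀ j : ZMod r,
      ∑ i : ZMod r, dd r g b c ζ j i ≤ Module.finrank F (eig b (ζ ^ j.val)) := by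
    intro j
    unfold dd
    apply r2c3_sum_finrank_le (fun i : ZMod r => eig b (ζ ^ j.val) ⊓ eig g (c * ζ ^ i.val))
      (eig b (ζ ^ j.val))
    · exact hindg.mono (fun i => inf_le_right)
    · exact fun i => inf_le_left
  refine ⟨?_, h2⟩
  calc ∑ j : ZMod r, ∑ i : ZMod r, dd r g b c ζ j i
      ≤ ∑ j : ZMod r, Module.finrank F (eig b (ζ ^ j.val)) := Finset.sum_le_sum (fun j _ => h2 j)
    _ ≤ Module.finrank F (⊤ : Submodule F (Fin n → F)) :=
        r2c3_sum_finrank_le _ ⊤ hindb (fun _ => le_top)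
    _ = n := by rw [finrank_top, Module.finrank_fin_fun]

end Cfsg.Agent.Lib.Helper81.Es
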