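import Mathlib
import Cfsg.Agent.Lib.Helper65.SchurCover

set_option autoImplicit false

namespace Cfsg.Agent.Lib.Helper65

/-- Extension of a character defined on a subgroup `T` meeting the kernel of `ab : E → V`
trivially to all of `E`, when the target `D` is a divisible abelian group. -/
theorem exists_extend_hom {E : Type*} [Group E] {V : Type*} [AddCommGroup V]
    (ab : E →* Multiplicative V) (T : Subgroup E) (hT : T ⊓ ab.ker = ⊥)
    {D : Type*} [CommGroup D] (hD : ∀ n : ℕ, n ≠ 0 → ∀ d : D, ∃ w : D, w ^ n = d)
    (χ0 : T →* D) : ∃ χ : E →* D, ∀ t : T, χ (t : E) = χ0 t := by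
  classical
  have hinj : Function.Injective (ab.comp T.subtype) := by
    rw [injective_iff_map_eq_one]
    intro t ht
    have h1 : (t : E) ∈ T ⊓ ab.ker := Subgroup.mem_inf.mpr ⟨t.2, ht⟩
    rw [hT, Subgroup.mem_bot] at h1
    exact Subtype.ext h1
  let _ : CommGroup T :=
    { (inferInstance : Group T) with
      mul_comm := fun a b => hinj (by rw [map_mul, map_mul, mul_comm]) }
  let f' : Additive T →+ V := MonoidHom.toAdditiveLeft (ab.comp T.subtype)
  have hf' : Function.Injective f' := fun a b h => hinj h
  let g' : Additive T →+ Additive D := MonoidHom.toAdditive χ0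
  let _ : DivisibleBy (Additive D) ℕ := divisibleByOfSMulRightSurj (Additive D) ℕ (by
    intro n hn d
    obtain ⟨w, hw⟩ := hD n hn d.toMul
    exact ⟨Additive.ofMul w, by
      show Additive.ofMul (w ^ n) = d
      rw [hw]; rfl⟩)
  let _ : DivisibleBy (Additive D) ℤ := AddGroup.divisibleByIntOfDivisibleByNat (Additive D)
  obtain ⟨h, hh⟩ := (Module.Baer.of_divisible (Additive D)).extension_property_addMonoidHom f' hf' g'
  refine ⟨(AddMonoidHom.toMultiplicativeLeft h).comp ab, fun t => ?_⟩
  have := DFunLike.congr_fun hh (Additive.ofMul t)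
  exact this

end Cfsg.Agent.Lib.Helper65
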