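import Cfsg.Agent.Lib.Helper65.F4cTINJ

/-! # F4C-NOTIN core lemmas (helper65, leaf of helper20's F4c hive for S2179): `n_1`, `n_2` do not normalise `Tgrp`
(`n_1 x_45 n_1⁻¹ = x_43`, `n_2 x_39 n_2⁻¹ = x_38`). -/

set_option autoImplicit false

namespace Cfsg.Agent.Lib.Helper20.F4c

open Cfsg Cfsg.Lie Cfsg.Agent.Lib.Helper36 Cfsg.Agent.Lib.Helper18

variable (F : Type*) [Field F]

theorem notin_eta1 : nEta chevF4 1 45 = 1 := by decide +kernel
theorem notin_eta2 : nEta chevF4 2 39 = -1 := by decide +kernel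
theorem notin_refl1 : chevF4.reflectRoot 1 45 = 43 := by decide
theorem notin_refl2 : chevF4.reflectRoot 2 39 = 38 := by decide

/-- generic step: if `n x_r(u) n⁻¹ = x_s(1)` with `r ∈ troots` and `x_s(1)` is not a `T`, then `n ∉ N(Tgrp)` -/
theorem notin_step (hmem : ∀ g : GL chevF4.Idx F, g ∈ Tgrp F → ∃ a b c d e f : F, g = T F a b c d e f)
    (n : GL chevF4.Idx F) (r s : ℕ) (u : F) (hr : r ∈ troots) (hconj : xf F s 1 = n * xf F r u * n⁻¹)
    (hne : ∀ k a b c d e f : F, xf F s k = T F a b c d e f → k = 0) :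
    n ∉ Subgroup.normalizer (Tgrp F : Set (GL chevF4.Idx F)) := by
  intro hn
  have hx : xf F r u ∈ Tgrp F := Subgroup.subset_closure ⟨r, hr, u, rfl⟩
  have h1 : n * xf F r u * n⁻¹ ∈ Tgrp F := (Subgroup.mem_normalizer_iff.1 hn _).1 hx
  rw [← hconj] at h1
  obtain ⟨a, b, c, d, e, f, h⟩ := hmem _ h1
  exact one_ne_zero (hne 1 a b c d e f h)

theorem notin_n1_core [Fintype F]
    (hmem : ∀ g : GL chevF4.Idx F, g ∈ Tgrp F → ∃ a b c d e f : F, g = T F a b c d e f) :
    nGL chevF4 hF4 F (chevF4.simple 1) 1 ∉ Subgroup.normalizer (Tgrp F : Set (GL chevF4.Idx F)) := by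
  have h := xGL_reflect chevF4 hF4 F 1 45 (by decide) (by decide) (1 : F)
  rw [notin_refl1, notin_eta1] at h
  exact notin_step F hmem _ 45 43 _ (by decide) h (x43_ne_T F)

theorem notin_n2_core [Fintype F]
    (hmem : ∀ g : GL chevF4.Idx F, g ∈ Tgrp F → ∃ a b c d e f : F, g = T F a b c d e f) :
    nGL chevF4 hF4 F (chevF4.simple 2) 1 ∉ Subgroup.normalizer (Tgrp F : Set (GL chevF4.Idx F)) := by
  have h := xGL_reflect chevF4 hF4 F 2 39 (by decide) (by decide) (1 : F)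
  rw [notin_refl2, notin_eta2] at h
  exact notin_step F hmem _ 39 38 _ (by decide) h (x38_ne_T F)

end Cfsg.Agent.Lib.Helper20.F4c
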