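import Mathlib

set_option autoImplicit false

namespace Cfsg.Agent.Lib.Helper65

open scoped commutatorElement

universe u v

section CommSet

variable {E : Type*} [Group E]

theorem conj_central (z : E) (hz : z ∈ Subgroup.center E) (x : E) : z * x * z⁻¹ = x := by
  rw [← Subgroup.mem_center_iff.mp hz x, mul_inv_cancel_right]

theorem commutatorElement_mul_central (g h z w : E) (hz : z ∈ Subgroup.center E)
    (hw : w ∈ Subgroup.center E) : ⁅g * z, h * w⁆ = ⁅g, h⁆ := by
  have hzc : ∀ x : E, x * z = z * x := fun x => Subgroup.mem_center_iff.mp hz x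
  have hwc : ∀ x : E, x * w = w * x := fun x => Subgroup.mem_center_iff.mp hw x
  have key1 : ∀ a b : E, ⁅z * a, b⁆ = ⁅a, b⁆ := by
    intro a b
    simp only [commutatorElement_def, mul_inv_rev]
    calc z * a * b * (a⁻¹ * z⁻¹) * b⁻¹ = z * (a * b * a⁻¹) * z⁻¹ * b⁻¹ := by group
      _ = a * b * a⁻¹ * b⁻¹ := by rw [conj_central z hz]
  have key2 : ∀ a b : E, ⁅a, w * b⁆ = ⁅a, b⁆ := by
    intro a b
    simp only [commutatorElement_def, mul_inv_rev]
    calc a * (w * b) * a⁻¹ * (b⁻¹ * w⁻¹) = w * (a * b * a⁻¹ * b⁻¹) * w⁻¹ := by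
          rw [← mul_assoc a w b, hwc a]; group
      _ = a * b * a⁻¹ * b⁻¹ := by rw [conj_central w hw]
  rw [hzc g, hwc h, key1, key2]

/-- Schur: if the centre has finite index then there are finitely many commutators. -/
theorem finite_commutatorSet_of_finiteIndex_center [(Subgroup.center E).FiniteIndex] :
    Finite (commutatorSet E) := by
  have : Finite (E ⧸ Subgroup.center E) := Subgroup.finite_quotient_of_finiteIndex
  let f : (E ⧸ Subgroup.center E) × (E ⧸ Subgroup.center E) → E := fun ab => ⁅ab.1.out, ab.2.out⁆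
  have hsub : commutatorSet E ⊆ Set.range f := by
    rintro x ⟨g, h, rfl⟩
    refine ⟨((g : E ⧸ Subgroup.center E), (h : E ⧸ Subgroup.center E)), ?_⟩
    obtain ⟨z, hz⟩ := QuotientGroup.mk_out_eq_mul (Subgroup.center E) g
    obtain ⟨w, hw⟩ := QuotientGroup.mk_out_eq_mul (Subgroup.center E) h
    show ⁅(g : E ⧸ Subgroup.center E).out, (h : E ⧸ Subgroup.center E).out⁆ = ⁅g, h⁆
    rw [hz, hw]
    exact commutatorElement_mul_central g h z w z.2 w.2
  exact (Set.finite_range f).subset hsub |>.to_subtype

theorem finite_commutator_of_finiteIndex_center [(Subgroup.center E).FiniteIndex] :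
    Finite (commutator E) := by
  have := finite_commutatorSet_of_finiteIndex_center (E := E)
  infer_instance

end CommSet

variable (Q : Type u) [Group Q]

/-- canonical surjection from the free group on the underlying set -/
def freeProj : FreeGroup Q →* Q := FreeGroup.lift id

@[simp] theorem freeProj_of (q : Q) : freeProj Q (FreeGroup.of q) = q := by simp [freeProj]

theorem freeProj_surjective : Function.Surjective (freeProj Q) :=
  fun q => ⟨FreeGroup.of q, freeProj_of Q q⟩

/-- `[F,R]` -/
def relComm : Subgroup (FreeGroup Q) := ⁅(⊤ : Subgroup (FreeGroup Q)), (freeProj Q).ker⁆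

instance relComm_normal : (relComm Q).Normal := by
  unfold relComm; infer_instance

theorem relComm_le_ker : relComm Q ≤ (freeProj Q).ker := Subgroup.commutator_le_right _ _

/-- `Ê = F/[F,R]` -/
abbrev Ehat : Type u := FreeGroup Q ⧸ relComm Q

/-- projection `Ê → Q` -/
def ehatProj : Ehat Q →* Q := QuotientGroup.lift (relComm Q) (freeProj Q) (relComm_le_ker Q)

@[simp] theorem ehatProj_mk (f : FreeGroup Q) : ehatProj Q (f : Ehat Q) = freeProj Q f := rfl

theorem ehatProj_surjective : Function.Surjective (ehatProj Q) := by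
  intro q
  obtain ⟨f, hf⟩ := freeProj_surjective Q q
  exact ⟨(f : Ehat Q), hf⟩

theorem ehatProj_ker_le_center : (ehatProj Q).ker ≤ Subgroup.center (Ehat Q) := by
  intro x hx
  induction x using QuotientGroup.induction_on with
  | H f =>
    rw [MonoidHom.mem_ker, ehatProj_mk] at hx
    have hfR : f ∈ (freeProj Q).ker := hx
    rw [Subgroup.mem_center_iff]
    intro y
    induction y using QuotientGroup.induction_on with
    | H g =>
      have hmem : ⁅g, f⁆ ∈ relComm Q :=
        Subgroup.commutator_mem_commutator (Subgroup.mem_top g) hfR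
      have h1 : ((⁅g, f⁆ : FreeGroup Q) : Ehat Q) = 1 := (QuotientGroup.eq_one_iff _).mpr hmem
      have h2 : g * f = ⁅g, f⁆ * (f * g) := by rw [commutatorElement_def]; group
      show ((g : Ehat Q) * (f : Ehat Q)) = (f : Ehat Q) * (g : Ehat Q)
      rw [← QuotientGroup.mk_mul, h2, QuotientGroup.mk_mul, h1, one_mul, QuotientGroup.mk_mul]

/-- lifting property of `Ê` for central extensions of `Q` -/
theorem exists_lift {X : Type v} [Group X] (ξ : X →* Q) (hs : Function.Surjective ξ)
    (hc : ξ.ker ≤ Subgroup.center X) : ∃ ψ : Ehat Q →* X, ξ.comp ψ = ehatProj Q := by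
  let s : Q → X := Function.surjInv hs
  have hs' : ∀ q, ξ (s q) = q := Function.surjInv_eq hs
  let ψ0 : FreeGroup Q →* X := FreeGroup.lift s
  have h0 : ξ.comp ψ0 = freeProj Q := by
    ext q
    simp [ψ0, hs']
  have hle : relComm Q ≤ ψ0.ker := by
    unfold relComm
    rw [Subgroup.commutator_le]
    intro g _ r hr
    rw [MonoidHom.mem_ker, map_commutatorElement]
    have hr' : ψ0 r ∈ ξ.ker := by
      rw [MonoidHom.mem_ker, ← MonoidHom.comp_apply, h0]
      exact hr
    have hcz := Subgroup.mem_center_iff.mp (hc hr') (ψ0 g)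
    rw [commutatorElement_def, hcz]
    group
  refine ⟨QuotientGroup.lift (relComm Q) ψ0 hle, ?_⟩
  refine MonoidHom.ext fun x => ?_
  induction x using QuotientGroup.induction_on with
  | H f =>
    show ξ (ψ0 f) = freeProj Q f
    rw [← MonoidHom.comp_apply, h0]

theorem center_finiteIndex [Finite Q] : (Subgroup.center (Ehat Q)).FiniteIndex := by
  have hfin : Finite (ehatProj Q).range := by
    have : Finite Q := inferInstance
    exact Finite.of_injective (fun x => (x : Q)) Subtype.val_injective
  have : (ehatProj Q).ker.FiniteIndex := Subgroup.finiteIndex_ker (ehatProj Q)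
  exact Subgroup.finiteIndex_of_le (ehatProj_ker_le_center Q)

instance finite_commutator_ehat [Finite Q] : Finite (commutator (Ehat Q)) := by
  have := center_finiteIndex Q
  exact finite_commutator_of_finiteIndex_center

end Cfsg.Agent.Lib.Helper65
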