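import Mathlib

set_option autoImplicit false

namespace Cfsg.Agent.Lib.Helper65

open Matrix

section Monomial

variable {C Q : Type*} [Group C] [Group Q]
  (c : C →* Q) (s : Q → C) (hs : ∀ q, c (s q) = q) (lam : c.ker →* ℂˣ)

/-- the cocycle `k(q,y) = s(q) y s(q c(y))⁻¹ ∈ ker c` -/
def monoK (q : Q) (y : C) : c.ker := ⟨s q * y * (s (q * c y))⁻¹, by
  rw [MonoidHom.mem_ker, map_mul, map_mul, map_inv, hs, hs, mul_inv_cancel]⟩

theorem monoK_mul (q : Q) (y y' : C) :
    monoK c s hs q (y * y') = monoK c s hs q y * monoK c s hs (q * c y) y' := by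
  apply Subtype.ext
  show s q * (y * y') * (s (q * c (y * y')))⁻¹ =
    (s q * y * (s (q * c y))⁻¹) * (s (q * c y) * y' * (s (q * c y * c y'))⁻¹)
  rw [map_mul, mul_assoc q]
  group

theorem monoK_one (q : Q) : monoK c s hs q 1 = 1 := by
  apply Subtype.ext
  show s q * 1 * (s (q * c 1))⁻¹ = 1
  rw [map_one, mul_one, mul_one, mul_inv_cancel]

theorem monoK_ker (hc : c.ker ≤ Subgroup.center C) (q : Q) (z : c.ker) :
    monoK c s hs q (z : C) = z := by
  apply Subtype.ext
  show s q * (z : C) * (s (q * c (z : C)))⁻¹ = z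
  rw [MonoidHom.mem_ker.mp z.2, mul_one, Subgroup.mem_center_iff.mp (hc z.2) (s q),
    mul_inv_cancel_right]

variable [Fintype Q] [DecidableEq Q]

/-- the monomial matrix of `y` -/
noncomputable def monoMat (y : C) : Matrix Q Q ℂ :=
  Matrix.of fun q q' => if q' = q * c y then ((lam (monoK c s hs q y) : ℂˣ) : ℂ) else 0

theorem monoMat_one : monoMat c s hs lam 1 = 1 := by
  ext q q'
  simp only [monoMat, Matrix.of_apply, monoK_one, map_one, mul_one, Units.val_one,
    Matrix.one_apply]
  by_cases h : q = q'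
  · rw [if_pos h.symm, if_pos h]
  · rw [if_neg (fun h' => h h'.symm), if_neg h]

theorem monoMat_mul (y y' : C) :
    monoMat c s hs lam (y * y') = monoMat c s hs lam y * monoMat c s hs lam y' := by
  ext q q''
  rw [Matrix.mul_apply]
  simp only [monoMat, Matrix.of_apply]
  rw [Finset.sum_eq_single (q * c y)]
  · rw [if_pos rfl, monoK_mul, map_mul, map_mul, mul_assoc q]
    by_cases h : q'' = q * (c y * c y')
    · rw [if_pos h, if_pos h, Units.val_mul]
    · rw [if_neg h, if_neg h, mul_zero]
  · intro b _ hb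
    rw [if_neg hb, zero_mul]
  · intro h
    exact absurd (Finset.mem_univ _) h

/-- the monomial representation as a monoid hom into matrices -/
noncomputable def monoHomM : C →* Matrix Q Q ℂ where
  toFun := monoMat c s hs lam
  map_one' := monoMat_one c s hs lam
  map_mul' := monoMat_mul c s hs lam

/-- the monomial representation -/
noncomputable def monoHom : C →* GL Q ℂ := (monoHomM c s hs lam).toHomUnits

theorem monoHom_val (y : C) : ((monoHom c s hs lam y : GL Q ℂ) : Matrix Q Q ℂ) =
    monoMat c s hs lam y := rfl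

theorem monoHom_ker (hc : c.ker ≤ Subgroup.center C) (z : c.ker) :
    monoHom c s hs lam (z : C) = Matrix.GeneralLinearGroup.scalar Q (lam z) := by
  apply Units.ext
  rw [monoHom_val]
  ext q q'
  simp only [monoMat, Matrix.of_apply, monoK_ker c s hs hc, MonoidHom.mem_ker.mp z.2, mul_one]
  rw [Matrix.GeneralLinearGroup.coe_scalar, Matrix.scalar_apply, Matrix.diagonal_apply]
  by_cases h : q = q'
  · rw [if_pos h.symm, if_pos h]
  · rw [if_neg (fun h' => h h'.symm), if_neg h]

end Monomial

end Cfsg.Agent.Lib.Helper65
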