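import Mathlib
import Cfsg.Prelude
import Cfsg.Agent.Lib.Helper65.Monomial

set_option autoImplicit false

namespace Cfsg.Agent.Lib.Helper65

open Matrix
open scoped IsMulCommutative

universe u v w

/-- If every projective representation of `Q` lifts along `σ : Γ → Q`, then any morphism
from a finite stem extension `c : C → Q` to `σ` over `Q` is injective. -/
theorem injective_of_proj_lift {Q : Type u} [Group Q] [Finite Q] {C : Type w} [Group C] [Finite C]
    (c : C →* Q) (hc : Cfsg.IsStemExtension c) {Γ : Type v} [Group Γ] (σ : Γ →* Q)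
    (hlift : ∀ (n : ℕ) (γ : Q →* (GL (Fin n) ℂ ⧸ Subgroup.center (GL (Fin n) ℂ))),
      ∃ ρ : Γ →* GL (Fin n) ℂ,
        (QuotientGroup.mk' (Subgroup.center (GL (Fin n) ℂ))).comp ρ = γ.comp σ)
    (β : C →* Γ) (hβ : σ.comp β = c) : Function.Injective β := by
  classical
  rw [injective_iff_map_eq_one]
  intro x hx
  by_contra hne
  have hxk : x ∈ c.ker := by
    rw [MonoidHom.mem_ker, ← hβ, MonoidHom.comp_apply, hx, map_one]
  -- the kernel is a finite commutative group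
  let _ : CommGroup c.ker :=
    { (inferInstance : Group c.ker) with
      mul_comm := fun a b => Subtype.ext (Subgroup.mem_center_iff.mp (hc.2.1 b.2) a.1) }
  have h1 : NeZero ((Monoid.exponent c.ker : ℕ) : ℂ) := by
    have : NeZero (Monoid.exponent c.ker) := ⟨Monoid.exponent_ne_zero_of_finite⟩
    exact NeZero.charZero
  have hne' : (⟨x, hxk⟩ : c.ker) ≠ 1 := fun h => hne (congrArg Subtype.val h)
  obtain ⟨lam, hlam⟩ := CommGroup.exists_apply_ne_one_of_hasEnoughRootsOfUnity c.ker ℂ hne'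
  let _ : Fintype Q := Fintype.ofFinite Q
  let s : Q → C := Function.surjInv hc.1
  have hs : ∀ q, c (s q) = q := Function.surjInv_eq hc.1
  let ρ : C →* GL Q ℂ := monoHom c s hs lam
  have hρz : ∀ z : c.ker, ρ (z : C) = Matrix.GeneralLinearGroup.scalar Q (lam z) :=
    monoHom_ker c s hs lam hc.2.1
  let n := Fintype.card Q
  let e : Q ≃ Fin n := Fintype.equivFin Q
  let φ : GL Q ℂ ≃* GL (Fin n) ℂ := Units.mapEquiv (Matrix.reindexAlgEquiv ℂ ℂ e).toMulEquiv
  let ρn : C →* GL (Fin n) ℂ := φ.toMonoidHom.comp ρ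
  have hρn : ∀ y, ρn y = φ (ρ y) := fun y => rfl
  have hcent : ∀ z : c.ker, ρn (z : C) ∈ Subgroup.center (GL (Fin n) ℂ) := by
    intro z
    rw [Subgroup.mem_center_iff]
    intro g
    obtain ⟨g', rfl⟩ := φ.surjective g
    rw [hρn, ← map_mul, ← map_mul, hρz, Matrix.GeneralLinearGroup.scalar_commute]
  set mk := QuotientGroup.mk' (Subgroup.center (GL (Fin n) ℂ)) with hmk
  have hker : c.ker ≤ (mk.comp ρn).ker := by
    intro z hz
    rw [MonoidHom.mem_ker, MonoidHom.comp_apply]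
    exact (QuotientGroup.eq_one_iff _).mpr (hcent ⟨z, hz⟩)
  let γ : Q →* (GL (Fin n) ℂ ⧸ Subgroup.center (GL (Fin n) ℂ)) :=
    c.liftOfSurjective hc.1 ⟨mk.comp ρn, hker⟩
  have hγ : ∀ y, γ (c y) = mk (ρn y) := fun y =>
    MonoidHom.liftOfRightInverse_comp_apply _ _ _ ⟨mk.comp ρn, hker⟩ y
  obtain ⟨ρ', hρ'⟩ := hlift n γ
  have hρ'' : ∀ g, mk (ρ' g) = γ (σ g) := fun g => DFunLike.congr_fun hρ' g
  have hμmem : ∀ y, (ρ' (β y))⁻¹ * ρn y ∈ Subgroup.center (GL (Fin n) ℂ) := by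
    intro y
    apply (QuotientGroup.eq_one_iff _).mp
    show mk ((ρ' (β y))⁻¹ * ρn y) = 1
    rw [map_mul, map_inv, hρ'', ← hγ, ← hβ, MonoidHom.comp_apply, inv_mul_cancel]
  let μ : C →* Subgroup.center (GL (Fin n) ℂ) := MonoidHom.mk'
    (fun y => ⟨(ρ' (β y))⁻¹ * ρn y, hμmem y⟩) (by
      intro a b
      apply Subtype.ext
      show (ρ' (β (a * b)))⁻¹ * ρn (a * b) =
        ((ρ' (β a))⁻¹ * ρn a) * ((ρ' (β b))⁻¹ * ρn b)
      have hcomm := Subgroup.mem_center_iff.mp (hμmem a) (ρ' (β b))⁻¹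
      calc (ρ' (β (a * b)))⁻¹ * ρn (a * b)
          = ((ρ' (β b))⁻¹ * ((ρ' (β a))⁻¹ * ρn a)) * ρn b := by
            rw [map_mul, map_mul, map_mul, _root_.mul_inv_rev]
            simp only [mul_assoc]
        _ = (((ρ' (β a))⁻¹ * ρn a) * (ρ' (β b))⁻¹) * ρn b := by rw [hcomm]
        _ = _ := by simp only [mul_assoc])
  have hμx : μ x = 1 := by
    have hxc : x ∈ commutator C := hc.2.2 hxk
    exact MonoidHom.mem_ker.mp (Abelianization.commutator_subset_ker μ hxc)
  have hρnx : ρn x = 1 := by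
    have h2 : (ρ' (β x))⁻¹ * ρn x = 1 := congrArg Subtype.val hμx
    rw [hx, map_one, inv_one, one_mul] at h2
    exact h2
  have hρx : ρ x = 1 := by
    apply φ.injective
    rw [map_one]
    exact hρnx
  have hsc : Matrix.GeneralLinearGroup.scalar Q (lam ⟨x, hxk⟩) = 1 := by
    rw [← hρz ⟨x, hxk⟩]
    exact hρx
  apply hlam
  apply Units.ext
  have h3 := congrArg (fun g : GL Q ℂ => (g : Matrix Q Q ℂ) 1 1) hsc
  simp only [Matrix.GeneralLinearGroup.coe_scalar, Matrix.scalar_apply, Matrix.diagonal_apply_eq,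
    Units.val_one, Matrix.one_apply_eq] at h3
  exact h3

end Cfsg.Agent.Lib.Helper65
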