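import Mathlib

set_option autoImplicit false

namespace Cfsg.Agent.Lib.Helper65.Metacyclic

open SemidirectProduct Multiplicative

/-- multiplication by a unit as a multiplicative automorphism of `Multiplicative (ZMod M)` -/
def thetaHom (M : ℕ) : (ZMod M)ˣ →* MulAut (Multiplicative (ZMod M)) :=
  (MulAutMultiplicative (ZMod M)).symm.toMonoidHom.comp AddAut.mulLeft

theorem thetaHom_apply (M : ℕ) (u : (ZMod M)ˣ) (x : ZMod M) :
    thetaHom M u (ofAdd x) = ofAdd ((u : ZMod M) * x) := rfl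

/-- the action of `ℤ` by powers of the unit `u` -/
def phi (M : ℕ) (u : (ZMod M)ˣ) : Multiplicative ℤ →* MulAut (Multiplicative (ZMod M)) :=
  (thetaHom M).comp (zpowersHom _ u)

theorem phi_apply (M : ℕ) (u : (ZMod M)ˣ) (k : ℤ) (x : ZMod M) :
    phi M u (ofAdd k) (ofAdd x) = ofAdd (((u ^ k : (ZMod M)ˣ) : ZMod M) * x) := rfl

/-- parameters of a metacyclic group `⟨a, b | a^M, b^n = a^T, b a b⁻¹ = a^R⟩` -/
structure Params where
  M : ℕ
  n : ℕ
  R : ℕ
  T : ℕ
  hM : 0 < M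
  hn : 0 < n
  hR : R ^ n ≡ 1 [MOD M]
  hT : T * R ≡ T [MOD M]

namespace Params

variable (P : Params)

instance : NeZero P.M := ⟨P.hM.ne'⟩

theorem R_pow : ((P.R : ZMod P.M)) ^ P.n = 1 := by
  have := (ZMod.natCast_eq_natCast_iff _ _ _).2 P.hR
  simpa using this

/-- `R` as a unit mod `M` -/
def u : (ZMod P.M)ˣ := Units.ofPowEqOne (P.R : ZMod P.M) P.n P.R_pow P.hn.ne'

theorem u_val : (P.u : ZMod P.M) = P.R := rfl

theorem u_pow : P.u ^ P.n = 1 := by
  apply Units.ext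
  simp [u_val, P.R_pow]

/-- the semidirect product `ZMod M ⋊ ℤ` -/
abbrev S := Multiplicative (ZMod P.M) ⋊[phi P.M P.u] Multiplicative ℤ

def A : P.S := inl (ofAdd 1)
def B : P.S := inr (ofAdd 1)

theorem inl_eq (k : ℤ) : (inl (ofAdd (k : ZMod P.M)) : P.S) = P.A ^ k := by
  rw [A, ← map_zpow, ← ofAdd_zsmul, zsmul_one]

theorem inr_eq (k : ℤ) : (inr (ofAdd k) : P.S) = P.B ^ k := by
  rw [B, ← map_zpow, ← ofAdd_zsmul, smul_eq_mul, mul_one]

theorem A_zpow_M : P.A ^ (P.M : ℤ) = 1 := by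
  rw [← inl_eq]
  simp

theorem A_pow_M : P.A ^ P.M = 1 := by
  have := P.A_zpow_M
  rwa [zpow_natCast] at this

theorem conj_zpow_A (k i : ℤ) :
    P.B ^ k * P.A ^ i * (P.B ^ k)⁻¹ = inl (ofAdd (((P.u ^ k : (ZMod P.M)ˣ) : ZMod P.M) * i)) := by
  rw [← inl_eq, ← inr_eq, ← map_inv, ← inl_aut, phi_apply]

theorem BAB : P.B * P.A * P.B⁻¹ = P.A ^ P.R := by
  have := P.conj_zpow_A 1 1
  simp only [zpow_one, Int.cast_one, mul_one] at this
  rw [this, u_val, ← zpow_natCast, ← inl_eq]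
  simp

/-- the central element `B^n A^{-T}` -/
def c0 : P.S := P.B ^ P.n * (P.A ^ P.T)⁻¹

theorem Bn_comm_A : Commute (P.B ^ P.n) P.A := by
  have := P.conj_zpow_A P.n 1
  simp only [zpow_natCast, P.u_pow, zpow_one, Int.cast_one, mul_one, Units.val_one] at this
  have h1 : (inl (ofAdd (1 : ZMod P.M)) : P.S) = P.A := rfl
  rw [h1] at this
  rw [Commute, SemiconjBy]
  calc P.B ^ P.n * P.A = (P.B ^ P.n * P.A * (P.B ^ P.n)⁻¹) * P.B ^ P.n := by group
    _ = P.A * P.B ^ P.n := by rw [this]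

theorem AT_comm_B : Commute (P.A ^ P.T) P.B := by
  have := P.conj_zpow_A 1 P.T
  simp only [zpow_one, zpow_natCast, Int.cast_natCast] at this
  have h2 : ((P.u : ZMod P.M)) * (P.T : ZMod P.M) = (P.T : ZMod P.M) := by
    rw [u_val, mul_comm]
    have := (ZMod.natCast_eq_natCast_iff _ _ _).2 P.hT
    simpa using this
  rw [h2] at this
  have h3 : (inl (ofAdd ((P.T : ZMod P.M))) : P.S) = P.A ^ P.T := by
    have := P.inl_eq (P.T : ℤ)
    simpa using this
  rw [h3] at this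
  rw [Commute, SemiconjBy]
  calc P.A ^ P.T * P.B = (P.B * P.A ^ P.T * P.B⁻¹)⁻¹⁻¹ * P.B := by rw [this]; group
    _ = P.B * P.A ^ P.T := by group

theorem c0_comm_A : Commute P.c0 P.A := by
  unfold c0
  exact P.Bn_comm_A.mul_left ((Commute.refl P.A).pow_left P.T).inv_left

theorem c0_comm_B : Commute P.c0 P.B := by
  unfold c0
  exact ((Commute.refl P.B).pow_left P.n).mul_left P.AT_comm_B.inv_left

theorem eq_A_mul_B (g : P.S) : ∃ i j : ℤ, g = P.A ^ i * P.B ^ j := by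
  refine ⟨(toAdd g.left).cast, toAdd g.right, ?_⟩
  rw [← inl_eq, ← inr_eq]
  simp only [ZMod.intCast_cast, ZMod.cast_id', id_eq, ofAdd_toAdd]
  exact (inl_left_mul_inr_right g).symm

theorem c0_central : P.c0 ∈ Subgroup.center P.S := by
  rw [Subgroup.mem_center_iff]
  intro g
  obtain ⟨i, j, rfl⟩ := P.eq_A_mul_B g
  exact ((P.c0_comm_A.zpow_right i).mul_right (P.c0_comm_B.zpow_right j)).eq.symm

instance : (Subgroup.zpowers P.c0).Normal := by
  constructor
  intro x hx g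
  have hxc : x ∈ Subgroup.center P.S := by
    have : Subgroup.zpowers P.c0 ≤ Subgroup.center P.S := by
      rw [Subgroup.zpowers_le]; exact P.c0_central
    exact this hx
  rw [Subgroup.mem_center_iff] at hxc
  have : g * x * g⁻¹ = x := by rw [hxc g]; group
  rwa [this]

/-- the metacyclic group -/
abbrev Q := P.S ⧸ Subgroup.zpowers P.c0

def a : P.Q := QuotientGroup.mk P.A
def b : P.Q := QuotientGroup.mk P.B

theorem a_pow_M : P.a ^ P.M = 1 := by
  rw [a, ← QuotientGroup.mk_pow, A_pow_M]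
  rfl

theorem bab : P.b * P.a * P.b⁻¹ = P.a ^ P.R := by
  rw [a, b, ← QuotientGroup.mk_pow, ← BAB]
  rfl

theorem b_pow_n : P.b ^ P.n = P.a ^ P.T := by
  rw [a, b, ← QuotientGroup.mk_pow, ← QuotientGroup.mk_pow, QuotientGroup.eq]
  have : (P.B ^ P.n)⁻¹ * P.A ^ P.T = P.c0⁻¹ := by
    unfold c0
    rw [mul_inv_rev, inv_inv]
    exact ((P.Bn_comm_A.pow_right P.T).inv_left).eq
  rw [this]
  exact inv_mem (Subgroup.mem_zpowers _)

theorem eq_a_mul_b (g : P.Q) : ∃ i j : ℤ, g = P.a ^ i * P.b ^ j := by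
  obtain ⟨s, rfl⟩ := QuotientGroup.mk_surjective g
  obtain ⟨i, j, rfl⟩ := P.eq_A_mul_B s
  exact ⟨i, j, rfl⟩

theorem a_zpow_eq_one {k : ℤ} (h : P.a ^ k = 1) : (P.M : ℤ) ∣ k := by
  rw [a, ← QuotientGroup.mk_zpow, QuotientGroup.eq_one_iff] at h
  obtain ⟨z, hz⟩ := Subgroup.mem_zpowers_iff.1 h
  have h1 := congrArg (rightHom (φ := phi P.M P.u)) hz
  rw [map_zpow, map_zpow, c0, map_mul, map_inv, map_pow, map_pow] at h1
  simp only [A, B, rightHom_inl, rightHom_inr, one_pow, inv_one, mul_one, one_zpow] at h1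
  have h2 : (P.n : ℤ) * z = 0 := by
    have := congrArg toAdd h1
    simpa [mul_comm] using this
  have hz0 : z = 0 := by
    rcases mul_eq_zero.1 h2 with h | h
    · have := P.hn; omega
    · exact h
  rw [hz0, zpow_zero, ← inl_eq] at hz
  have h3 := inl_injective (φ := phi P.M P.u) (hz.symm.trans (map_one _).symm)
  have h4 : (k : ZMod P.M) = 0 := by
    have := congrArg toAdd h3
    simpa using this
  exact (ZMod.intCast_zmod_eq_zero_iff_dvd k P.M).1 h4

theorem b_zpow (j : ℤ) : P.b ^ j = P.a ^ ((P.T : ℤ) * (j / P.n)) * P.b ^ (j % P.n) := by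
  conv_lhs => rw [← Int.mul_ediv_add_emod j P.n]
  rw [zpow_add, zpow_mul, zpow_natCast, P.b_pow_n, zpow_mul, zpow_natCast]

theorem eq_a_mul_b' (g : P.Q) :
    ∃ i j : ℤ, (0 ≤ i ∧ i < P.M) ∧ (0 ≤ j ∧ j < P.n) ∧ g = P.a ^ i * P.b ^ j := by
  obtain ⟨i, j, rfl⟩ := P.eq_a_mul_b g
  have hM : (0 : ℤ) < P.M := by exact_mod_cast P.hM
  have hn : (0 : ℤ) < P.n := by exact_mod_cast P.hn
  refine ⟨(i + (P.T : ℤ) * (j / P.n)) % P.M, j % P.n,
    ⟨Int.emod_nonneg _ hM.ne', Int.emod_lt_of_pos _ hM⟩,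
    ⟨Int.emod_nonneg _ hn.ne', Int.emod_lt_of_pos _ hn⟩, ?_⟩
  have h1 : P.a ^ (P.M : ℤ) = 1 := by rw [zpow_natCast, P.a_pow_M]
  rw [← zpow_eq_zpow_emod _ h1, zpow_add, mul_assoc, ← P.b_zpow]

instance : Finite P.Q :=
  Finite.of_surjective
    (fun p : (Finset.Ico (0 : ℤ) P.M) × (Finset.Ico (0 : ℤ) P.n) =>
      P.a ^ (p.1 : ℤ) * P.b ^ (p.2 : ℤ))
    (by
      intro g
      obtain ⟨i, j, hi, hj, rfl⟩ := P.eq_a_mul_b' g
      exact ⟨(⟨i, Finset.mem_Ico.2 hi⟩, ⟨j, Finset.mem_Ico.2 hj⟩), rfl⟩)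

section lift

variable {H : Type*} [Group H] (x y : H)

/-- the homomorphism `ZMod M → H`, `1 ↦ x` -/
def f1 (hx : x ^ P.M = 1) : Multiplicative (ZMod P.M) →* H :=
  AddMonoidHom.toMultiplicativeLeft (ZMod.lift P.M
    ⟨zmultiplesHom (Additive H) (Additive.ofMul x), by
      rw [zmultiplesHom_apply, natCast_zsmul, ← ofMul_pow, hx]; rfl⟩)

theorem f1_apply (hx : x ^ P.M = 1) (k : ℤ) : P.f1 x hx (ofAdd (k : ZMod P.M)) = x ^ k := by
  unfold f1
  simp only [AddMonoidHom.toMultiplicativeLeft_apply_apply, toAdd_ofAdd, ZMod.lift_coe,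
    zmultiplesHom_apply]
  rfl

variable (hx : x ^ P.M = 1) (hy : y ^ P.n = x ^ P.T) (hxy : y * x * y⁻¹ = x ^ P.R)

include hxy in
theorem compat (g : Multiplicative ℤ) :
    (P.f1 x hx).comp (phi P.M P.u g).toMonoidHom
      = (MulAut.conj (zpowersHom H y g)).toMonoidHom.comp (P.f1 x hx) := by
  let C : Subgroup (Multiplicative ℤ) :=
    { carrier := {g | ∀ w, P.f1 x hx (phi P.M P.u g w)
        = zpowersHom H y g * P.f1 x hx w * (zpowersHom H y g)⁻¹}
      mul_mem' := by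
        intro g₁ g₂ h₁ h₂ w
        rw [map_mul, MulAut.mul_apply, h₁, h₂, map_mul]
        group
      one_mem' := by intro w; simp
      inv_mem' := by
        intro g h w
        have := h ((phi P.M P.u g)⁻¹ w)
        rw [MulAut.apply_inv_self] at this
        rw [map_inv, map_inv, this]
        group }
  have h1 : ofAdd (1 : ℤ) ∈ C := by
    intro w
    obtain ⟨k, rfl⟩ : ∃ k : ℤ, w = ofAdd (k : ZMod P.M) :=
      ⟨(toAdd w).cast, by simp⟩
    rw [phi_apply, zpow_one, u_val, f1_apply]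
    have : ((P.R : ZMod P.M)) * (k : ZMod P.M) = (((P.R : ℤ) * k : ℤ) : ZMod P.M) := by
      push_cast; rfl
    rw [this, f1_apply, zpowersHom_apply, toAdd_ofAdd, zpow_one, zpow_mul, zpow_natCast,
      ← hxy, conj_zpow]
  have key : ∀ g : Multiplicative ℤ, g ∈ C := by
    intro g
    have hg : g ∈ Subgroup.zpowers (ofAdd (1 : ℤ)) := by
      rw [Subgroup.mem_zpowers_iff]
      exact ⟨toAdd g, by rw [← ofAdd_zsmul]; simp⟩
    exact (Subgroup.zpowers_le.2 h1) hg
  refine MonoidHom.ext (fun w => ?_)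
  simp only [MonoidHom.coe_comp, MulEquiv.coe_toMonoidHom, Function.comp_apply, MulAut.conj_apply]
  exact key g w

/-- the homomorphism out of the semidirect product -/
def liftS : P.S →* H :=
  SemidirectProduct.lift (P.f1 x hx) (zpowersHom H y) (P.compat x y hx hxy)

theorem liftS_A : P.liftS x y hx hxy P.A = x := by
  unfold liftS A
  rw [lift_inl]
  have := P.f1_apply x hx 1
  simpa using this

theorem liftS_B : P.liftS x y hx hxy P.B = y := by
  unfold liftS B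
  rw [lift_inr]
  simp

include hy in
theorem liftS_c0 : P.liftS x y hx hxy P.c0 = 1 := by
  unfold c0
  rw [map_mul, map_inv, map_pow, map_pow, liftS_A, liftS_B, hy, mul_inv_cancel]

/-- the homomorphism out of the metacyclic group -/
def liftQ : P.Q →* H :=
  QuotientGroup.lift (Subgroup.zpowers P.c0) (P.liftS x y hx hxy) (by
    rw [Subgroup.zpowers_le]
    exact P.liftS_c0 x y hx hy hxy)

theorem liftQ_a : P.liftQ x y hx hy hxy P.a = x := by
  unfold liftQ a
  rw [QuotientGroup.lift_mk, liftS_A]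

theorem liftQ_b : P.liftQ x y hx hy hxy P.b = y := by
  unfold liftQ b
  rw [QuotientGroup.lift_mk, liftS_B]

end lift

end Params

end Cfsg.Agent.Lib.Helper65.Metacyclic
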