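import Cfsg.Agent.Lib.Helper65.SylowMult
import Cfsg.Agent.Lib.Helper65.StemLemmas2
import Cfsg.Agent.Lib.Helper65.MetacyclicMult
import Cfsg.Agent.Lib.Helper65.TransferComm

/-!
# Bounds on the Schur multiplier via Sylow subgroups

* `card_sylow_multSub_le`: the `p`-part of `M(G)` is bounded by `|M(H)|` for `H` of index prime to `p`.
* `card_multSub_le_two_of_two_involutions`, `card_multSub_le_of_card_prime_sq`, cyclic groups.
* `hasSchurMultiplier_of_mulEquiv`: transport along an isomorphism of the coefficient group.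
-/

set_option autoImplicit false

namespace Cfsg.Agent.Lib.Helper65

open scoped commutatorElement

universe u v

/-- the `p`-part of the multiplier of `G` embeds into the multiplier of a subgroup of index prime
to `p` -/
theorem card_sylow_multSub_le (G : Type u) [Group G] [Finite G] (H : Subgroup G) (p : ℕ)
    [Fact p.Prime] (hcop : Nat.Coprime p H.index) (P : Sylow p (multSub G)) :
    Nat.card P ≤ Nat.card (multSub H) := by
  obtain ⟨t, ht⟩ := exists_mult_transfer G H
  have hinj : Function.Injective (t.comp (P : Subgroup (multSub G)).subtype) := by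
    rw [injective_iff_map_eq_one]
    intro x hx
    have hx' : t (x : multSub G) = 1 := hx
    have h1 : (x : multSub G) ^ H.index = 1 := by
      rw [← ht, hx', map_one]
    obtain ⟨k, hk⟩ := P.isPGroup' x
    have hk' : (x : multSub G) ^ p ^ k = 1 := by
      have := congrArg Subtype.val hk
      simpa using this
    have ho : orderOf (x : multSub G) ∣ 1 := by
      have hc : Nat.Coprime (p ^ k) H.index := Nat.Coprime.pow_left k hcop
      rw [← hc.gcd_eq_one]
      exact Nat.dvd_gcd (orderOf_dvd_of_pow_eq_one hk') (orderOf_dvd_of_pow_eq_one h1)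
    have : (x : multSub G) = 1 := orderOf_eq_one_iff.1 (Nat.dvd_one.1 ho)
    exact Subtype.ext this
  exact Nat.card_le_card_of_injective _ hinj

/-- the multiplier of a cyclic group is trivial -/
theorem multSub_subsingleton_of_isCyclic (H : Type u) [Group H] [Finite H] [IsCyclic H] :
    Subsingleton (multSub H) :=
  multSub_subsingleton_of_trivial (fun _ _ _ σ hσ => stem_ker_eq_bot_of_isCyclic σ hσ)

/-- the multiplier of a group generated by two involutions has order at most two -/
theorem card_multSub_le_two_of_two_involutions (H : Type u) [Group H] [Finite H] (a b : H)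
    (ha : a ^ 2 = 1) (hb : b ^ 2 = 1) (hgen : Subgroup.closure {a, b} = ⊤) :
    Nat.card (multSub H) ≤ 2 := by
  obtain ⟨Γ, _, _, σ, hσ, ⟨e⟩⟩ := (hasSchurMultiplier_multSub H).1
  rw [← Nat.card_congr e.toEquiv]
  exact card_ker_le_two_of_two_involutions ha hb hgen σ hσ

/-- a stem extension of a group generated by two commuting elements `a, b` with `a ^ m = 1` has
kernel of order at most `m` -/
theorem card_ker_le_of_comm_two_gen {P : Type u} [Group P] {Q : Type v} [Group Q] [Finite Q]
    {a b : P} (m : ℕ) (hm : 0 < m) (ha : a ^ m = 1) (hab : a * b = b * a)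
    (hgen : Subgroup.closure {a, b} = ⊤) (σ : Q →* P) (hσ : Cfsg.IsStemExtension σ) :
    Nat.card σ.ker ≤ m := by
  obtain ⟨α, hα⟩ := hσ.1 a
  obtain ⟨β, hβ⟩ := hσ.1 b
  have hgen' : Subgroup.closure {σ α, σ β} = ⊤ := by rw [hα, hβ]; exact hgen
  set c := α * β * α⁻¹ * β⁻¹ with hc
  have hcker : c ∈ σ.ker := by
    rw [MonoidHom.mem_ker, hc, map_mul, map_mul, map_mul, map_inv, map_inv, hα, hβ, hab,
      mul_assoc b, mul_inv_cancel, mul_one, mul_inv_cancel]
  have hccen : c ∈ Subgroup.center Q := hσ.2.1 hcker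
  have hnorm : ∀ g : Q, g ∈ Subgroup.normalizer (Subgroup.zpowers c : Set Q) := by
    intro g
    apply Metacyclic.mem_normalizer_zpowers_of_conj_mem
    have := (Subgroup.mem_center_iff.1 hccen) g
    rw [this, mul_inv_cancel_right]
    exact Subgroup.mem_zpowers c
  have hle := ker_le_zpowers_of_normalizer σ hσ α β hgen' (hnorm α) (hnorm β)
  have hαm : α ^ m ∈ σ.ker := by
    rw [MonoidHom.mem_ker, map_pow, hα, ha]
  have hcm : c ^ m = 1 := by
    have h1 := commutator_pow_left α β (by rw [commutatorElement_def]; exact hccen) m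
    rw [commutatorElement_def, commutatorElement_def] at h1
    rw [hc, ← h1]
    have := (Subgroup.mem_center_iff.1 (hσ.2.1 hαm)) β
    rw [← this, mul_inv_cancel_right, mul_inv_cancel]
  calc Nat.card σ.ker ≤ Nat.card (Subgroup.zpowers c) := Subgroup.card_le_of_le hle
    _ = orderOf c := Nat.card_zpowers c
    _ ≤ m := orderOf_le_of_pow_eq_one hm hcm

/-- the multiplier of a group of order `p²` has order at most `p` -/
theorem card_multSub_le_of_card_prime_sq (S : Type u) [Group S] [Finite S] (p : ℕ)
    [hp : Fact p.Prime] (hS : Nat.card S = p ^ 2) : Nat.card (multSub S) ≤ p := by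
  by_cases hcyc : IsCyclic S
  · have := multSub_subsingleton_of_isCyclic S
    rw [Nat.card_eq_one_iff_unique.2 ⟨this, ⟨1⟩⟩]
    exact hp.out.one_lt.le
  have hmc : IsMulCommutative S := IsPGroup.isMulCommutative_of_card_eq_prime_sq hS
  have hcomm : ∀ a b : S, a * b = b * a := fun a b => hmc.is_comm.comm a b
  -- every element has order dividing p
  have hexp : ∀ x : S, x ^ p = 1 := by
    intro x
    have hd : orderOf x ∣ p ^ 2 := by rw [← hS]; exact orderOf_dvd_natCard x
    obtain ⟨k, hk, hk'⟩ := (Nat.dvd_prime_pow hp.out).1 hd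
    have hk2 : k ≠ 2 := by
      intro h2
      apply hcyc
      apply isCyclic_of_orderOf_eq_card x
      rw [hk', h2, hS]
    have hk1 : k ≤ 1 := by omega
    have : orderOf x ∣ p := by
      rw [hk']
      calc p ^ k ∣ p ^ 1 := Nat.pow_dvd_pow p hk1
        _ = p := pow_one p
    exact orderOf_dvd_iff_pow_eq_one.1 this
  -- pick a ≠ 1
  have hnt : Nontrivial S := by
    rw [← Finite.one_lt_card_iff_nontrivial, hS]
    exact Nat.one_lt_pow (by norm_num) hp.out.one_lt
  obtain ⟨a, ha1⟩ := exists_ne (1 : S)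
  have hoa : orderOf a = p := by
    have hd : orderOf a ∣ p := orderOf_dvd_of_pow_eq_one (hexp a)
    rcases (Nat.dvd_prime hp.out).1 hd with h | h
    · exact absurd (orderOf_eq_one_iff.1 h) ha1
    · exact h
  have hZa : Nat.card (Subgroup.zpowers a) = p := by rw [Nat.card_zpowers, hoa]
  -- pick b outside ⟨a⟩
  obtain ⟨b, hb⟩ : ∃ b : S, b ∉ Subgroup.zpowers a := by
    by_contra hcon
    push Not at hcon
    have : Subgroup.zpowers a = ⊤ := by
      rw [eq_top_iff]
      intro x _
      exact hcon x
    rw [this, Subgroup.card_top, hS] at hZa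
    have h1 := hp.out.one_lt
    nlinarith
  have hgen : Subgroup.closure ({a, b} : Set S) = ⊤ := by
    set H := Subgroup.closure ({a, b} : Set S) with hH
    have haH : a ∈ H := Subgroup.subset_closure (by simp)
    have hbH : b ∈ H := Subgroup.subset_closure (by simp)
    have hle : Subgroup.zpowers a ≤ H := by rw [Subgroup.zpowers_le]; exact haH
    have hd1 : p ∣ Nat.card H := by
      rw [← hZa]; exact Subgroup.card_dvd_of_le hle
    have hd2 : Nat.card H ∣ p ^ 2 := by
      rw [← hS]; exact Subgroup.card_subgroup_dvd_card H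
    obtain ⟨k, hk, hk'⟩ := (Nat.dvd_prime_pow hp.out).1 hd2
    have hk1 : k ≠ 1 := by
      intro h1
      rw [h1, pow_one] at hk'
      have : Subgroup.zpowers a = H := by
        apply Subgroup.eq_of_le_of_card_ge hle
        rw [hZa, hk']
      apply hb
      rw [this]
      exact hbH
    have hk0 : k ≠ 0 := by
      intro h0
      rw [h0, pow_zero] at hk'
      rw [hk'] at hd1
      exact hp.out.one_lt.ne' (Nat.dvd_one.1 hd1)
    have hk2 : k = 2 := by omega
    apply Subgroup.eq_top_of_card_eq
    rw [hk', hk2, hS]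
  obtain ⟨Γ, _, _, σ, hσ, ⟨e⟩⟩ := (hasSchurMultiplier_multSub S).1
  rw [← Nat.card_congr e.toEquiv]
  exact card_ker_le_of_comm_two_gen p hp.out.pos (hexp a) (hcomm a b) hgen σ hσ

/-- transport of `HasSchurMultiplier` along an isomorphism of coefficient groups -/
theorem hasSchurMultiplier_of_mulEquiv {Q : Type u} [Group Q] {A : Type v} [CommGroup A]
    {B : Type*} [CommGroup B] (h : Cfsg.HasSchurMultiplier Q A) (e : A ≃* B) :
    Cfsg.HasSchurMultiplier Q B := by
  obtain ⟨⟨Γ, hG, hF, σ, hσ, ⟨e1⟩⟩, h2⟩ := h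
  refine ⟨⟨Γ, hG, hF, σ, hσ, ⟨e1.trans e⟩⟩, ?_⟩
  intro Γ' _ _ σ' hσ'
  obtain ⟨π, hπ⟩ := h2 Γ' σ' hσ'
  exact ⟨π.comp e.symm.toMonoidHom, hπ.comp e.symm.surjective⟩

/-- the order of a stem kernel divides the order of the multiplier -/
theorem card_ker_dvd_card_multSub {Q : Type u} [Group Q] [Finite Q] {Δ : Type v} [Group Δ]
    (τ : Δ →* Q) (hτ : Cfsg.IsStemExtension τ) : Nat.card τ.ker ∣ Nat.card (multSub Q) := by
  obtain ⟨π, hπ⟩ := exists_surj_of_stem Q τ hτ
  exact Subgroup.card_dvd_of_surjective π hπ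

end Cfsg.Agent.Lib.Helper65
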