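import Mathlib
import Cfsg.Prelude.Def_CaseTheorems

/-! # N57-CENT (helper65, leaf of helper84's N57 mini-hive for S1957) -/

set_option autoImplicit false

open Cfsg

namespace Cfsg.Agent.Lib.Helper84.N57

variable {G : Type*} [Group G] [Finite G]

/-- N57-CENT: V ≤ Q, Q a 2-group normalized by N, X ≤ N of odd order normalized by V ⇒ V centralizes X
(x w x⁻¹ w⁻¹ ∈ X ⊓ Q = 1). -/
theorem cent (N Q V X : Subgroup G) (hNQ : N ≤ Subgroup.normalizer (Q : Set G)) (hQ2 : IsPGroup 2 ↥Q)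
    (hVQ : V ≤ Q) (hXN : X ≤ N) (hX : Odd (Nat.card ↥X)) (hVX : V ≤ Subgroup.normalizer (X : Set G)) :
    ∀ x ∈ X, ∀ w ∈ V, x * w = w * x := by
  intro x hx w hw
  have hcQ : x * w * x⁻¹ * w⁻¹ ∈ Q := by
    have h1 : x * w * x⁻¹ ∈ Q := (Subgroup.mem_normalizer_iff.1 (hNQ (hXN hx)) w).1 (hVQ hw)
    exact Q.mul_mem h1 (Q.inv_mem (hVQ hw))
  have hcX : x * w * x⁻¹ * w⁻¹ ∈ X := by
    have h1 : w * x⁻¹ * w⁻¹ ∈ X := (Subgroup.mem_normalizer_iff.1 (hVX hw) x⁻¹).1 (X.inv_mem hx)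
    have e : x * w * x⁻¹ * w⁻¹ = x * (w * x⁻¹ * w⁻¹) := by group
    rw [e]
    exact X.mul_mem hx h1
  obtain ⟨k, hk⟩ := hQ2 ⟨x * w * x⁻¹ * w⁻¹, hcQ⟩
  have hk' : (x * w * x⁻¹ * w⁻¹) ^ 2 ^ k = 1 := by
    have := congrArg Subtype.val hk
    simpa using this
  have h1 : orderOf (x * w * x⁻¹ * w⁻¹) ∣ 2 ^ k := orderOf_dvd_of_pow_eq_one hk'
  have h2 : orderOf (x * w * x⁻¹ * w⁻¹) ∣ Nat.card ↥X := by
    have := orderOf_dvd_natCard (⟨x * w * x⁻¹ * w⁻¹, hcX⟩ : ↥X)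
    rwa [Subgroup.orderOf_mk] at this
  have hcop : Nat.Coprime (2 ^ k) (Nat.card ↥X) := Nat.Coprime.pow_left k (Nat.coprime_two_left.2 hX)
  have h3 : orderOf (x * w * x⁻¹ * w⁻¹) = 1 := by
    have := Nat.dvd_gcd h1 h2
    rw [hcop.gcd_eq_one] at this
    exact Nat.dvd_one.1 this
  have hc : x * w * x⁻¹ * w⁻¹ = 1 := orderOf_eq_one_iff.1 h3
  have h4 : x * w * x⁻¹ = w := by
    rwa [mul_inv_eq_one] at hc
  rwa [mul_inv_eq_iff_eq_mul] at h4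

end Cfsg.Agent.Lib.Helper84.N57
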