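import Mathlib
import Cfsg.Prelude.Def_KGroupFacts

set_option autoImplicit false

namespace Cfsg.Agent.Lib.Helper65

open scoped commutatorElement

/-- Central extension of a (possibly nonabelian) group `P` by `C` defined by a
bimultiplicative cocycle `β`. -/
structure TwExt {P C : Type*} [Group P] [AddCommGroup C] (β : P → P → C)
    (hl : ∀ x y z, β (x * y) z = β x z + β y z) (hr : ∀ x y z, β x (y * z) = β x y + β x z) where
  fst : P
  snd : C

namespace TwExt

variable {P C : Type*} [Group P] [AddCommGroup C] {β : P → P → C}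
  {hl : ∀ x y z, β (x * y) z = β x z + β y z} {hr : ∀ x y z, β x (y * z) = β x y + β x z}

include hl in
theorem beta_one_left (z : P) : β 1 z = 0 := by
  have := hl 1 1 z
  rw [mul_one] at this
  exact left_eq_add.mp this

include hr in
theorem beta_one_right (z : P) : β z 1 = 0 := by
  have := hr z 1 1
  rw [mul_one] at this
  exact left_eq_add.mp this

include hl in
theorem beta_inv_left (x z : P) : β x⁻¹ z = -β x z := by
  have := hl x⁻¹ x z
  rw [inv_mul_cancel, beta_one_left (hl := hl)] at this
  exact eq_neg_of_add_eq_zero_left this.symm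

include hr in
theorem beta_inv_right (x z : P) : β x z⁻¹ = -β x z := by
  have := hr x z⁻¹ z
  rw [inv_mul_cancel, beta_one_right (hr := hr)] at this
  exact eq_neg_of_add_eq_zero_left this.symm

instance instMul : Mul (TwExt β hl hr) :=
  ⟨fun x y => ⟨x.fst * y.fst, x.snd + y.snd + β x.fst y.fst⟩⟩
instance instOne : One (TwExt β hl hr) := ⟨⟨1, 0⟩⟩
instance instInv : Inv (TwExt β hl hr) := ⟨fun x => ⟨x.fst⁻¹, -x.snd + β x.fst x.fst⟩⟩

@[simp] theorem mul_fst (x y : TwExt β hl hr) : (x * y).fst = x.fst * y.fst := rfl
@[simp] theorem mul_snd (x y : TwExt β hl hr) :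
    (x * y).snd = x.snd + y.snd + β x.fst y.fst := rfl
@[simp] theorem one_fst : (1 : TwExt β hl hr).fst = 1 := rfl
@[simp] theorem one_snd : (1 : TwExt β hl hr).snd = 0 := rfl
@[simp] theorem inv_fst (x : TwExt β hl hr) : (x⁻¹).fst = x.fst⁻¹ := rfl
@[simp] theorem inv_snd (x : TwExt β hl hr) : (x⁻¹).snd = -x.snd + β x.fst x.fst := rfl

@[ext] theorem ext' {x y : TwExt β hl hr} (h1 : x.fst = y.fst) (h2 : x.snd = y.snd) : x = y := by
  cases x; cases y; simp_all

instance instGroup : Group (TwExt β hl hr) :=
  Group.ofLeftAxioms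
    (by
      intro x y z
      apply ext'
      · simp [mul_assoc]
      · simp only [mul_snd, mul_fst, hl, hr]
        abel)
    (by
      intro x
      apply ext'
      · simp
      · simp [beta_one_left (hl := hl)])
    (by
      intro x
      apply ext'
      · simp
      · simp only [mul_snd, inv_snd, inv_fst, one_snd, beta_inv_left (hl := hl)]
        abel)

/-- the projection onto `P`. -/
def proj : TwExt β hl hr →* P where
  toFun x := x.fst
  map_one' := rfl
  map_mul' _ _ := rfl

@[simp] theorem proj_apply (x : TwExt β hl hr) : proj x = x.fst := rfl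

theorem proj_surjective : Function.Surjective (proj : TwExt β hl hr →* P) :=
  fun y => ⟨⟨y, 0⟩, rfl⟩

/-- the inclusion of `C` -/
def incl : Multiplicative C →* TwExt β hl hr where
  toFun c := ⟨1, Multiplicative.toAdd c⟩
  map_one' := rfl
  map_mul' a b := by
    apply ext'
    · simp
    · simp [beta_one_left (hl := hl)]

@[simp] theorem incl_fst (c : Multiplicative C) : (incl c : TwExt β hl hr).fst = 1 := rfl
@[simp] theorem incl_snd (c : Multiplicative C) :
    (incl c : TwExt β hl hr).snd = Multiplicative.toAdd c := rfl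

/-- homomorphic partial sections -/
def sect {H : Type*} [Group H] (j : H →* P) (hj : ∀ x y, β (j x) (j y) = 0) :
    H →* TwExt β hl hr where
  toFun x := ⟨j x, 0⟩
  map_one' := by
    apply ext'
    · simp
    · simp
  map_mul' a b := by
    apply ext'
    · simp
    · simp [hj]

@[simp] theorem sect_fst {H : Type*} [Group H] (j : H →* P) (hj : ∀ x y, β (j x) (j y) = 0)
    (x : H) : (sect j hj x : TwExt β hl hr).fst = j x := rfl
@[simp] theorem sect_snd {H : Type*} [Group H] (j : H →* P) (hj : ∀ x y, β (j x) (j y) = 0)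
    (x : H) : (sect j hj x : TwExt β hl hr).snd = 0 := rfl

/-- a commutator formula -/
theorem commutator_eq_incl (x y : TwExt β hl hr) (hxy : x.fst * y.fst = y.fst * x.fst) :
    ⁅x, y⁆ = incl (Multiplicative.ofAdd (β x.fst y.fst - β y.fst x.fst)) := by
  have h : x * y = incl (Multiplicative.ofAdd (β x.fst y.fst - β y.fst x.fst)) * (y * x) := by
    apply ext'
    · rw [mul_fst, mul_fst, mul_fst, incl_fst, one_mul, hxy]
    · simp only [mul_snd, mul_fst, incl_snd, incl_fst, toAdd_ofAdd, beta_one_left (hl := hl)]
      abel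
  rw [commutatorElement_def, h]
  group

/-- as a type it is a product -/
def equivProd : TwExt β hl hr ≃ P × C where
  toFun x := (x.fst, x.snd)
  invFun p := ⟨p.1, p.2⟩
  left_inv x := by cases x; rfl
  right_inv p := rfl

instance instFinite [Finite P] [Finite C] : Finite (TwExt β hl hr) :=
  Finite.of_equiv _ (equivProd (β := β) (hl := hl) (hr := hr)).symm

end TwExt

end Cfsg.Agent.Lib.Helper65
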