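import Mathlib
import Cfsg.Prelude.Def_KGroupFacts
import Cfsg.Agent.Lib.Helper65.TwExt

set_option autoImplicit false

namespace Cfsg.Agent.Lib.Helper65

open scoped TensorProduct commutatorElement

universe u v

/-- the tensor product of the abelianizations -/
abbrev AbT (Q₁ : Type u) (Q₂ : Type v) [Group Q₁] [Group Q₂] : Type (max u v) :=
  TensorProduct ℤ (Additive (Abelianization Q₁)) (Additive (Abelianization Q₂))

/-- the additive abelianization map -/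
def abA (Q : Type*) [Group Q] (q : Q) : Additive (Abelianization Q) :=
  Additive.ofMul (Abelianization.of q)

theorem abA_mul (Q : Type*) [Group Q] (x y : Q) : abA Q (x * y) = abA Q x + abA Q y := by
  unfold abA
  rw [map_mul]
  rfl

theorem abA_one (Q : Type*) [Group Q] : abA Q 1 = 0 := by
  unfold abA
  rw [map_one]
  rfl

theorem abA_surjective (Q : Type*) [Group Q] : Function.Surjective (abA Q) := by
  intro m
  obtain ⟨q, hq⟩ := Quotient.exists_rep (Additive.toMul m)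
  exact ⟨q, congrArg Additive.ofMul hq⟩

instance finite_abT (Q₁ : Type u) (Q₂ : Type v) [Group Q₁] [Group Q₂] [Finite Q₁] [Finite Q₂] :
    Finite (AbT Q₁ Q₂) := by
  have hfin : Module.Finite ℤ (AbT Q₁ Q₂) :=
    Module.Finite.tensorProduct ℤ (Additive (Abelianization Q₁)) (Additive (Abelianization Q₂))
  apply Module.finite_of_fg_torsion
  intro x
  have hpos : 0 < Nat.card (Additive (Abelianization Q₁)) := Nat.card_pos
  refine ⟨⟨(Nat.card (Additive (Abelianization Q₁)) : ℤ), ?_⟩, ?_⟩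
  · rw [mem_nonZeroDivisors_iff_ne_zero]
    exact_mod_cast hpos.ne'
  · show (Nat.card (Additive (Abelianization Q₁)) : ℤ) • x = 0
    induction x using TensorProduct.induction_on with
    | zero => simp
    | tmul m n =>
      rw [TensorProduct.smul_tmul', natCast_zsmul, card_nsmul_eq_zero', TensorProduct.zero_tmul]
    | add a b ha hb => rw [smul_add, ha, hb, add_zero]

section Construction

variable {Q₁ : Type*} {Q₂ : Type*} [Group Q₁] [Group Q₂]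
variable {Γ₁ : Type*} {Γ₂ : Type*} [Group Γ₁] [Group Γ₂] (σ₁ : Γ₁ →* Q₁) (σ₂ : Γ₂ →* Q₂)

/-- the cocycle -/
def prodBeta (g h : Γ₁ × Γ₂) : AbT Q₁ Q₂ := abA Q₁ (σ₁ g.1) ⊗ₜ[ℤ] abA Q₂ (σ₂ h.2)

theorem prodBeta_left (x y z : Γ₁ × Γ₂) :
    prodBeta σ₁ σ₂ (x * y) z = prodBeta σ₁ σ₂ x z + prodBeta σ₁ σ₂ y z := by
  simp [prodBeta, abA_mul, TensorProduct.add_tmul]

theorem prodBeta_right (x y z : Γ₁ × Γ₂) :
    prodBeta σ₁ σ₂ x (y * z) = prodBeta σ₁ σ₂ x y + prodBeta σ₁ σ₂ x z := by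
  simp [prodBeta, abA_mul, TensorProduct.tmul_add]

/-- the twisted product of two extensions -/
abbrev ProdExt := TwExt (prodBeta σ₁ σ₂) (prodBeta_left σ₁ σ₂) (prodBeta_right σ₁ σ₂)

/-- the projection of the twisted product -/
def prodProj : ProdExt σ₁ σ₂ →* Q₁ × Q₂ := (σ₁.prodMap σ₂).comp TwExt.proj

theorem prodProj_apply (x : ProdExt σ₁ σ₂) : prodProj σ₁ σ₂ x = (σ₁ x.fst.1, σ₂ x.fst.2) := rfl

theorem mem_ker_prodProj (x : ProdExt σ₁ σ₂) :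
    x ∈ (prodProj σ₁ σ₂).ker ↔ x.fst.1 ∈ σ₁.ker ∧ x.fst.2 ∈ σ₂.ker := by
  rw [MonoidHom.mem_ker, prodProj_apply, Prod.mk_eq_one, MonoidHom.mem_ker, MonoidHom.mem_ker]

theorem prodBeta_eq_zero_left (g h : Γ₁ × Γ₂) (hg : g.1 ∈ σ₁.ker) : prodBeta σ₁ σ₂ g h = 0 := by
  unfold prodBeta
  rw [MonoidHom.mem_ker.mp hg, abA_one, TensorProduct.zero_tmul]

theorem prodBeta_eq_zero_right (g h : Γ₁ × Γ₂) (hh : h.2 ∈ σ₂.ker) : prodBeta σ₁ σ₂ g h = 0 := by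
  unfold prodBeta
  rw [MonoidHom.mem_ker.mp hh, abA_one, TensorProduct.tmul_zero]

/-- first section -/
def prodSect₁ : Γ₁ →* ProdExt σ₁ σ₂ :=
  TwExt.sect (MonoidHom.inl Γ₁ Γ₂) (by
    intro x y
    unfold prodBeta
    simp [abA_one])

/-- second section -/
def prodSect₂ : Γ₂ →* ProdExt σ₁ σ₂ :=
  TwExt.sect (MonoidHom.inr Γ₁ Γ₂) (by
    intro x y
    unfold prodBeta
    simp [abA_one])

theorem incl_mem_commutator (hs₁ : Function.Surjective σ₁) (hs₂ : Function.Surjective σ₂)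
    (t : AbT Q₁ Q₂) :
    (TwExt.incl (Multiplicative.ofAdd t) : ProdExt σ₁ σ₂) ∈ commutator (ProdExt σ₁ σ₂) := by
  induction t using TensorProduct.induction_on with
  | zero =>
    have : (TwExt.incl (Multiplicative.ofAdd (0 : AbT Q₁ Q₂)) : ProdExt σ₁ σ₂) = 1 := by
      rw [ofAdd_zero, map_one]
    rw [this]
    exact Subgroup.one_mem _
  | tmul m n =>
    obtain ⟨q₁, rfl⟩ := abA_surjective Q₁ m
    obtain ⟨q₂, rfl⟩ := abA_surjective Q₂ n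
    obtain ⟨g₁, rfl⟩ := hs₁ q₁
    obtain ⟨g₂, rfl⟩ := hs₂ q₂
    have h := TwExt.commutator_eq_incl (prodSect₁ σ₁ σ₂ g₁) (prodSect₂ σ₁ σ₂ g₂) (by
      show ((g₁, 1) : Γ₁ × Γ₂) * (1, g₂) = (1, g₂) * (g₁, 1)
      simp)
    have h2 : prodBeta σ₁ σ₂ (prodSect₁ σ₁ σ₂ g₁).fst (prodSect₂ σ₁ σ₂ g₂).fst -
        prodBeta σ₁ σ₂ (prodSect₂ σ₁ σ₂ g₂).fst (prodSect₁ σ₁ σ₂ g₁).fst =
        abA Q₁ (σ₁ g₁) ⊗ₜ[ℤ] abA Q₂ (σ₂ g₂) := by
      show abA Q₁ (σ₁ g₁) ⊗ₜ[ℤ] abA Q₂ (σ₂ g₂) - abA Q₁ (σ₁ 1) ⊗ₜ[ℤ] abA Q₂ (σ₂ 1) = _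
      rw [map_one, abA_one, TensorProduct.zero_tmul, sub_zero]
    rw [h2] at h
    rw [← h, commutator_def]
    exact Subgroup.commutator_mem_commutator (Subgroup.mem_top _) (Subgroup.mem_top _)
  | add a b ha hb =>
    rw [ofAdd_add, map_mul]
    exact Subgroup.mul_mem _ ha hb

theorem map_commutator_le {G H : Type*} [Group G] [Group H] (f : G →* H) :
    (commutator G).map f ≤ commutator H := by
  rw [commutator_def, Subgroup.map_commutator, commutator_def]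
  exact Subgroup.commutator_mono le_top le_top

theorem prodProj_stem (h₁ : Cfsg.IsStemExtension σ₁) (h₂ : Cfsg.IsStemExtension σ₂) :
    Cfsg.IsStemExtension (prodProj σ₁ σ₂) := by
  refine ⟨?_, ?_, ?_⟩
  · rintro ⟨q₁, q₂⟩
    obtain ⟨g₁, rfl⟩ := h₁.1 q₁
    obtain ⟨g₂, rfl⟩ := h₂.1 q₂
    exact ⟨⟨(g₁, g₂), 0⟩, rfl⟩
  · intro x hx
    obtain ⟨hx1, hx2⟩ := (mem_ker_prodProj σ₁ σ₂ x).mp hx
    rw [Subgroup.mem_center_iff]
    intro y
    apply TwExt.ext'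
    · show y.fst * x.fst = x.fst * y.fst
      apply Prod.ext
      · exact Subgroup.mem_center_iff.mp (h₁.2.1 hx1) y.fst.1
      · exact Subgroup.mem_center_iff.mp (h₂.2.1 hx2) y.fst.2
    · show y.snd + x.snd + prodBeta σ₁ σ₂ y.fst x.fst = x.snd + y.snd + prodBeta σ₁ σ₂ x.fst y.fst
      rw [prodBeta_eq_zero_left σ₁ σ₂ x.fst y.fst hx1, prodBeta_eq_zero_right σ₁ σ₂ y.fst x.fst hx2]
      abel
  · intro x hx
    obtain ⟨hx1, hx2⟩ := (mem_ker_prodProj σ₁ σ₂ x).mp hx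
    have hdec : x = prodSect₁ σ₁ σ₂ x.fst.1 * prodSect₂ σ₁ σ₂ x.fst.2 *
        TwExt.incl (Multiplicative.ofAdd x.snd) := by
      apply TwExt.ext'
      · show x.fst = ((x.fst.1, 1) : Γ₁ × Γ₂) * (1, x.fst.2) * 1
        simp
      · show x.snd = (0 + 0 + prodBeta σ₁ σ₂ (x.fst.1, 1) (1, x.fst.2)) + x.snd +
          prodBeta σ₁ σ₂ (((x.fst.1, 1) : Γ₁ × Γ₂) * (1, x.fst.2)) 1
        rw [prodBeta_eq_zero_left σ₁ σ₂ (x.fst.1, 1) _ hx1,
          TwExt.beta_one_right (hr := prodBeta_right σ₁ σ₂)]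
        abel
    rw [hdec]
    refine Subgroup.mul_mem _ (Subgroup.mul_mem _ ?_ ?_) (incl_mem_commutator σ₁ σ₂ h₁.1 h₂.1 _)
    · exact map_commutator_le (prodSect₁ σ₁ σ₂) ⟨_, h₁.2.2 hx1, rfl⟩
    · exact map_commutator_le (prodSect₂ σ₁ σ₂) ⟨_, h₂.2.2 hx2, rfl⟩

/-- the kernel of the twisted product -/
def prodKerEquiv : (prodProj σ₁ σ₂).ker ≃* σ₁.ker × σ₂.ker × Multiplicative (AbT Q₁ Q₂) where
  toFun x := (⟨x.1.fst.1, ((mem_ker_prodProj σ₁ σ₂ x.1).mp x.2).1⟩,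
    ⟨x.1.fst.2, ((mem_ker_prodProj σ₁ σ₂ x.1).mp x.2).2⟩, Multiplicative.ofAdd x.1.snd)
  invFun y := ⟨⟨(y.1.1, y.2.1.1), Multiplicative.toAdd y.2.2⟩,
    (mem_ker_prodProj σ₁ σ₂ _).mpr ⟨y.1.2, y.2.1.2⟩⟩
  left_inv x := by
    apply Subtype.ext
    apply TwExt.ext' <;> rfl
  right_inv y := by
    obtain ⟨⟨y1, hy1⟩, ⟨y2, hy2⟩, t⟩ := y
    rfl
  map_mul' x y := by
    have hx := (mem_ker_prodProj σ₁ σ₂ x.1).mp x.2
    refine Prod.ext (Subtype.ext rfl) (Prod.ext (Subtype.ext rfl) ?_)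
    show Multiplicative.ofAdd (x.1.snd + y.1.snd + prodBeta σ₁ σ₂ x.1.fst y.1.fst) =
      Multiplicative.ofAdd x.1.snd * Multiplicative.ofAdd y.1.snd
    rw [prodBeta_eq_zero_left σ₁ σ₂ _ _ hx.1, add_zero, ofAdd_add]

end Construction

end Cfsg.Agent.Lib.Helper65
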