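import Mathlib
import Cfsg.Prelude.Def_KGroupFacts
import Cfsg.Agent.Lib.Helper65.SchurCover
import Cfsg.Agent.Lib.Helper65.ProdMult

set_option autoImplicit false

namespace Cfsg.Agent.Lib.Helper65

open scoped TensorProduct commutatorElement

universe u v w

section General

variable {E : Type*} [Group E]

theorem comm_mul_left (a b y : E) (h : ⁅b, y⁆ ∈ Subgroup.center E) :
    ⁅a * b, y⁆ = ⁅a, y⁆ * ⁅b, y⁆ := by
  have h1 : ⁅a * b, y⁆ = a * ⁅b, y⁆ * a⁻¹ * ⁅a, y⁆ := by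
    simp only [commutatorElement_def]; group
  rw [h1, Subgroup.mem_center_iff.mp h a, mul_inv_cancel_right]
  exact (Subgroup.mem_center_iff.mp h _).symm

theorem comm_mul_right (x a b : E) (h : ⁅x, b⁆ ∈ Subgroup.center E) :
    ⁅x, a * b⁆ = ⁅x, a⁆ * ⁅x, b⁆ := by
  have h1 : ⁅x, a * b⁆ = ⁅x, a⁆ * (a * ⁅x, b⁆ * a⁻¹) := by
    simp only [commutatorElement_def]; group
  rw [h1, Subgroup.mem_center_iff.mp h a, mul_inv_cancel_right]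

theorem comm_congr {Q : Type*} [Group Q] (σ : E →* Q) (hc : σ.ker ≤ Subgroup.center E)
    (x x' y y' : E) (hx : σ x = σ x') (hy : σ y = σ y') : ⁅x, y⁆ = ⁅x', y'⁆ := by
  have hk : x'⁻¹ * x ∈ σ.ker := by
    rw [MonoidHom.mem_ker, map_mul, map_inv, hx, inv_mul_cancel]
  have hl : y'⁻¹ * y ∈ σ.ker := by
    rw [MonoidHom.mem_ker, map_mul, map_inv, hy, inv_mul_cancel]
  have := commutatorElement_mul_central x' y' _ _ (hc hk) (hc hl)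
  rw [mul_inv_cancel_left, mul_inv_cancel_left] at this
  exact this

end General

/-- one factor of the upper bound -/
theorem exists_part {Q₁ : Type u} [Group Q₁] {Γ : Type w} [Group Γ] (K : Subgroup Γ)
    (hK : K ≤ Subgroup.center Γ) (Γ₁ : Subgroup Γ) (σ₁ : Γ₁ →* Q₁)
    (hs : Function.Surjective σ₁) (hk : ∀ x : Γ₁, σ₁ x = 1 ↔ (x : Γ) ∈ K) :
    ∃ π₁ : multSub Q₁ →* K, ∀ d : Γ₁, d ∈ commutator Γ₁ → σ₁ d = 1 →
      ∃ m, ((π₁ m : K) : Γ) = d := by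
  have hc : σ₁.ker ≤ Subgroup.center Γ₁ := by
    intro x hx
    have hxK : (x : Γ) ∈ K := (hk x).mp hx
    rw [Subgroup.mem_center_iff]
    intro y
    apply Subtype.ext
    exact Subgroup.mem_center_iff.mp (hK hxK) y
  obtain ⟨ψ, hψ⟩ := exists_lift Q₁ σ₁ hs hc
  have hL2 := commutator_inf_ker_eq_map σ₁ ψ hψ hc
  refine ⟨((Γ₁.subtype.comp ψ).comp (multSub Q₁).subtype).codRestrict K (fun m => ?_), ?_⟩
  · apply (hk _).mp
    rw [lift_apply σ₁ ψ hψ]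
    exact m.2.2
  · intro d hd1 hd2
    have hd : d ∈ commutator Γ₁ ⊓ σ₁.ker := Subgroup.mem_inf.mpr ⟨hd1, hd2⟩
    rw [hL2] at hd
    obtain ⟨m, hm, hmd⟩ := hd
    exact ⟨⟨m, hm⟩, congrArg Subtype.val hmd⟩

/-- the commutator pairing as a map from the tensor product -/
theorem exists_pairing {Q₁ : Type u} {Q₂ : Type v} [Group Q₁] [Group Q₂] {Γ : Type w} [Group Γ]
    (σ : Γ →* Q₁ × Q₂) (hσs : Function.Surjective σ) (hσc : σ.ker ≤ Subgroup.center Γ) :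
    ∃ π₃ : Multiplicative (AbT Q₁ Q₂) →* σ.ker, ∀ g₁ g₂ : Γ, (σ g₁).2 = 1 → (σ g₂).1 = 1 →
      ∃ t, ((π₃ t : σ.ker) : Γ) = ⁅g₁, g₂⁆ := by
  classical
  let _ : CommGroup σ.ker :=
    { (inferInstance : Group σ.ker) with
      mul_comm := fun a b => Subtype.ext (Subgroup.mem_center_iff.mp (hσc b.2) a.1) }
  let s₁ : Q₁ → Γ := fun q₁ => Function.surjInv hσs (q₁, 1)
  let s₂ : Q₂ → Γ := fun q₂ => Function.surjInv hσs (1, q₂)
  have hs₁ : ∀ q₁, σ (s₁ q₁) = (q₁, 1) := fun q₁ => Function.surjInv_eq hσs _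
  have hs₂ : ∀ q₂, σ (s₂ q₂) = (1, q₂) := fun q₂ => Function.surjInv_eq hσs _
  have hmemK : ∀ g₁ g₂ : Γ, (σ g₁).2 = 1 → (σ g₂).1 = 1 → ⁅g₁, g₂⁆ ∈ σ.ker := by
    intro g₁ g₂ h1 h2
    rw [MonoidHom.mem_ker, map_commutatorElement, commutatorElement_def]
    apply Prod.ext
    · simp [h2]
    · simp [h1]
  have hcpK : ∀ q₁ q₂, ⁅s₁ q₁, s₂ q₂⁆ ∈ σ.ker := fun q₁ q₂ =>
    hmemK _ _ (by rw [hs₁]) (by rw [hs₂])
  let cp : Q₁ → Q₂ → σ.ker := fun q₁ q₂ => ⟨⁅s₁ q₁, s₂ q₂⁆, hcpK q₁ q₂⟩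
  have hcp_left : ∀ a b q₂, cp (a * b) q₂ = cp a q₂ * cp b q₂ := by
    intro a b q₂
    apply Subtype.ext
    show ⁅s₁ (a * b), s₂ q₂⁆ = ⁅s₁ a, s₂ q₂⁆ * ⁅s₁ b, s₂ q₂⁆
    rw [comm_congr σ hσc (s₁ (a * b)) (s₁ a * s₁ b) (s₂ q₂) (s₂ q₂)
      (by rw [map_mul, hs₁, hs₁, hs₁]; simp) rfl]
    exact comm_mul_left _ _ _ (hσc (hcpK b q₂))
  have hcp_right : ∀ q₁ a b, cp q₁ (a * b) = cp q₁ a * cp q₁ b := by
    intro q₁ a b
    apply Subtype.ext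
    show ⁅s₁ q₁, s₂ (a * b)⁆ = ⁅s₁ q₁, s₂ a⁆ * ⁅s₁ q₁, s₂ b⁆
    rw [comm_congr σ hσc (s₁ q₁) (s₁ q₁) (s₂ (a * b)) (s₂ a * s₂ b) rfl
      (by rw [map_mul, hs₂, hs₂, hs₂]; simp)]
    exact comm_mul_right _ _ _ (hσc (hcpK q₁ b))
  let c2 : Q₁ → (Q₂ →* σ.ker) := fun q₁ => MonoidHom.mk' (cp q₁) (hcp_right q₁)
  let c2' : Q₁ →* (Abelianization Q₂ →* σ.ker) :=
    MonoidHom.mk' (fun q₁ => Abelianization.lift (c2 q₁)) (by
      intro a b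
      apply Abelianization.hom_ext
      refine MonoidHom.ext fun q₂ => ?_
      simp only [MonoidHom.comp_apply, Abelianization.lift_apply_of, MonoidHom.mul_apply]
      exact hcp_left a b q₂)
  let F : Abelianization Q₁ →* (Abelianization Q₂ →* σ.ker) := Abelianization.lift c2'
  have hF : ∀ q₁ q₂, F (Abelianization.of q₁) (Abelianization.of q₂) = cp q₁ q₂ := by
    intro q₁ q₂
    show (Abelianization.lift c2' (Abelianization.of q₁)) (Abelianization.of q₂) = cp q₁ q₂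
    rw [Abelianization.lift_apply_of]
    show Abelianization.lift (c2 q₁) (Abelianization.of q₂) = cp q₁ q₂
    rw [Abelianization.lift_apply_of]
    rfl
  let fA : Additive (Abelianization Q₁) →+ Additive (Abelianization Q₂) →+ Additive σ.ker :=
    AddMonoidHom.mk' (fun m => MonoidHom.toAdditive (F (Additive.toMul m))) (by
      intro a b
      refine AddMonoidHom.ext fun n => ?_
      show Additive.ofMul (F (Additive.toMul a * Additive.toMul b) (Additive.toMul n)) =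
        Additive.ofMul (F (Additive.toMul a) (Additive.toMul n)) +
          Additive.ofMul (F (Additive.toMul b) (Additive.toMul n))
      rw [map_mul, MonoidHom.mul_apply]
      rfl)
  have hfA : ∀ m n, fA m n = Additive.ofMul (F (Additive.toMul m) (Additive.toMul n)) :=
    fun m n => rfl
  let L : AbT Q₁ Q₂ →+ Additive σ.ker := TensorProduct.liftAddHom fA (by
    intro r m n
    rw [map_zsmul, AddMonoidHom.smul_apply, map_zsmul])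
  have hL : ∀ m n, L (m ⊗ₜ[ℤ] n) = fA m n := fun m n => rfl
  refine ⟨AddMonoidHom.toMultiplicativeLeft L, ?_⟩
  intro g₁ g₂ h1 h2
  refine ⟨Multiplicative.ofAdd (abA Q₁ (σ g₁).1 ⊗ₜ[ℤ] abA Q₂ (σ g₂).2), ?_⟩
  have h3 : (AddMonoidHom.toMultiplicativeLeft L)
      (Multiplicative.ofAdd (abA Q₁ (σ g₁).1 ⊗ₜ[ℤ] abA Q₂ (σ g₂).2)) =
      cp (σ g₁).1 (σ g₂).2 := by
    show Additive.toMul (L (abA Q₁ (σ g₁).1 ⊗ₜ[ℤ] abA Q₂ (σ g₂).2)) = _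
    rw [hL, hfA]
    exact hF _ _
  rw [h3]
  show ⁅s₁ (σ g₁).1, s₂ (σ g₂).2⁆ = ⁅g₁, g₂⁆
  apply comm_congr σ hσc
  · rw [hs₁]; exact Prod.ext rfl h1.symm
  · rw [hs₂]; exact Prod.ext h2.symm rfl

/-- upper bound for the multiplier of a direct product -/
theorem exists_surj_prod {Q₁ : Type u} {Q₂ : Type v} [Group Q₁] [Group Q₂] {Γ : Type w} [Group Γ]
    (σ : Γ →* Q₁ × Q₂) (hσ : Cfsg.IsStemExtension σ) :
    ∃ π : multSub Q₁ × multSub Q₂ × Multiplicative (AbT Q₁ Q₂) →* σ.ker,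
      Function.Surjective π := by
  classical
  obtain ⟨hσs, hσc, hσd⟩ := hσ
  let _ : CommGroup σ.ker :=
    { (inferInstance : Group σ.ker) with
      mul_comm := fun a b => Subtype.ext (Subgroup.mem_center_iff.mp (hσc b.2) a.1) }
  set Γ₁ : Subgroup Γ := ((MonoidHom.snd Q₁ Q₂).comp σ).ker with hΓ₁
  set Γ₂ : Subgroup Γ := ((MonoidHom.fst Q₁ Q₂).comp σ).ker with hΓ₂
  have hmem₁ : ∀ g : Γ, g ∈ Γ₁ ↔ (σ g).2 = 1 := fun g => Iff.rfl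
  have hmem₂ : ∀ g : Γ, g ∈ Γ₂ ↔ (σ g).1 = 1 := fun g => Iff.rfl
  let σ₁ : Γ₁ →* Q₁ := ((MonoidHom.fst Q₁ Q₂).comp σ).comp Γ₁.subtype
  let σ₂ : Γ₂ →* Q₂ := ((MonoidHom.snd Q₁ Q₂).comp σ).comp Γ₂.subtype
  have hσ₁ : ∀ x : Γ₁, σ₁ x = (σ (x : Γ)).1 := fun x => rfl
  have hσ₂ : ∀ x : Γ₂, σ₂ x = (σ (x : Γ)).2 := fun x => rfl
  have hs₁ : Function.Surjective σ₁ := by
    intro q₁
    obtain ⟨g, hg⟩ := hσs (q₁, 1)
    exact ⟨⟨g, (hmem₁ g).mpr (by rw [hg])⟩, by rw [hσ₁]; show (σ g).1 = q₁; rw [hg]⟩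
  have hs₂ : Function.Surjective σ₂ := by
    intro q₂
    obtain ⟨g, hg⟩ := hσs (1, q₂)
    exact ⟨⟨g, (hmem₂ g).mpr (by rw [hg])⟩, by rw [hσ₂]; show (σ g).2 = q₂; rw [hg]⟩
  have hk₁ : ∀ x : Γ₁, σ₁ x = 1 ↔ (x : Γ) ∈ σ.ker := by
    intro x
    rw [hσ₁, MonoidHom.mem_ker]
    constructor
    · intro h; exact Prod.ext h ((hmem₁ _).mp x.2)
    · intro h; rw [h]; rfl
  have hk₂ : ∀ x : Γ₂, σ₂ x = 1 ↔ (x : Γ) ∈ σ.ker := by
    intro x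
    rw [hσ₂, MonoidHom.mem_ker]
    constructor
    · intro h; exact Prod.ext ((hmem₂ _).mp x.2) h
    · intro h; rw [h]; rfl
  obtain ⟨π₁, hπ₁⟩ := exists_part σ.ker hσc Γ₁ σ₁ hs₁ hk₁
  obtain ⟨π₂, hπ₂⟩ := exists_part σ.ker hσc Γ₂ σ₂ hs₂ hk₂
  obtain ⟨π₃, hπ₃⟩ := exists_pairing σ hσs hσc
  refine ⟨π₁.coprod (π₂.coprod π₃), ?_⟩
  -- the mixed commutator subgroup
  set C : Subgroup Γ := ⁅Γ₁, Γ₂⁆ with hC
  have hCr : C ≤ π₃.range.map σ.ker.subtype := by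
    rw [hC, Subgroup.commutator_le]
    intro g₁ hg₁ g₂ hg₂
    obtain ⟨t, ht⟩ := hπ₃ g₁ g₂ ((hmem₁ g₁).mp hg₁) ((hmem₂ g₂).mp hg₂)
    exact ⟨π₃ t, ⟨t, rfl⟩, ht⟩
  have hCK : C ≤ σ.ker := by
    intro c hc
    obtain ⟨y, _, rfl⟩ := hCr hc
    exact y.2
  have hCn : C.Normal := normal_of_le_center' C (hCK.trans hσc)
  -- the product map
  let mk := QuotientGroup.mk' C
  have hcomm : ∀ (x : Γ₁) (y : Γ₂), Commute ((mk.comp Γ₁.subtype) x) ((mk.comp Γ₂.subtype) y) := by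
    intro x y
    show mk (x : Γ) * mk (y : Γ) = mk (y : Γ) * mk (x : Γ)
    have h1 : (x : Γ) * (y : Γ) = ⁅(x : Γ), (y : Γ)⁆ * ((y : Γ) * (x : Γ)) := by
      rw [commutatorElement_def]; group
    have h2 : mk ⁅(x : Γ), (y : Γ)⁆ = 1 :=
      (QuotientGroup.eq_one_iff _).mpr (Subgroup.commutator_mem_commutator x.2 y.2)
    rw [← map_mul, h1, map_mul, h2, one_mul, map_mul]
  let μ : Γ₁ × Γ₂ →* Γ ⧸ C :=
    MonoidHom.noncommCoprod (mk.comp Γ₁.subtype) (mk.comp Γ₂.subtype) hcomm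
  have hμ : ∀ x : Γ₁ × Γ₂, μ x = mk ((x.1 : Γ) * (x.2 : Γ)) := by
    intro x
    show mk (x.1 : Γ) * mk (x.2 : Γ) = _
    rw [map_mul]
  have hμs : Function.Surjective μ := by
    intro y
    obtain ⟨g, rfl⟩ := QuotientGroup.mk'_surjective C y
    obtain ⟨g₁, hg₁⟩ := hσs ((σ g).1, 1)
    have h1 : g₁ ∈ Γ₁ := (hmem₁ g₁).mpr (by rw [hg₁])
    have h2 : g₁⁻¹ * g ∈ Γ₂ := by
      rw [hmem₂, map_mul, map_inv, hg₁]
      simp
    refine ⟨(⟨g₁, h1⟩, ⟨g₁⁻¹ * g, h2⟩), ?_⟩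
    rw [hμ]
    show mk (g₁ * (g₁⁻¹ * g)) = mk g
    rw [mul_inv_cancel_left]
  have hcommQ : commutator (Γ ⧸ C) = ((commutator Γ₁).prod (commutator Γ₂)).map μ := by
    rw [commutator_def Γ₁, commutator_def Γ₂, ← Subgroup.commutator_prod_prod,
      Subgroup.top_prod_top, Subgroup.map_commutator, ← MonoidHom.range_eq_map,
      MonoidHom.range_eq_top.mpr hμs, commutator_def]
  -- surjectivity
  rintro ⟨k, hk⟩
  have h1 : mk k ∈ commutator (Γ ⧸ C) := map_commutator_le mk ⟨k, hσd hk, rfl⟩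
  rw [hcommQ] at h1
  obtain ⟨⟨d₁, d₂⟩, ⟨hd₁, hd₂⟩, hd⟩ := h1
  rw [hμ] at hd
  have hc : ((d₁ : Γ) * (d₂ : Γ))⁻¹ * k ∈ C := QuotientGroup.eq.mp hd
  set c : Γ := ((d₁ : Γ) * (d₂ : Γ))⁻¹ * k with hcdef
  have hkdec : k = (d₁ : Γ) * ((d₂ : Γ) * c) := by rw [hcdef]; group
  have hσc1 : σ c = 1 := MonoidHom.mem_ker.mp (hCK hc)
  have hprod : σ (d₁ : Γ) * σ (d₂ : Γ) = 1 := by
    have := MonoidHom.mem_ker.mp hk
    rw [hkdec, map_mul, map_mul, hσc1, mul_one] at this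
    exact this
  have hd₁1 : σ₁ d₁ = 1 := by
    rw [hσ₁]
    have := congrArg Prod.fst hprod
    rw [Prod.fst_mul, (hmem₂ _).mp d₂.2, mul_one] at this
    exact this
  have hd₂1 : σ₂ d₂ = 1 := by
    rw [hσ₂]
    have := congrArg Prod.snd hprod
    rw [Prod.snd_mul, (hmem₁ _).mp d₁.2, one_mul] at this
    exact this
  obtain ⟨m₁, hm₁⟩ := hπ₁ d₁ hd₁ hd₁1
  obtain ⟨m₂, hm₂⟩ := hπ₂ d₂ hd₂ hd₂1
  obtain ⟨y, ⟨t, rfl⟩, ht⟩ := hCr hc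
  refine ⟨(m₁, m₂, t), ?_⟩
  apply Subtype.ext
  rw [MonoidHom.coprod_apply, MonoidHom.coprod_apply]
  show ((π₁ m₁ : σ.ker) : Γ) * (((π₂ m₂ : σ.ker) : Γ) * ((π₃ t : σ.ker) : Γ)) = k
  rw [hm₁, hm₂, hkdec]
  congr 2

end Cfsg.Agent.Lib.Helper65
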