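import Mathlib
import Cfsg.Agent.Lib.Helper65.Extend

set_option autoImplicit false

namespace Cfsg.Agent.Lib.Helper65

universe u

open Matrix
open scoped IsMulCommutative

variable (Q : Type u) [Group Q]

/-- roots exist in the centre of `GL n ℂ` -/
theorem center_GL_rootable (n : ℕ) (k : ℕ) (hk : k ≠ 0)
    (d : Subgroup.center (GL (Fin n) ℂ)) : ∃ w : Subgroup.center (GL (Fin n) ℂ), w ^ k = d := by
  obtain ⟨d, hd⟩ := d
  have hd' := hd
  rw [Matrix.GeneralLinearGroup.center_eq_range_scalar] at hd'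
  obtain ⟨c, rfl⟩ := hd'
  obtain ⟨z, hz⟩ := IsAlgClosed.exists_pow_nat_eq (c : ℂ) (Nat.pos_of_ne_zero hk)
  have hz0 : z ≠ 0 := by
    rintro rfl
    rw [zero_pow hk] at hz
    exact c.ne_zero hz.symm
  have hzu : (Units.mk0 z hz0) ^ k = c := by
    apply Units.ext
    simp [hz]
  refine ⟨⟨Matrix.GeneralLinearGroup.scalar (Fin n) (Units.mk0 z hz0), ?_⟩, ?_⟩
  · rw [Matrix.GeneralLinearGroup.center_eq_range_scalar]
    exact ⟨_, rfl⟩
  · apply Subtype.ext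
    show (Matrix.GeneralLinearGroup.scalar (Fin n) (Units.mk0 z hz0)) ^ k = _
    rw [← map_pow, hzu]

/-- Every projective representation of `Q` lifts to a linear representation of `Ê`, which can be
chosen trivial on any prescribed subgroup `T` of `ker (Ê → Q)` meeting `M` trivially. -/
local notation "Z" => Subgroup.center (GL (Fin _) ℂ)

theorem exists_proj_lift (n : ℕ)
    (γ : Q →* (GL (Fin n) ℂ ⧸ Subgroup.center (GL (Fin n) ℂ)))
    (T : Subgroup (Ehat Q)) (hTK : T ≤ (ehatProj Q).ker) (hTM : T ⊓ multSub Q = ⊥) :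
    ∃ ρ1 : Ehat Q →* GL (Fin n) ℂ, T ≤ ρ1.ker ∧
      ∀ e, (QuotientGroup.mk' (Subgroup.center (GL (Fin n) ℂ))) (ρ1 e) = γ (ehatProj Q e) := by
  classical
  set mk := QuotientGroup.mk' (Subgroup.center (GL (Fin n) ℂ)) with hmk
  -- the pull-back
  let EQ : Subgroup (Q × GL (Fin n) ℂ) :=
    (γ.comp (MonoidHom.fst Q (GL (Fin n) ℂ))).eqLocus (mk.comp (MonoidHom.snd Q (GL (Fin n) ℂ)))
  have hEQ : ∀ x : Q × GL (Fin n) ℂ, x ∈ EQ ↔ γ x.1 = mk x.2 := fun x => Iff.rfl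
  let ξ : EQ →* Q := (MonoidHom.fst Q (GL (Fin n) ℂ)).comp EQ.subtype
  have hξs : Function.Surjective ξ := by
    intro q
    obtain ⟨g, hg⟩ := QuotientGroup.mk'_surjective Z (γ q)
    exact ⟨⟨(q, g), (hEQ _).mpr hg.symm⟩, rfl⟩
  have hξc : ξ.ker ≤ Subgroup.center EQ := by
    rintro ⟨⟨q, g⟩, hx⟩ hker
    have hq : q = 1 := hker
    subst hq
    have hg : g ∈ Z := by
      have h1 : γ 1 = mk g := (hEQ _).mp hx
      rw [map_one] at h1
      exact (QuotientGroup.eq_one_iff g).mp h1.symm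
    rw [Subgroup.mem_center_iff]
    rintro ⟨⟨q', g'⟩, hx'⟩
    apply Subtype.ext
    show (q' * 1, g' * g) = (1 * q', g * g')
    rw [mul_one, one_mul, Subgroup.mem_center_iff.mp hg g']
  obtain ⟨ψ, hψ⟩ := exists_lift Q ξ hξs hξc
  let ρ0 : Ehat Q →* GL (Fin n) ℂ :=
    (MonoidHom.snd Q (GL (Fin n) ℂ)).comp (EQ.subtype.comp ψ)
  have hρ0 : ∀ e, mk (ρ0 e) = γ (ehatProj Q e) := by
    intro e
    have h1 : γ (ψ e).1.1 = mk (ψ e).1.2 := (hEQ _).mp (ψ e).2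
    have h2 : (ψ e).1.1 = ehatProj Q e := lift_apply ξ ψ hψ e
    rw [← h2, h1]
    rfl
  -- the character on T
  have hT0 : ∀ t : T, ρ0 (t : Ehat Q) ∈ Z := by
    intro t
    have h1 : mk (ρ0 (t : Ehat Q)) = 1 := by
      rw [hρ0, MonoidHom.mem_ker.mp (hTK t.2), map_one]
    exact (QuotientGroup.eq_one_iff _).mp h1
  let χ0 : T →* Z := (ρ0.comp T.subtype).codRestrict Z hT0
  have hTab : T ⊓ (ehatAbM Q).ker = ⊥ := by
    rw [ehatAbM_ker, eq_bot_iff, ← hTM]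
    intro x hx
    obtain ⟨hx1, hx2⟩ := Subgroup.mem_inf.mp hx
    exact Subgroup.mem_inf.mpr ⟨hx1, Subgroup.mem_inf.mpr ⟨hx2, hTK hx1⟩⟩
  obtain ⟨χ, hχ⟩ := exists_extend_hom (D := Subgroup.center (GL (Fin n) ℂ)) (ehatAbM Q) T hTab
    (center_GL_rootable n) χ0
  have hχc' : ∀ e (g : GL (Fin n) ℂ),
      g * ((χ e : Subgroup.center (GL (Fin n) ℂ)) : GL (Fin n) ℂ)⁻¹ =
        ((χ e : Subgroup.center (GL (Fin n) ℂ)) : GL (Fin n) ℂ)⁻¹ * g :=
    fun e g => Subgroup.mem_center_iff.mp (Subgroup.inv_mem _ (χ e).2) g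
  let ρ1 : Ehat Q →* GL (Fin n) ℂ := MonoidHom.mk'
    (fun e => ρ0 e * ((χ e : Subgroup.center (GL (Fin n) ℂ)) : GL (Fin n) ℂ)⁻¹) (by
    intro a b
    show ρ0 (a * b) * ((χ (a * b) : Subgroup.center (GL (Fin n) ℂ)) : GL (Fin n) ℂ)⁻¹ = _
    rw [map_mul, map_mul, Subgroup.coe_mul, _root_.mul_inv_rev]
    calc ρ0 a * ρ0 b * (((χ b : Subgroup.center (GL (Fin n) ℂ)) : GL (Fin n) ℂ)⁻¹ *
            ((χ a : Subgroup.center (GL (Fin n) ℂ)) : GL (Fin n) ℂ)⁻¹)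
        = ρ0 a * ((ρ0 b * ((χ b : Subgroup.center (GL (Fin n) ℂ)) : GL (Fin n) ℂ)⁻¹) *
            ((χ a : Subgroup.center (GL (Fin n) ℂ)) : GL (Fin n) ℂ)⁻¹) := by
          simp only [mul_assoc]
      _ = ρ0 a * (((χ a : Subgroup.center (GL (Fin n) ℂ)) : GL (Fin n) ℂ)⁻¹ *
            (ρ0 b * ((χ b : Subgroup.center (GL (Fin n) ℂ)) : GL (Fin n) ℂ)⁻¹)) := by
          rw [hχc' a]
      _ = _ := by simp only [mul_assoc])
  have hρ1 : ∀ e, ρ1 e = ρ0 e * ((χ e : Subgroup.center (GL (Fin n) ℂ)) : GL (Fin n) ℂ)⁻¹ :=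
    fun e => rfl
  refine ⟨ρ1, ?_, ?_⟩
  · intro t ht
    rw [MonoidHom.mem_ker, hρ1]
    have h1 := hχ ⟨t, ht⟩
    have h2 : ((χ t : Subgroup.center (GL (Fin n) ℂ)) : GL (Fin n) ℂ) = ρ0 t := by
      rw [show χ t = χ0 ⟨t, ht⟩ from h1]
      rfl
    rw [h2, mul_inv_cancel]
  · intro e
    rw [hρ1, map_mul, map_inv, hρ0]
    have h1 : mk ((χ e : Subgroup.center (GL (Fin n) ℂ)) : GL (Fin n) ℂ) = 1 := (QuotientGroup.eq_one_iff _).mpr (χ e).2
    rw [h1, inv_one, mul_one]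

end Cfsg.Agent.Lib.Helper65
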