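import Cfsg.Agent.Lib.Helper65.PsDrCore
import Cfsg.Agent.Lib.Helper75.PsD

/-! # Ps hive (S4321, route B), leaf psDr (helper65): `psD` for `H = C_G(g)` -/

set_option autoImplicit false

namespace Cfsg.Agent.Lib.Helper12.Ps

open Subgroup Cfsg.Agent.Lib.Helper22.Cg

universe u

/-- PSDr. `psD` for `H = C_G(g)`. -/
theorem psDr {G : Type u} [Group G] [Finite G] (p : ℕ) [Fact p.Prime] (g : G) (P : Sylow p G)
    (hP : ∀ y ∈ P, g * y = y * g)
    (hv : ∀ v : G, g * v = v * g → ¬ p ∣ orderOf v →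
      ∃ P' : Sylow p G, (∀ y ∈ P', g * y = y * g) ∧ (∀ y ∈ P', v * y = y * v)) :
    ∀ w : G, g * w = w * g →
      ∃ y ∈ P, ∃ c : G, g * c = c * g ∧ (∀ y' ∈ P, c * y' = y' * c) ∧ w = c * y :=
  psDr_core p g P (fun PH => psD p PH) hP hv

end Cfsg.Agent.Lib.Helper12.Ps
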