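import Cfsg.Agent.Lib.Helper12.PsDefs

/-! # Ps hive (S4321), leaf psDr (helper65): core, with `psD` for `H = C_G(g)` as a hypothesis -/

set_option autoImplicit false

namespace Cfsg.Agent.Lib.Helper12.Ps

open Subgroup Cfsg.Agent.Lib.Helper22.Cg

universe u

theorem psDr_mem_subtype {G : Type u} [Group G] (p : ℕ) (N : Subgroup G) (P : Sylow p G)
    (h : (P : Subgroup G) ≤ N) (z : ↥N) : z ∈ P.subtype h ↔ (z : G) ∈ P := Iff.rfl

/-- `psDr` with `psD` (for the group `C_G(g)`) as an explicit hypothesis. -/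
theorem psDr_core {G : Type u} [Group G] [Finite G] (p : ℕ) [Fact p.Prime] (g : G) (P : Sylow p G)
    (hD : ∀ (PH : Sylow p ↥(centralizer ({g} : Set G))),
      (∀ v : ↥(centralizer ({g} : Set G)), ¬ p ∣ orderOf v →
        ∃ k : ↥(centralizer ({g} : Set G)), ∀ y ∈ PH, (k * y * k⁻¹) * v = v * (k * y * k⁻¹)) →
      ∀ w : ↥(centralizer ({g} : Set G)), ∃ y ∈ PH, ∃ c : ↥(centralizer ({g} : Set G)),
        (∀ y' ∈ PH, c * y' = y' * c) ∧ w = c * y)
    (hP : ∀ y ∈ P, g * y = y * g)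
    (hv : ∀ v : G, g * v = v * g → ¬ p ∣ orderOf v →
      ∃ P' : Sylow p G, (∀ y ∈ P', g * y = y * g) ∧ (∀ y ∈ P', v * y = y * v)) :
    ∀ w : G, g * w = w * g →
      ∃ y ∈ P, ∃ c : G, g * c = c * g ∧ (∀ y' ∈ P, c * y' = y' * c) ∧ w = c * y := by
  intro w hw
  have hPH : (P : Subgroup G) ≤ centralizer ({g} : Set G) :=
    fun y hy => mem_centralizer_singleton_iff.2 (hP y hy).symm
  have hwH : w ∈ centralizer ({g} : Set G) := mem_centralizer_singleton_iff.2 hw.symm
  have key := hD (P.subtype hPH) ?_ ⟨w, hwH⟩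
  · obtain ⟨y, hy, c, hc, hwc⟩ := key
    refine ⟨(y : G), (psDr_mem_subtype p _ P hPH y).1 hy, (c : G), ?_, ?_, ?_⟩
    · exact (mem_centralizer_singleton_iff.1 c.2).symm
    · intro y' hy'
      have := hc ⟨y', hPH hy'⟩ ((psDr_mem_subtype p _ P hPH ⟨y', hPH hy'⟩).2 hy')
      exact congrArg Subtype.val this
    · exact congrArg Subtype.val hwc
  · intro v hvo
    have hvg : g * (v : G) = (v : G) * g := (mem_centralizer_singleton_iff.1 v.2).symm
    have hvo' : ¬ p ∣ orderOf (v : G) := by rwa [Subgroup.orderOf_coe]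
    obtain ⟨P', hP'g, hP'v⟩ := hv (v : G) hvg hvo'
    have hP'H : (P' : Subgroup G) ≤ centralizer ({g} : Set G) :=
      fun y hy => mem_centralizer_singleton_iff.2 (hP'g y hy).symm
    obtain ⟨k, hk⟩ := MulAction.exists_smul_eq ↥(centralizer ({g} : Set G)) (P.subtype hPH) (P'.subtype hP'H)
    refine ⟨k, fun y hy => ?_⟩
    have h1 : k * y * k⁻¹ ∈ P'.subtype hP'H := by
      rw [← hk, Sylow.smul_def]
      have h0 := Subgroup.smul_mem_pointwise_smul y (MulAut.conj k) ((P.subtype hPH : Sylow p _) : Subgroup _) hy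
      have e : MulAut.conj k • y = k * y * k⁻¹ := by simp [MulAut.smul_def]
      rw [e] at h0
      exact h0
    have h2 : ((k * y * k⁻¹ : ↥(centralizer ({g} : Set G))) : G) ∈ P' :=
      (psDr_mem_subtype p _ P' hP'H _).1 h1
    have h3 := hP'v _ h2
    apply Subtype.ext
    exact h3.symm

end Cfsg.Agent.Lib.Helper12.Ps
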