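import Mathlib
import Cfsg.Prelude.Def_KGroupFacts

set_option autoImplicit false

namespace Cfsg.Agent.Lib.Helper65

universe u v w

/-- Pulling back a stem extension `τ : T → A` along a surjection `f : G → A` whose kernel has
order prime to that of `τ.ker` gives a stem extension of `G` with the same kernel. -/
theorem exists_pullback_stem {A : Type w} {G : Type u} {T : Type v} [Group A] [Group G] [Group T]
    [Finite G] [Finite T] (τ : T →* A) (hτ : Cfsg.IsStemExtension τ) (f : G →* A)
    (hf : Function.Surjective f) (hcop : Nat.Coprime (Nat.card f.ker) (Nat.card τ.ker)) :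
    ∃ (Γ : Type (max u v)) (_ : Group Γ) (_ : Finite Γ) (σ : Γ →* G),
      Cfsg.IsStemExtension σ ∧ Nonempty (σ.ker ≃* τ.ker) := by
  obtain ⟨hτs, hτc, hτd⟩ := hτ
  let Γ : Subgroup (T × G) :=
    (τ.comp (MonoidHom.fst T G)).eqLocus (f.comp (MonoidHom.snd T G))
  have hΓ : ∀ x : Γ, τ x.1.1 = f x.1.2 := fun x => x.2
  let σ : Γ →* G := (MonoidHom.snd T G).comp Γ.subtype
  let pT : Γ →* T := (MonoidHom.fst T G).comp Γ.subtype
  have hσs : Function.Surjective σ := by
    intro g
    obtain ⟨t, ht⟩ := hτs (f g)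
    exact ⟨⟨(t, g), ht⟩, rfl⟩
  have hpTs : Function.Surjective pT := by
    intro t
    obtain ⟨g, hg⟩ := hf (τ t)
    exact ⟨⟨(t, g), hg.symm⟩, rfl⟩
  have hker1 : ∀ x : Γ, x ∈ σ.ker → x.1.1 ∈ τ.ker := by
    intro x hx
    have h2 : x.1.2 = 1 := hx
    rw [MonoidHom.mem_ker, hΓ x, h2, map_one]
  have hker2 : ∀ x : Γ, x ∈ σ.ker → x.1.2 = 1 := fun x hx => hx
  -- the isomorphism of kernels
  let φ : σ.ker →* τ.ker :=
    { toFun := fun x => ⟨x.1.1.1, hker1 x.1 x.2⟩
      map_one' := rfl
      map_mul' := fun _ _ => rfl }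
  have hφ : Function.Bijective φ := by
    constructor
    · intro x y hxy
      have h1 : x.1.1.1 = y.1.1.1 := congrArg Subtype.val hxy
      apply Subtype.ext
      apply Subtype.ext
      exact Prod.ext h1 ((hker2 x.1 x.2).trans (hker2 y.1 y.2).symm)
    · intro k
      have hk : τ k.1 = f 1 := by rw [map_one]; exact k.2
      exact ⟨⟨⟨(k.1, 1), hk⟩, rfl⟩, rfl⟩
  refine ⟨Γ, inferInstance, inferInstance, σ, ⟨hσs, ?_, ?_⟩, ⟨MulEquiv.ofBijective φ hφ⟩⟩
  · intro x hx
    rw [Subgroup.mem_center_iff]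
    intro y
    apply Subtype.ext
    have hc := Subgroup.mem_center_iff.1 (hτc (hker1 x hx)) y.1.1
    refine Prod.ext hc ?_
    show y.1.2 * x.1.2 = x.1.2 * y.1.2
    rw [hker2 x hx, mul_one, one_mul]
  · intro x hx
    have hk : x.1.1 ∈ τ.ker := hker1 x hx
    -- roots in the kernel
    obtain ⟨k, hk'⟩ := (powCoprime hcop.symm).surjective ⟨x.1.1, hk⟩
    have hkpow : k.1 ^ Nat.card f.ker = x.1.1 := by
      have := congrArg Subtype.val hk'
      simpa using this
    -- lift `k` to the commutator subgroup of `Γ`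
    have hmap : (commutator Γ).map pT = commutator T := by
      rw [commutator_def, Subgroup.map_commutator, ← MonoidHom.range_eq_map,
        MonoidHom.range_eq_top.2 hpTs, commutator_def]
    have hkc : k.1 ∈ (commutator Γ).map pT := by
      rw [hmap]; exact hτd k.2
    obtain ⟨γ, hγc, hγk⟩ := hkc
    have hγ2 : γ.1.2 ∈ f.ker := by
      rw [MonoidHom.mem_ker, ← hΓ γ]
      have : γ.1.1 = k.1 := hγk
      rw [this]
      exact k.2
    have hγpow : γ.1.2 ^ Nat.card f.ker = 1 := by
      have := pow_card_eq_one' (G := f.ker) (x := ⟨γ.1.2, hγ2⟩)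
      exact congrArg Subtype.val this
    have hx_eq : x = γ ^ Nat.card f.ker := by
      apply Subtype.ext
      refine Prod.ext ?_ ?_
      · show x.1.1 = (γ.1.1) ^ Nat.card f.ker
        have : γ.1.1 = k.1 := hγk
        rw [this, hkpow]
      · show x.1.2 = (γ.1.2) ^ Nat.card f.ker
        rw [hγpow, hker2 x hx]
    rw [hx_eq]
    exact pow_mem hγc _

end Cfsg.Agent.Lib.Helper65
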