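import Mathlib
import Cfsg.Agent.Lib.Helper81.Q4Defs

/-! # S6002 hive, leaf Q4-A2E (helper65): the non-scalar involutions of `R` are `± e i`.

Proof without counting: if `g` commutes with some `e i`, `minus` gives `g e i` scalar, i.e. `g = ± e i`.
Otherwise `g` anticommutes with all five `e i`, hence with `ω = e 0 e 1 e 2 e 3 e 4`; but `ω` is an
involution of `R` commuting with `e 0` and `e 1`, so by `minus` it is scalar (else `ω = ± e 0 = ± e 1`),
and a scalar cannot anticommute with the invertible `g`. -/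

set_option autoImplicit false
set_option linter.unusedSimpArgs false

namespace Cfsg.Agent.Lib.Helper81.Q4

open Matrix

variable {F : Type*} [Field F]

theorem a2e_smul_one_eq_zero (c : F) (h : c • (1 : Matrix I4 I4 F) = 0) : c = 0 := by
  have := congrFun (congrFun h (Sum.inl 0)) (Sum.inl 0)
  simpa using this

/-- `k • M = -(k • M)` with `M² = 1` and `2 ≠ 0` forces `k = 0`. -/
theorem a2e_smul_eq_neg (h2 : (2 : F) ≠ 0) (k : F) (M : Matrix I4 I4 F) (hM : M * M = 1)
    (h : k • M = -(k • M)) : k = 0 := by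
  have h1 : (2 * k) • M = 0 := by
    rw [two_mul, add_smul]
    nth_rewrite 1 [h]
    exact neg_add_cancel _
  have h3 : (2 * k) • (1 : Matrix I4 I4 F) = 0 := by
    rw [← hM, ← Matrix.smul_mul, h1, Matrix.zero_mul]
  have := a2e_smul_one_eq_zero _ h3
  rcases mul_eq_zero.1 this with h4 | h4
  · exact absurd h4 h2
  · exact h4

/-- two anticommuting involutions: neither is a scalar multiple of the other -/
theorem a2e_not_smul (h2 : (2 : F) ≠ 0) (A B : Matrix I4 I4 F) (hA : A * A = 1) (hB : B * B = 1)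
    (hAB : A * B = -(B * A)) (k : F) (h : A = k • B) : False := by
  have h1 : A * B = k • (1 : Matrix I4 I4 F) := by rw [h, Matrix.smul_mul, hB]
  have h2' : B * A = k • (1 : Matrix I4 I4 F) := by rw [h, Matrix.mul_smul, hB]
  rw [h1, h2'] at hAB
  have hk := a2e_smul_eq_neg h2 k 1 (Matrix.one_mul 1) hAB
  rw [hk, zero_smul] at h
  rw [h, Matrix.zero_mul] at hA
  have := congrFun (congrFun hA (Sum.inl 0)) (Sum.inl 0)
  simp at this

variable [Fintype F]

/-- Q4-A2E.  The non-scalar involutions of `R` are exactly `± e i`. -/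
theorem a2e_involution_eq_frame_h65 (h2 : (2 : F) ≠ 0) (R : Subgroup (GL I4 F)) (hR : MinusLike R)
    (e : Fin 5 → GL I4 F) (he : Frame R e) (g : GL I4 F) (hg : g ∈ R)
    (hsq : (g : Matrix I4 I4 F) * (g : Matrix I4 I4 F) = 1) (hns : ¬ IsScalar g) :
    ∃ i, (g : Matrix I4 I4 F) = ((e i : GL I4 F) : Matrix I4 I4 F) ∨
      (g : Matrix I4 I4 F) = -((e i : GL I4 F) : Matrix I4 I4 F) := by
  classical
  -- `e i` is never scalar
  have hens : ∀ i, ¬ IsScalar (e i) := by
    intro i ⟨c, hc⟩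
    obtain ⟨j, hj⟩ : ∃ j : Fin 5, i ≠ j := by
      by_cases h0 : i = 0
      · exact ⟨1, by rw [h0]; decide⟩
      · exact ⟨0, h0⟩
    refine a2e_not_smul h2 _ _ (he.sq i) (he.sq j) (he.anti i j hj) 0 ?_
    have hanti := he.anti i j hj
    rw [hc, Matrix.smul_mul, Matrix.one_mul, Matrix.mul_smul, Matrix.mul_one] at hanti
    have hk := a2e_smul_eq_neg h2 c _ (he.sq j) hanti
    rw [hc, hk, zero_smul, zero_smul]
  by_cases hc : ∃ i, (g : Matrix I4 I4 F) * ((e i : GL I4 F) : Matrix I4 I4 F) =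
      ((e i : GL I4 F) : Matrix I4 I4 F) * (g : Matrix I4 I4 F)
  · obtain ⟨i, hi⟩ := hc
    rcases hR.minus g hg (e i) (he.mem i) hsq (he.sq i) hi with h | h | ⟨c, hcs⟩
    · exact absurd h hns
    · exact absurd h (hens i)
    · rw [Units.val_mul] at hcs
      have hG : (g : Matrix I4 I4 F) = c • ((e i : GL I4 F) : Matrix I4 I4 F) := by
        calc (g : Matrix I4 I4 F)
            = (g : Matrix I4 I4 F) * (((e i : GL I4 F) : Matrix I4 I4 F) * ((e i : GL I4 F) : Matrix I4 I4 F)) := by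
              rw [he.sq i, Matrix.mul_one]
          _ = c • ((e i : GL I4 F) : Matrix I4 I4 F) := by
              rw [← Matrix.mul_assoc, hcs, Matrix.smul_mul, Matrix.one_mul]
      have hcc := hR.scal (g * e i) (R.mul_mem hg (he.mem i)) c (by rw [Units.val_mul]; exact hcs)
      refine ⟨i, ?_⟩
      rcases hcc with h1 | h1
      · left; rw [hG, h1, one_smul]
      · right; rw [hG, h1, neg_smul, one_smul]
  · exfalso
    push Not at hc
    have hGa : ∀ i, (g : Matrix I4 I4 F) * ((e i : GL I4 F) : Matrix I4 I4 F) =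
        -(((e i : GL I4 F) : Matrix I4 I4 F) * (g : Matrix I4 I4 F)) := by
      intro i
      rcases hR.anti g hg (e i) (he.mem i) with h | h
      · exact absurd h (hc i)
      · exact h
    -- abbreviations
    obtain ⟨G, hGdef⟩ : ∃ G : Matrix I4 I4 F, G = (g : Matrix I4 I4 F) := ⟨_, rfl⟩
    obtain ⟨E0, hE0⟩ : ∃ E : Matrix I4 I4 F, E = ((e 0 : GL I4 F) : Matrix I4 I4 F) := ⟨_, rfl⟩
    obtain ⟨E1, hE1⟩ : ∃ E : Matrix I4 I4 F, E = ((e 1 : GL I4 F) : Matrix I4 I4 F) := ⟨_, rfl⟩
    obtain ⟨E2, hE2⟩ : ∃ E : Matrix I4 I4 F, E = ((e 2 : GL I4 F) : Matrix I4 I4 F) := ⟨_, rfl⟩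
    obtain ⟨E3, hE3⟩ : ∃ E : Matrix I4 I4 F, E = ((e 3 : GL I4 F) : Matrix I4 I4 F) := ⟨_, rfl⟩
    obtain ⟨E4, hE4⟩ : ∃ E : Matrix I4 I4 F, E = ((e 4 : GL I4 F) : Matrix I4 I4 F) := ⟨_, rfl⟩
    have s0 : E0 * E0 = 1 := by rw [hE0]; exact he.sq 0
    have s1 : E1 * E1 = 1 := by rw [hE1]; exact he.sq 1
    have s2 : E2 * E2 = 1 := by rw [hE2]; exact he.sq 2
    have s3 : E3 * E3 = 1 := by rw [hE3]; exact he.sq 3
    have s4 : E4 * E4 = 1 := by rw [hE4]; exact he.sq 4
    have a10 : E1 * E0 = -(E0 * E1) := by rw [hE0, hE1]; exact he.anti 1 0 (by decide)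
    have a20 : E2 * E0 = -(E0 * E2) := by rw [hE0, hE2]; exact he.anti 2 0 (by decide)
    have a30 : E3 * E0 = -(E0 * E3) := by rw [hE0, hE3]; exact he.anti 3 0 (by decide)
    have a40 : E4 * E0 = -(E0 * E4) := by rw [hE0, hE4]; exact he.anti 4 0 (by decide)
    have a21 : E2 * E1 = -(E1 * E2) := by rw [hE1, hE2]; exact he.anti 2 1 (by decide)
    have a31 : E3 * E1 = -(E1 * E3) := by rw [hE1, hE3]; exact he.anti 3 1 (by decide)
    have a41 : E4 * E1 = -(E1 * E4) := by rw [hE1, hE4]; exact he.anti 4 1 (by decide)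
    have a32 : E3 * E2 = -(E2 * E3) := by rw [hE2, hE3]; exact he.anti 3 2 (by decide)
    have a42 : E4 * E2 = -(E2 * E4) := by rw [hE2, hE4]; exact he.anti 4 2 (by decide)
    have a43 : E4 * E3 = -(E3 * E4) := by rw [hE3, hE4]; exact he.anti 4 3 (by decide)
    have g0 : G * E0 = -(E0 * G) := by rw [hGdef, hE0]; exact hGa 0
    have g1 : G * E1 = -(E1 * G) := by rw [hGdef, hE1]; exact hGa 1
    have g2 : G * E2 = -(E2 * G) := by rw [hGdef, hE2]; exact hGa 2
    have g3 : G * E3 = -(E3 * G) := by rw [hGdef, hE3]; exact hGa 3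
    have g4 : G * E4 = -(E4 * G) := by rw [hGdef, hE4]; exact hGa 4
    -- associated forms
    have asc : ∀ {A B : Matrix I4 I4 F}, A * B = -(B * A) → ∀ X : Matrix I4 I4 F,
        A * (B * X) = -(B * (A * X)) := by
      intro A B h X
      rw [← Matrix.mul_assoc, h, Matrix.neg_mul, Matrix.mul_assoc]
    have ssc : ∀ {A : Matrix I4 I4 F}, A * A = 1 → ∀ X : Matrix I4 I4 F, A * (A * X) = X := by
      intro A h X
      rw [← Matrix.mul_assoc, h, Matrix.one_mul]
    obtain ⟨W, hWdef⟩ : ∃ W : Matrix I4 I4 F, W = E0 * (E1 * (E2 * (E3 * E4))) := ⟨_, rfl⟩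
    have hWval : ((e 0 * e 1 * e 2 * e 3 * e 4 : GL I4 F) : Matrix I4 I4 F) = W := by
      rw [hWdef, hE0, hE1, hE2, hE3, hE4]
      simp only [Units.val_mul, Matrix.mul_assoc]
    have hwR : e 0 * e 1 * e 2 * e 3 * e 4 ∈ R :=
      R.mul_mem (R.mul_mem (R.mul_mem (R.mul_mem (he.mem 0) (he.mem 1)) (he.mem 2)) (he.mem 3))
        (he.mem 4)
    have hWsq : W * W = 1 := by
      rw [hWdef]
      simp only [Matrix.mul_assoc, asc a10, asc a20, asc a30, asc a40, asc a21, asc a31, asc a41,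
        asc a32, asc a42, asc a43, a10, a20, a30, a40, a21, a31, a41, a32, a42, a43,
        ssc s0, ssc s1, ssc s2, ssc s3, ssc s4, s0, s1, s2, s3, s4,
        Matrix.mul_neg, Matrix.neg_mul, neg_neg, Matrix.mul_one]
    have hW0 : W * E0 = E0 * W := by
      rw [hWdef]
      simp only [Matrix.mul_assoc, asc a10, asc a20, asc a30, asc a40, asc a21, asc a31, asc a41,
        asc a32, asc a42, asc a43, a10, a20, a30, a40, a21, a31, a41, a32, a42, a43,
        ssc s0, ssc s1, ssc s2, ssc s3, ssc s4, s0, s1, s2, s3, s4,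
        Matrix.mul_neg, Matrix.neg_mul, neg_neg, Matrix.mul_one]
    have hW1 : W * E1 = E1 * W := by
      rw [hWdef]
      simp only [Matrix.mul_assoc, asc a10, asc a20, asc a30, asc a40, asc a21, asc a31, asc a41,
        asc a32, asc a42, asc a43, a10, a20, a30, a40, a21, a31, a41, a32, a42, a43,
        ssc s0, ssc s1, ssc s2, ssc s3, ssc s4, s0, s1, s2, s3, s4,
        Matrix.mul_neg, Matrix.neg_mul, neg_neg, Matrix.mul_one]
    have hGW : G * W = -(W * G) := by
      rw [hWdef]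
      simp only [Matrix.mul_assoc, asc g0, asc g1, asc g2, asc g3, g4,
        Matrix.mul_neg, Matrix.neg_mul, neg_neg]
    -- `W` is scalar
    have hWs : ∃ c : F, W = c • (1 : Matrix I4 I4 F) := by
      by_contra hWns
      have hwns : ¬ IsScalar (e 0 * e 1 * e 2 * e 3 * e 4) := by
        intro ⟨c, hc'⟩
        exact hWns ⟨c, by rw [← hWval]; exact hc'⟩
      have key : ∀ i : Fin 5, (W * ((e i : GL I4 F) : Matrix I4 I4 F) =
          ((e i : GL I4 F) : Matrix I4 I4 F) * W) →
          ∃ c : F, W = c • ((e i : GL I4 F) : Matrix I4 I4 F) := by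
        intro i hi
        rcases hR.minus _ hwR (e i) (he.mem i) (by rw [hWval]; exact hWsq) (he.sq i)
          (by rw [hWval]; exact hi) with h | h | ⟨c, hcs⟩
        · exact absurd h hwns
        · exact absurd h (hens i)
        · refine ⟨c, ?_⟩
          rw [Units.val_mul, hWval] at hcs
          calc W = W * (((e i : GL I4 F) : Matrix I4 I4 F) * ((e i : GL I4 F) : Matrix I4 I4 F)) := by
                rw [he.sq i, Matrix.mul_one]
            _ = c • ((e i : GL I4 F) : Matrix I4 I4 F) := by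
                rw [← Matrix.mul_assoc, hcs, Matrix.smul_mul, Matrix.one_mul]
      obtain ⟨c0, hc0⟩ := key 0 (by rw [← hE0]; exact hW0)
      obtain ⟨c1, hc1⟩ := key 1 (by rw [← hE1]; exact hW1)
      rw [← hE0] at hc0
      rw [← hE1] at hc1
      have hc0ne : c0 ≠ 0 := by
        intro h
        rw [hc0, h, zero_smul, Matrix.zero_mul] at hWsq
        have := congrFun (congrFun hWsq (Sum.inl 0)) (Sum.inl 0)
        simp at this
      have hE01 : E0 = (c0⁻¹ * c1) • E1 := by
        have : c0 • E0 = c1 • E1 := by rw [← hc0, ← hc1]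
        calc E0 = c0⁻¹ • (c0 • E0) := by rw [smul_smul, inv_mul_cancel₀ hc0ne, one_smul]
          _ = (c0⁻¹ * c1) • E1 := by rw [this, smul_smul]
      have a01 : E0 * E1 = -(E1 * E0) := by rw [a10, neg_neg]
      exact a2e_not_smul h2 E0 E1 s0 s1 a01 _ hE01
    obtain ⟨c, hcW⟩ := hWs
    rw [hcW, Matrix.mul_smul, Matrix.mul_one, Matrix.smul_mul, Matrix.one_mul] at hGW
    have hGsq : G * G = 1 := by rw [hGdef]; exact hsq
    have hc0 := a2e_smul_eq_neg h2 c G hGsq hGW
    rw [hcW, hc0, zero_smul, Matrix.zero_mul] at hWsq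
    have := congrFun (congrFun hWsq (Sum.inl 0)) (Sum.inl 0)
    simp at this

end Cfsg.Agent.Lib.Helper81.Q4
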