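import Mathlib

/-! # Qe hive (S5988, helper65): the pure arithmetic of the semisimple case -/

set_option autoImplicit false

namespace Cfsg.Agent.Lib.Helper65.Qe

/-- numeric RHS for `r` odd in decomposed form: `n = n' c + k`, `m = m' c + ℓ` -/
def RhsD (iodd : Prop) (n' k m' ℓ : ℕ) : Prop :=
  (iodd ∧ 1 ≤ m' ∧ 0 < ℓ ∧ ℓ < k) ∨
  (¬ iodd ∧ ((k = 0 ∧ (Odd n' ∨ (ℓ = 0 ∧ Odd m'))) ∨
     (1 ≤ m' ∧ ((0 < ℓ ∧ ℓ < k) ∨ (0 < ℓ ∧ ℓ = k ∧ Odd (n' + m')) ∨
       (ℓ = 0 ∧ 0 < k ∧ Odd m')))))

/-- the modes -/
def ModeD (iodd : Prop) (c s E' k m' ℓ j : ℕ) : Prop :=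
  (0 < (m' - j) * c + ℓ ∧ (m' - j) * c + ℓ < E' * c + k) ∨
  ((m' - j) * c + ℓ = 0 ∧ ¬ (iodd ∨ Even j)) ∨
  ((m' - j) * c + ℓ = E' * c + k ∧ ¬ ((iodd ∨ Even s) ↔ (iodd ∨ Even j)))

theorem arith_free_s (c s E' k m' ℓ : ℕ) (hsm : s ≤ m') (hpos : 0 < (m' - s) * c + ℓ)
    (hmn : 2 * (m' * c + ℓ) < (E' + s) * c + k) (iodd : Prop) :
    ModeD iodd c s E' k m' ℓ s := by
  left
  refine ⟨hpos, ?_⟩
  rw [Nat.sub_mul]
  rw [Nat.add_mul] at hmn
  have h1 : s * c ≤ m' * c := Nat.mul_le_mul_right c hsm
  omega

theorem arith_core (iodd : Prop) (c s E' k m' ℓ : ℕ) (hc0 : 0 < c) (hk : k < c) (hℓ : ℓ < c)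
    (hm2 : 2 ≤ m' * c + ℓ) (hmn : 2 * (m' * c + ℓ) < (E' + s) * c + k)
    (hadm : E' * c + k = 0 → (iodd ∨ Even s))
    (hR : RhsD iodd (E' + s) k m' ℓ) :
    ∃ j, j ≤ m' ∧ j ≤ s ∧ ModeD iodd c s E' k m' ℓ j := by
  have hEc : ∀ t, t ≤ E' → t * c ≤ E' * c := fun t ht => Nat.mul_le_mul_right c ht
  rcases hR with ⟨hio, hm1, hl0, hlk⟩ | ⟨hio, hR⟩
  · -- `i` odd
    rcases Nat.le_total s m' with hsm | hms
    · exact ⟨s, hsm, le_rfl, arith_free_s c s E' k m' ℓ hsm (by omega) hmn iodd⟩
    · refine ⟨m', le_rfl, hms, Or.inl ?_⟩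
      rw [Nat.sub_self, zero_mul, zero_add]
      exact ⟨hl0, by omega⟩
  · -- `i` even
    have key_odd_m' : ℓ = 0 → Odd m' → ∃ j, j ≤ m' ∧ j ≤ s ∧ ModeD iodd c s E' k m' ℓ j := by
      intro hl hm'
      rcases Nat.lt_or_ge s m' with hsm | hms
      · refine ⟨s, hsm.le, le_rfl, arith_free_s c s E' k m' ℓ hsm.le ?_ hmn iodd⟩
        have : 1 ≤ m' - s := by omega
        have := Nat.mul_le_mul_right c this
        omega
      · refine ⟨m', le_rfl, hms, Or.inr (Or.inl ⟨?_, ?_⟩)⟩
        · rw [Nat.sub_self, zero_mul, zero_add, hl]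
        · rintro (h | h)
          · exact hio h
          · exact (Nat.not_even_iff_odd.2 hm') h
    rcases hR with ⟨hk0, hR⟩ | ⟨hm1, hR⟩
    · rcases hR with hn' | ⟨hl, hm'⟩
      · -- `k = 0`, `n'` odd
        have hE1 : 1 ≤ E' := by
          by_contra hE
          have hE0 : E' = 0 := by omega
          have := hadm (by rw [hE0, hk0]; simp)
          rcases this with h | h
          · exact hio h
          · rw [hE0, zero_add] at hn'
            exact (Nat.not_even_iff_odd.2 hn') h
        have hEc1 : c ≤ E' * c := by simpa using hEc 1 hE1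
        by_cases hl : ℓ = 0
        · -- `ℓ = 0`
          have hm1 : 1 ≤ m' := by
            by_contra h
            have : m' = 0 := by omega
            rw [this, zero_mul] at hm2
            omega
          rcases Nat.even_or_odd m' with hm'e | hm'o
          · rcases Nat.lt_or_ge s m' with hsm | hms
            · refine ⟨s, hsm.le, le_rfl, arith_free_s c s E' k m' ℓ hsm.le ?_ hmn iodd⟩
              have : 1 ≤ m' - s := by omega
              have := Nat.mul_le_mul_right c this
              omega
            · -- `j = m' - 1`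
              have hm2' : 2 ≤ m' := by
                rcases hm'e with ⟨t, ht⟩
                omega
              have hsub : m' - (m' - 1) = 1 := by omega
              refine ⟨m' - 1, by omega, by omega, ?_⟩
              unfold ModeD
              rw [hsub, one_mul, hl, add_zero, hk0, add_zero]
              by_cases hE2 : 2 ≤ E'
              · left
                have := hEc 2 hE2
                exact ⟨hc0, by omega⟩
              · right; right
                have hE1' : E' = 1 := by omega
                refine ⟨by rw [hE1', one_mul], ?_⟩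
                have hs_even : Even s := by
                  rw [hE1'] at hn'
                  rcases hn' with ⟨t, ht⟩
                  exact ⟨t, by omega⟩
                have hj_odd : ¬ Even (m' - 1) := by
                  rw [Nat.not_even_iff_odd]
                  rcases hm'e with ⟨t, ht⟩
                  exact ⟨t - 1, by omega⟩
                intro hiff
                rcases hiff.1 (Or.inr hs_even) with h | h
                · exact hio h
                · exact hj_odd h
          · exact key_odd_m' hl hm'o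
        · -- `ℓ > 0`
          rcases Nat.le_total s m' with hsm | hms
          · exact ⟨s, hsm, le_rfl, arith_free_s c s E' k m' ℓ hsm (by omega) hmn iodd⟩
          · refine ⟨m', le_rfl, hms, Or.inl ?_⟩
            rw [Nat.sub_self, zero_mul, zero_add]
            exact ⟨by omega, by omega⟩
      · exact key_odd_m' hl hm'
    · rcases hR with ⟨hl0, hlk⟩ | ⟨hl0, hlk, hpar⟩ | ⟨hl, hk0, hm'⟩
      · rcases Nat.le_total s m' with hsm | hms
        · exact ⟨s, hsm, le_rfl, arith_free_s c s E' k m' ℓ hsm (by omega) hmn iodd⟩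
        · refine ⟨m', le_rfl, hms, Or.inl ?_⟩
          rw [Nat.sub_self, zero_mul, zero_add]
          exact ⟨hl0, by omega⟩
      · rcases Nat.le_total s m' with hsm | hms
        · exact ⟨s, hsm, le_rfl, arith_free_s c s E' k m' ℓ hsm (by omega) hmn iodd⟩
        · refine ⟨m', le_rfl, hms, ?_⟩
          unfold ModeD
          rw [Nat.sub_self, zero_mul, zero_add]
          by_cases hE1 : 1 ≤ E'
          · left
            have := hEc 1 hE1
            exact ⟨hl0, by omega⟩
          · right; right
            have hE0 : E' = 0 := by omega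
            refine ⟨by rw [hE0, zero_mul, zero_add, hlk], ?_⟩
            rw [hE0, zero_add] at hpar
            intro hiff
            have h1 : Even s ↔ Even m' := by
              constructor
              · intro h
                rcases hiff.1 (Or.inr h) with h' | h'
                · exact absurd h' hio
                · exact h'
              · intro h
                rcases hiff.2 (Or.inr h) with h' | h'
                · exact absurd h' hio
                · exact h'
            rcases Nat.even_or_odd s with hs | hs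
            · have := h1.1 hs
              have h3 : Even (s + m') := hs.add this
              exact (Nat.not_even_iff_odd.2 hpar) h3
            · have hm'o : Odd m' := by
                rw [← Nat.not_even_iff_odd]
                intro h
                exact (Nat.not_even_iff_odd.2 hs) (h1.2 h)
              have h3 : Even (s + m') := hs.add_odd hm'o
              exact (Nat.not_even_iff_odd.2 hpar) h3
      · exact key_odd_m' hl hm'

/-- the frozen numeric RHS for `r` odd, `n = 2d` -/
def RhsS (i c n m : ℕ) : Prop :=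
  (Odd i ∧ c ≤ m ∧ 0 < m % c ∧ m % c < n % c) ∨
  (Even i ∧ ((n % c = 0 ∧ (Odd (n / i) ∨ (m % c = 0 ∧ Odd (m / i)))) ∨
     (i ≤ m ∧ ((0 < m % c ∧ m % c < n % c) ∨
       (0 < m % c ∧ m % c = n % c ∧ Odd ((n + m - 2 * (n % c)) / i)) ∨
       (m % c = 0 ∧ 0 < n % c ∧ Odd (m / i))))))

theorem arith_div_sum (c n m : ℕ) (hc0 : 0 < c) (h : m % c = n % c) :
    (n + m - 2 * (n % c)) / c = n / c + m / c := by
  have h1 := Nat.div_add_mod n c
  have h2 := Nat.div_add_mod m c
  have h3 : n + m - 2 * (n % c) = (n / c + m / c) * c := by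
    rw [Nat.add_mul, Nat.mul_comm (n / c) c, Nat.mul_comm (m / c) c]
    omega
  rw [h3, Nat.mul_div_cancel _ hc0]

theorem rhsS_iff_rhsD (i c n m : ℕ) (hc0 : 0 < c) (hc : c = if Even i then i else 2 * i) :
    RhsS i c n m ↔ RhsD (Odd i) (n / c) (n % c) (m / c) (m % c) := by
  have hle : 1 ≤ m / c ↔ c ≤ m := Nat.one_le_div_iff hc0
  unfold RhsS RhsD
  rcases Nat.even_or_odd i with hie | hio
  · have hci : c = i := by rw [hc, if_pos hie]
    have hno : ¬ Odd i := Nat.not_odd_iff_even.2 hie
    subst hci
    constructor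
    · rintro (⟨h, -⟩ | ⟨-, h⟩)
      · exact absurd h hno
      · right
        refine ⟨hno, ?_⟩
        rcases h with h | ⟨hm, h⟩
        · exact Or.inl h
        · right
          refine ⟨hle.2 hm, ?_⟩
          rcases h with h | ⟨h1, h2, h3⟩ | h
          · exact Or.inl h
          · right; left
            rw [arith_div_sum c n m hc0 h2] at h3
            exact ⟨h1, h2, h3⟩
          · exact Or.inr (Or.inr h)
    · rintro (⟨h, -⟩ | ⟨-, h⟩)
      · exact absurd h hno
      · right
        refine ⟨hie, ?_⟩
        rcases h with h | ⟨hm, h⟩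
        · exact Or.inl h
        · right
          refine ⟨hle.1 hm, ?_⟩
          rcases h with h | ⟨h1, h2, h3⟩ | h
          · exact Or.inl h
          · right; left
            rw [arith_div_sum c n m hc0 h2]
            exact ⟨h1, h2, h3⟩
          · exact Or.inr (Or.inr h)
  · have hne : ¬ Even i := Nat.not_even_iff_odd.2 hio
    constructor
    · rintro (⟨-, h1, h2, h3⟩ | ⟨h, -⟩)
      · exact Or.inl ⟨hio, hle.2 h1, h2, h3⟩
      · exact absurd h hne
    · rintro (⟨-, h1, h2, h3⟩ | ⟨h, -⟩)
      · exact Or.inl ⟨hio, hle.1 h1, h2, h3⟩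
      · exact absurd hio h

/-- necessity: the numeric conditions read off the worst element give `RhsD` -/
theorem rhsD_of_nec (iodd : Prop) (n' k m' ℓ : ℕ) (hlk : ℓ ≤ k)
    (h0 : ℓ = 0 → ¬ (iodd ∨ Even m'))
    (hk : ℓ = k → ¬ ((iodd ∨ Even n') ↔ (iodd ∨ Even m')))
    (hm1 : 0 < k → 1 ≤ m') : RhsD iodd n' k m' ℓ := by
  unfold RhsD
  by_cases hio : iodd
  · left
    have hl0 : 0 < ℓ := by
      rcases Nat.eq_zero_or_pos ℓ with h | h
      · exact absurd (Or.inl hio) (h0 h)
      · exact h
    have hlk' : ℓ < k := by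
      rcases Nat.lt_or_ge ℓ k with h | h
      · exact h
      · exfalso
        exact hk (by omega) ⟨fun _ => Or.inl hio, fun _ => Or.inl hio⟩
    exact ⟨hio, hm1 (by omega), hl0, hlk'⟩
  · right
    refine ⟨hio, ?_⟩
    have hodd_m' : ℓ = 0 → Odd m' := by
      intro h
      rw [← Nat.not_even_iff_odd]
      intro he
      exact h0 h (Or.inr he)
    rcases Nat.eq_zero_or_pos k with hk0 | hkpos
    · left
      refine ⟨hk0, Or.inr ⟨by omega, hodd_m' (by omega)⟩⟩
    · right
      refine ⟨hm1 hkpos, ?_⟩
      rcases Nat.eq_zero_or_pos ℓ with hl | hl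
      · exact Or.inr (Or.inr ⟨hl, hkpos, hodd_m' hl⟩)
      · rcases Nat.lt_or_ge ℓ k with hlt | hge
        · exact Or.inl ⟨hl, hlt⟩
        · right; left
          have hlk2 : ℓ = k := by omega
          refine ⟨hl, hlk2, ?_⟩
          have hne := hk hlk2
          rcases Nat.even_or_odd n' with hn | hn <;> rcases Nat.even_or_odd m' with hm | hm
          · exfalso
            exact hne ⟨fun _ => Or.inr hm, fun _ => Or.inr hn⟩
          · exact hn.add_odd hm
          · exact hn.add_even hm
          · exfalso
            apply hne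
            constructor
            · rintro (h | h)
              · exact absurd h hio
              · exact absurd h (Nat.not_even_iff_odd.2 hn)
            · rintro (h | h)
              · exact absurd h hio
              · exact absurd h (Nat.not_even_iff_odd.2 hm)

end Cfsg.Agent.Lib.Helper65.Qe
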