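import Mathlib
import Cfsg.Agent.Lib.Helper65.QeDefs
import Cfsg.Agent.Lib.Helper81.OnBR

/-! # Qe hive (S5988, helper65): bridges between the frozen vocabulary and `Nd` / `PlusQ` for `QP d F` -/

set_option autoImplicit false

namespace Cfsg.Agent.Lib.Helper65.Qe

open Polynomial Module Matrix
open Cfsg.Agent.Lib.Helper2.BG Cfsg.Agent.Lib.Helper99 Cfsg.Agent.Lib.Helper48.Ti
open Cfsg.Agent.Lib.Helper5.Hy

section concrete

variable {F : Type*} [Field F]

theorem br_QP_apply (d : ℕ) (v : VP d F) : QP d F v = Cfsg.quadFormPlus d F v :=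
  (congrFun (Cfsg.Agent.Lib.Helper8.plusForm_coe d F) v).symm

theorem br_pol (d : ℕ) (u v : VP d F) :
    pol (QP d F) u v = QuadraticMap.polar (Cfsg.quadFormPlus d F) u v := by
  show QuadraticMap.polar (⇑(QP d F)) u v = _
  unfold QuadraticMap.polar
  rw [br_QP_apply, br_QP_apply, br_QP_apply]

theorem br_pol_symm (d : ℕ) (u v : VP d F) : pol (QP d F) u v = pol (QP d F) v u := by
  show QuadraticMap.polar (⇑(QP d F)) u v = QuadraticMap.polar (⇑(QP d F)) v u
  rw [QuadraticMap.polar_comm]

theorem br_nd (d : ℕ) (W : Submodule F (VP d F)) :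
    Cfsg.Geo.IsNondegenerateOn (QuadraticMap.polar (Cfsg.quadFormPlus d F)) W ↔
      Nd (pol (QP d F)) W := by
  constructor
  · intro h u hu hzero
    by_contra hne
    obtain ⟨-, ⟨x, hx, hxn⟩⟩ := h u hu hne
    apply hxn
    rw [← br_pol]
    exact hzero x hx
  · intro h w hw hne
    have : ∃ x ∈ W, pol (QP d F) w x ≠ 0 := by
      by_contra hno
      push Not at hno
      exact hne (h w hw hno)
    obtain ⟨x, hx, hxn⟩ := this
    refine ⟨⟨x, hx, ?_⟩, ⟨x, hx, ?_⟩⟩
    · rw [← br_pol, br_pol_symm]; exact hxn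
    · rw [← br_pol]; exact hxn

theorem br_plus (d : ℕ) (W : Submodule F (VP d F)) :
    Cfsg.Geo.IsPlusTypeOn (Cfsg.quadFormPlus d F) W ↔ PlusQ (QP d F) W := by
  constructor
  · rintro ⟨U, hUW, hU, hd⟩
    exact ⟨U, hUW, fun u hu => by rw [br_QP_apply]; exact hU u hu, hd⟩
  · rintro ⟨U, hUW, hU, hd⟩
    exact ⟨U, hUW, fun u hu => by rw [← br_QP_apply]; exact hU u hu, hd⟩

theorem br_inv (d : ℕ) (A : MP d F) (W : Submodule F (VP d F)) :
    W.map (Matrix.toLin' A) ≤ W ↔ Inv (Matrix.toLin' A) W := by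
  rw [Submodule.map_le_iff_le_comap]
  constructor
  · intro h v hv
    exact h hv
  · intro h v hv
    exact h v hv

theorem br_isomQ (d : ℕ) (x : GL (Fin d ⊕ Fin d) F)
    (hx : x ∈ Cfsg.isometryGroup F (Cfsg.quadFormPlus d F)) :
    IsomQ (QP d F) (Matrix.toLin' (x : MP d F)) := by
  intro v
  rw [br_QP_apply, br_QP_apply, Matrix.toLin'_apply]
  exact hx v 0

theorem br_mem_isom (d : ℕ) (x : GL (Fin d ⊕ Fin d) F)
    (h : ∀ v : VP d F, Cfsg.quadFormPlus d F ((x : MP d F) *ᵥ v) = Cfsg.quadFormPlus d F v) :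
    x ∈ Cfsg.isometryGroup F (Cfsg.quadFormPlus d F) := by
  intro u _
  exact h u

theorem br_nd_top (d : ℕ) : Nd (pol (QP d F)) ⊤ := by
  intro u _ hu
  have h := (Cfsg.Agent.Lib.Helper8.plusForm_nondegenerate d F).1
  exact h u (fun v => hu v Submodule.mem_top)

theorem br_finrank (d : ℕ) : finrank F (VP d F) = 2 * d := by
  rw [Module.finrank_fintype_fun_eq_card, Fintype.card_sum, Fintype.card_fin]
  ring

theorem br_Esub_sing (d : ℕ) (u : VP d F) (hu : u ∈ Esub d F) : QP d F u = 0 := by
  rw [br_QP_apply]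
  unfold Cfsg.quadFormPlus
  apply Finset.sum_eq_zero
  intro i _
  have : u (Sum.inr i) = 0 := hu i
  rw [this, mul_zero]

theorem br_Esub_finrank (d : ℕ) : finrank F ↥(Esub d F) = d := by
  classical
  -- `Esub` is the range of the injective map `F^d → F^d ⊕ F^d`, `w ↦ (w, 0)`
  let ι : (Fin d → F) →ₗ[F] VP d F :=
    { toFun := fun w => Sum.elim w 0
      map_add' := by
        intro a b
        funext j
        rcases j with j | j <;> simp
      map_smul' := by
        intro c a
        funext j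
        rcases j with j | j <;> simp }
  have hinj : Function.Injective ι := by
    intro a b hab
    funext j
    have := congrFun hab (Sum.inl j)
    simpa [ι] using this
  have hrange : LinearMap.range ι = Esub d F := by
    ext v
    constructor
    · rintro ⟨w, rfl⟩ j
      simp [ι]
    · intro hv
      refine ⟨fun j => v (Sum.inl j), ?_⟩
      funext j
      rcases j with j | j
      · simp [ι]
      · have : v (Sum.inr j) = 0 := hv j
        simp [ι, this]
  rw [← hrange, LinearMap.finrank_range_of_inj hinj, Module.finrank_fintype_fun_eq_card,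
    Fintype.card_fin]

theorem br_plus_top (d : ℕ) : PlusQ (QP d F) ⊤ := by
  refine ⟨Esub d F, le_top, br_Esub_sing d, ?_⟩
  rw [br_Esub_finrank, finrank_top, br_finrank]

end concrete

end Cfsg.Agent.Lib.Helper65.Qe
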