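import Mathlib
import Cfsg.Agent.Lib.Helper65.QeBridge
import Cfsg.Agent.Lib.Helper2.QeUNIMEM
import Cfsg.Agent.Lib.Helper95.QeUNIFACTS
import Cfsg.Agent.Lib.Helper69.QeSIEGEL

/-! # Qe hive (S5988, helper65): the frozen "good" predicate and the case `r = p` -/

set_option autoImplicit false

namespace Cfsg.Agent.Lib.Helper65.Qe

open Polynomial Module Matrix
open Cfsg.Agent.Lib.Helper2.BG Cfsg.Agent.Lib.Helper99 Cfsg.Agent.Lib.Helper48.Ti
open Cfsg.Agent.Lib.Helper5.Hy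

section concrete

variable {F : Type*} [Field F]

/-- the frozen family: elliptic `m`-spaces -/
def IsEll (d m : ℕ) (W : Submodule F (VP d F)) : Prop :=
  Module.finrank F ↥W = m ∧
    Cfsg.Geo.IsNondegenerateOn (QuadraticMap.polar (Cfsg.quadFormPlus d F)) W ∧
    ¬ Cfsg.Geo.IsPlusTypeOn (Cfsg.quadFormPlus d F) W

/-- the frozen "good" predicate: `x` fixes an elliptic `m`-space -/
def GoodE (d m : ℕ) (x : GL (Fin d ⊕ Fin d) F) : Prop :=
  ∃ W : Submodule F (VP d F), IsEll d m W ∧ W.map (Matrix.toLin' (x : MP d F)) ≤ W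

theorem isEll_iff (d m : ℕ) (W : Submodule F (VP d F)) :
    IsEll d m W ↔ (Nd (pol (QP d F)) W ∧ finrank F W = m ∧ (PlusQ (QP d F) W ↔ False)) := by
  unfold IsEll
  rw [br_nd, br_plus]
  constructor
  · rintro ⟨h1, h2, h3⟩
    exact ⟨h2, h1, iff_false_intro h3⟩
  · rintro ⟨h1, h2, h3⟩
    exact ⟨h2, h1, fun h => h3.1 h⟩

theorem goodE_iff (d m : ℕ) (A : MP d F) :
    (∃ W : Submodule F (VP d F), IsEll d m W ∧ W.map (Matrix.toLin' A) ≤ W) ↔
      FixesQ (QP d F) (Matrix.toLin' A) m False := by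
  constructor
  · rintro ⟨W, hW, hi⟩
    obtain ⟨h1, h2, h3⟩ := (isEll_iff d m W).1 hW
    exact ⟨W, (br_inv d A W).1 hi, h1, h2, h3⟩
  · rintro ⟨W, hi, h1, h2, h3⟩
    exact ⟨W, (isEll_iff d m W).2 ⟨h1, h2, h3⟩, (br_inv d A W).2 hi⟩

variable [Fintype F]

/-- `r = p`: the Siegel element fixes no elliptic space -/
theorem main_p {p : ℕ} [Fact p.Prime] [CharP F p] (d m : ℕ) (hd : 4 ≤ d) (hme : Even m) :
    ¬ (∀ x : GL (Fin d ⊕ Fin d) F, x ∈ Cfsg.Geo.omegaGL (Cfsg.quadFormPlus d F) →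
      (∃ z : F, ((x ^ p : GL (Fin d ⊕ Fin d) F) : MP d F) = z • (1 : MP d F)) →
      (∀ z : F, (x : MP d F) ≠ z • (1 : MP d F)) → GoodE d m x) := by
  intro h
  obtain ⟨x, hxS, hxΩ⟩ := siegel_mem_omega (F := F) d (by omega)
  obtain ⟨-, hE, hNE, hEK, hK, hpow, hns⟩ := siegel_facts (F := F) (p := p) d (by omega)
  have hgood := h x hxΩ ⟨1, by rw [Units.val_pow_eq_pow_val, hxS, hpow, one_smul]⟩
    (by rw [hxS]; exact hns)
  obtain ⟨W, hWi, hWnd, hWm, hWt⟩ := (goodE_iff d m (x : MP d F)).1 hgood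
  rw [hxS] at hWi
  exact hWt.1 (plusQ_of_siegel hE hNE hEK hK hWi hWnd (by rw [hWm]; exact hme))

end concrete

end Cfsg.Agent.Lib.Helper65.Qe
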