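import Mathlib
import Cfsg.Agent.Lib.Helper65.QeLayer
import Cfsg.Agent.Lib.Helper65.QeArith
import Cfsg.Agent.Lib.Helper54.QeASM0
import Cfsg.Agent.Lib.Helper5.QeASM1
import Cfsg.Agent.Lib.Helper85.QeASM3
import Cfsg.Agent.Lib.Helper20.QeASM4
import Cfsg.Agent.Lib.Helper20.QeASM5
import Cfsg.Agent.Lib.Helper5.HyAsmA

/-! # Qe hive (S5988, helper65): the semisimple case, abstract part -/

set_option autoImplicit false

namespace Cfsg.Agent.Lib.Helper65.Qe

open Polynomial Module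
open Cfsg.Agent.Lib.Helper2.BG Cfsg.Agent.Lib.Helper99 Cfsg.Agent.Lib.Helper48.Ti
open Cfsg.Agent.Lib.Helper5.Hy

section abstract

variable {F V : Type*} [Field F] [Fintype F] [AddCommGroup V] [Module F V] [FiniteDimensional F V]
variable {Q : QuadraticForm F V}

omit [Fintype F] [FiniteDimensional F V] in
theorem semi_plusQ_bot : PlusQ Q ⊥ :=
  ⟨⊥, le_rfl, fun u hu => by rw [(Submodule.mem_bot F).1 hu, map_zero], by simp⟩

/-- sufficiency for odd `r`: ELLIPTIC members in a PLUS space -/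
theorem semi_suff (hV : Nd (pol Q) ⊤) (hplus : PlusQ Q ⊤) {f : Module.End F V} (hf : IsomQ Q f)
    (r : ℕ) [Fact r.Prime] (hr2 : r ≠ 2) (hrq : ¬ r ∣ Fintype.card F) (hfr : f ^ r = 1) (i c : ℕ)
    (hi : i = orderOf ((Fintype.card F : ℕ) : ZMod r)) (hc : c = if Even i then i else 2 * i)
    (m : ℕ) (hme : Even m) (h2m : 2 ≤ m) (hmn : 2 * m < finrank F V)
    (hne : Even (finrank F V)) (hR : RhsS i c (finrank F V) m) : FixesQ Q f m False := by
  obtain ⟨hipos, hcpos, hceven⟩ := asm_c_pos (F := F) r hrq i c hi hc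
  obtain ⟨hFixNd, ⟨s, hs⟩, htypeC⟩ := plusQ_fix_iff r hV hf hr2 hrq hfr i c hi hc hne
  obtain ⟨n, hn⟩ : ∃ n, n = finrank F V := ⟨_, rfl⟩
  obtain ⟨e, he⟩ : ∃ e, e = finrank F ↥(Fix f) := ⟨_, rfl⟩
  rw [← hn, ← he] at hs htypeC
  rw [← hn] at hmn hR
  have hnes : n - e = s * c := by omega
  have htC : PlusQ Q (Fix f) ↔ (Odd i ∨ Even s) := by
    rw [htypeC, hnes, tp_iff r hr2 hrq i c hi hc s]
    exact iff_true_left hplus
  have hadm : e = 0 → (Odd i ∨ Even s) := by
    intro he0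
    have hbot : Fix f = ⊥ := Submodule.finrank_eq_zero.1 (by rw [← he]; exact he0)
    rw [← htC, hbot]
    exact semi_plusQ_bot
  rw [rhsS_iff_rhsD i c n m hcpos hc] at hR
  have hnd : n / c = e / c + s := by rw [hs, Nat.add_mul_div_right _ _ hcpos]
  have hnm : n % c = e % c := by rw [hs, Nat.add_mul_mod_self_right]
  rw [hnd, hnm] at hR
  have hm_dec : m = (m / c) * c + m % c := by
    rw [Nat.mul_comm]; exact (Nat.div_add_mod m c).symm
  have he_dec : e = (e / c) * c + e % c := by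
    rw [Nat.mul_comm]; exact (Nat.div_add_mod e c).symm
  have hn_dec : n = (e / c + s) * c + e % c := by
    rw [Nat.add_mul]; omega
  obtain ⟨j, hjm', hjs, hmode⟩ := arith_core (Odd i) c s (e / c) (e % c) (m / c) (m % c) hcpos
    (Nat.mod_lt _ hcpos) (Nat.mod_lt _ hcpos) (by rw [← hm_dec]; exact h2m)
    (by rw [← hm_dec, ← hn_dec]; exact hmn) (by rw [← he_dec]; exact hadm) hR
  have hjc' : j * c ≤ (m / c) * c := Nat.mul_le_mul_right c hjm'
  have hjc : j * c ≤ m := by omega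
  have hjsc : j * c ≤ s * c := Nat.mul_le_mul_right c hjs
  have hjs' : j * c + finrank F ↥(Fix f) ≤ finrank F V := by rw [← he, ← hn]; omega
  have hval : m - j * c = (m / c - j) * c + m % c := by
    rw [Nat.sub_mul]; omega
  apply fixesQ_of_mode r hV hf hr2 hrq hfr i c hi hc m hme False j hjc hjs'
  rw [← he]
  rcases hmode with ⟨h1, h2⟩ | ⟨h1, h2⟩ | ⟨h1, h2⟩
  · left
    rw [hval]
    rw [← he_dec] at h2
    exact ⟨h1, h2⟩
  · right; left
    refine ⟨by omega, ?_⟩
    rw [tp_iff r hr2 hrq i c hi hc j]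
    exact iff_of_false not_false h2
  · right; right
    refine ⟨by rw [hval, h1, ← he_dec], ?_⟩
    rw [htC, tp_iff r hr2 hrq i c hi hc j]
    exact iff_of_false not_false h2

/-- necessity for odd `r`, for an isometry with the largest possible moved part -/
theorem semi_nec (hV : Nd (pol Q) ⊤) (hplus : PlusQ Q ⊤) {f : Module.End F V} (hf : IsomQ Q f)
    (r : ℕ) [Fact r.Prime] (hr2 : r ≠ 2) (hrq : ¬ r ∣ Fintype.card F) (hfr : f ^ r = 1) (i c : ℕ)
    (hi : i = orderOf ((Fintype.card F : ℕ) : ZMod r)) (hc : c = if Even i then i else 2 * i)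
    (m : ℕ) (hme : Even m) (hne : Even (finrank F V))
    (hfd : finrank F ↥(Fix f) = finrank F V % c) (h : FixesQ Q f m False) :
    m % c ≤ finrank F V % c ∧ (m % c = 0 → ¬ (Odd i ∨ Even (m / c))) ∧
      (m % c = finrank F V % c →
        ¬ ((Odd i ∨ Even (finrank F V / c)) ↔ (Odd i ∨ Even (m / c)))) := by
  obtain ⟨hipos, hcpos, hceven⟩ := asm_c_pos (F := F) r hrq i c hi hc
  obtain ⟨hFixNd, ⟨s, hs⟩, htypeC⟩ := plusQ_fix_iff r hV hf hr2 hrq hfr i c hi hc hne
  obtain ⟨j, hjm, hjn, hle, h0, hk⟩ := mode_of_fixesQ r hV hf hr2 hrq hfr i c hi hc m hme False h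
  obtain ⟨n, hn⟩ : ∃ n, n = finrank F V := ⟨_, rfl⟩
  rw [hfd] at hs htypeC hle hk hjn
  rw [← hn] at hs htypeC hle hk hjn ⊢
  have hklt : n % c < c := Nat.mod_lt _ hcpos
  have hsn : s = n / c := by
    have h1 := Nat.div_add_mod n c
    have h2 : c * (n / c) = (n / c) * c := Nat.mul_comm _ _
    have h3 : s * c = (n / c) * c := by omega
    exact Nat.eq_of_mul_eq_mul_right hcpos h3
  have hnes : n - n % c = s * c := by omega
  have htC : PlusQ Q (Fix f) ↔ (Odd i ∨ Even (n / c)) := by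
    rw [htypeC, hnes, tp_iff r hr2 hrq i c hi hc s, hsn]
    exact iff_true_left hplus
  have hjdiv : m / c = j := by
    apply Nat.div_eq_of_lt_le
    · exact hjm
    · rw [Nat.add_mul, one_mul]; omega
  have hmod : m % c = m - j * c := by
    have h1 := Nat.div_add_mod m c
    rw [hjdiv, Nat.mul_comm] at h1
    omega
  rw [hmod, hjdiv]
  refine ⟨hle, ?_, ?_⟩
  · intro hz
    have hm : m = j * c := by omega
    have := h0 hm
    rw [tp_iff r hr2 hrq i c hi hc j] at this
    exact fun hx => this.2 hx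
  · intro hz
    have := hk hz
    rw [htC, tp_iff r hr2 hrq i c hi hc j] at this
    exact fun hx => this.2 hx

end abstract

end Cfsg.Agent.Lib.Helper65.Qe
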