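import Mathlib
import Cfsg.Agent.Lib.Helper65.QeMainP
import Cfsg.Agent.Lib.Helper65.QeSemi
import Cfsg.Agent.Lib.Helper79.QeODDMEM
import Cfsg.Agent.Lib.Helper45.QeELT
import Cfsg.Agent.Lib.Helper64.HyCONG

/-! # Qe hive (S5988, helper65): the case `r` odd, `r ≠ p` -/

set_option autoImplicit false

namespace Cfsg.Agent.Lib.Helper65.Qe

open Polynomial Module Matrix
open Cfsg.Agent.Lib.Helper2.BG Cfsg.Agent.Lib.Helper99 Cfsg.Agent.Lib.Helper48.Ti
open Cfsg.Agent.Lib.Helper5.Hy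

section abstract

variable {F V : Type*} [Field F] [AddCommGroup V] [Module F V] [FiniteDimensional F V]
variable {Q : QuadraticForm F V}

/-- an injective isometry maps plus-type subspaces to plus-type subspaces -/
theorem odd_plusQ_map {g : V →ₗ[F] V} (hg : IsomQ Q g) (hinj : Function.Injective g)
    {W : Submodule F V} (h : PlusQ Q W) : PlusQ Q (W.map g) := by
  obtain ⟨U, hUW, hU, hd⟩ := h
  refine ⟨U.map g, Submodule.map_mono hUW, ?_, ?_⟩
  · rintro _ ⟨u, hu, rfl⟩
    rw [hg u]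
    exact hU u hu
  · rw [(Submodule.equivMapOfInjective g hinj U).finrank_eq.symm,
      (Submodule.equivMapOfInjective g hinj W).finrank_eq.symm]
    exact hd

omit [FiniteDimensional F V] in
theorem odd_nd_map {g : V →ₗ[F] V} (hg : IsomQ Q g) {W : Submodule F V}
    (h : Nd (pol Q) W) : Nd (pol Q) (W.map g) := by
  rintro _ ⟨u, hu, rfl⟩ hzero
  have : u = 0 := by
    apply h u hu
    intro v hv
    have := hzero (g v) ⟨v, hv, rfl⟩
    rwa [glue_isom hg u v] at this
  rw [this, map_zero]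

end abstract

section concrete

variable {F : Type*} [Field F] [Fintype F]

theorem odd_hrq {p : ℕ} [Fact p.Prime] [CharP F p] (r : ℕ) [Fact r.Prime] (hrp : r ≠ p) :
    ¬ r ∣ Fintype.card F := by
  obtain ⟨n, hp, hcard⟩ := FiniteField.card F p
  intro h
  rw [hcard] at h
  have hr : r.Prime := Fact.out
  exact hrp ((Nat.prime_dvd_prime_iff_eq hr hp).1 (hr.dvd_of_dvd_pow h))

omit [Fintype F] in
theorem odd_toLin_inv (d : ℕ) (x : GL (Fin d ⊕ Fin d) F) (v : VP d F) :
    Matrix.toLin' ((x⁻¹ : GL (Fin d ⊕ Fin d) F) : MP d F) (Matrix.toLin' (x : MP d F) v) = v := by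
  rw [← LinearMap.comp_apply, ← Matrix.toLin'_mul, ← Units.val_mul, inv_mul_cancel, Units.val_one,
    Matrix.toLin'_one]
  rfl

omit [Fintype F] in
theorem odd_toLin_inj (d : ℕ) (x : GL (Fin d ⊕ Fin d) F) :
    Function.Injective (Matrix.toLin' (x : MP d F)) := by
  intro u v h
  rw [← odd_toLin_inv d x u, ← odd_toLin_inv d x v, h]

omit [Fintype F] in
/-- the frozen family is stable under isometries -/
theorem odd_isEll_map (d m : ℕ) (x : GL (Fin d ⊕ Fin d) F)
    (hx : x ∈ Cfsg.isometryGroup F (Cfsg.quadFormPlus d F)) (W : Submodule F (VP d F))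
    (h : IsEll d m W) : IsEll d m (W.map (Matrix.toLin' (x : MP d F))) := by
  obtain ⟨h1, h2, h3⟩ := (isEll_iff d m W).1 h
  have hg := br_isomQ d x hx
  have hxi : x⁻¹ ∈ Cfsg.isometryGroup F (Cfsg.quadFormPlus d F) := Subgroup.inv_mem _ hx
  have hg' := br_isomQ d x⁻¹ hxi
  have hinj := odd_toLin_inj d x
  rw [isEll_iff]
  refine ⟨odd_nd_map hg h1, ?_, ?_⟩
  · rw [(Submodule.equivMapOfInjective _ hinj W).finrank_eq.symm]
    exact h2
  · refine ⟨fun hp => ?_, False.elim⟩
    apply h3.1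
    have := odd_plusQ_map hg' (odd_toLin_inj d x⁻¹) hp
    have hback : (W.map (Matrix.toLin' (x : MP d F))).map
        (Matrix.toLin' ((x⁻¹ : GL (Fin d ⊕ Fin d) F) : MP d F)) = W := by
      ext v
      constructor
      · rintro ⟨_, ⟨w, hw, rfl⟩, rfl⟩
        rw [odd_toLin_inv]
        exact hw
      · intro hv
        exact ⟨_, ⟨v, hv, rfl⟩, odd_toLin_inv d x v⟩
    rwa [hback] at this

/-- sufficiency, concrete form -/
theorem odd_suff {p : ℕ} [Fact p.Prime] [CharP F p] (r : ℕ) [Fact r.Prime] (hr2 : r ≠ 2)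
    (hrp : r ≠ p) (d m : ℕ) (hd : 4 ≤ d) (hm : 2 ≤ m) (hme : Even m) (hmd : m < d) (i c : ℕ)
    (hi : i = orderOf ((Fintype.card F : ℕ) : ZMod r)) (hc : c = if Even i then i else 2 * i)
    (hR : RhsS i c (2 * d) m) (x : GL (Fin d ⊕ Fin d) F)
    (hxΩ : x ∈ Cfsg.Geo.omegaGL (Cfsg.quadFormPlus d F))
    (hsc : ∃ z : F, ((x ^ r : GL (Fin d ⊕ Fin d) F) : MP d F) = z • (1 : MP d F)) :
    GoodE d m x := by
  have hr : r.Prime := Fact.out
  have hrodd : Odd r := hr.odd_of_ne_two hr2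
  have hrq := odd_hrq (F := F) (p := p) r hrp
  have hd1 : 1 ≤ d := by omega
  have hfin : finrank F (VP d F) = 2 * d := br_finrank d
  obtain ⟨z, hz⟩ := hsc
  have hxI := Cfsg.Agent.Lib.Helper81.On.mem_isom_of_mem_omega d x hxΩ
  have hxrI : x ^ r ∈ Cfsg.isometryGroup F (Cfsg.quadFormPlus d F) := Subgroup.pow_mem _ hxI r
  have hzz := Cfsg.Agent.Lib.Helper81.On.scalar_pm_one d hd1 (x ^ r) hxrI z hz
  have hzz1 : z * z = 1 := by
    rcases hzz with rfl | rfl <;> ring
  have hzr : z ^ r * z = 1 := by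
    rcases hzz with rfl | rfl
    · simp
    · rw [← pow_succ]
      exact Even.neg_one_pow hrodd.add_one
  set f₀ : Module.End F (VP d F) := Matrix.toLin' (x : MP d F) with hf₀
  have hf₀Q : IsomQ (QP d F) f₀ := br_isomQ d x hxI
  have hf₀r : f₀ ^ r = z • (1 : Module.End F (VP d F)) := by
    rw [hf₀, ← Matrix.toLin'_pow, ← Units.val_pow_eq_pow_val, hz, map_smul, Matrix.toLin'_one]
    rfl
  set f : Module.End F (VP d F) := z • f₀ with hf
  have hfQ : IsomQ (QP d F) f := by
    intro v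
    rw [hf, LinearMap.smul_apply, QuadraticMap.map_smul, hzz1, one_smul]
    exact hf₀Q v
  have hfr : f ^ r = 1 := by
    rw [hf, _root_.smul_pow, hf₀r, smul_smul, hzr, one_smul]
  have hfix := semi_suff (br_nd_top d) (br_plus_top d) hfQ r hr2 hrq hfr i c hi hc m hme hm
    (by rw [hfin]; omega) (by rw [hfin]; exact even_two_mul d) (by rw [hfin]; exact hR)
  obtain ⟨W, hWi, hWnd, hWm, hWt⟩ := hfix
  refine (goodE_iff d m (x : MP d F)).2 ⟨W, ?_, hWnd, hWm, hWt⟩
  intro v hv
  have h1 : f v ∈ W := hWi v hv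
  have h2 : f₀ v = z • f v := by
    rw [hf, LinearMap.smul_apply, smul_smul, hzz1, one_smul]
  show f₀ v ∈ W
  rw [h2]
  exact W.smul_mem z h1

/-- necessity, concrete form -/
theorem odd_nec {p : ℕ} [Fact p.Prime] [CharP F p] (r : ℕ) [Fact r.Prime] (hr2 : r ≠ 2)
    (hrp : r ≠ p) (d m : ℕ) (hd : 4 ≤ d) (hm : 2 ≤ m) (hme : Even m) (hmd : m < d) (i c : ℕ)
    (hi : i = orderOf ((Fintype.card F : ℕ) : ZMod r)) (hc : c = if Even i then i else 2 * i)
    (hrΩ : r ∣ Nat.card {W : Submodule F (VP d F) // IsEll d m W})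
    (h : ∀ x : GL (Fin d ⊕ Fin d) F, x ∈ Cfsg.Geo.omegaGL (Cfsg.quadFormPlus d F) →
      (∃ z : F, ((x ^ r : GL (Fin d ⊕ Fin d) F) : MP d F) = z • (1 : MP d F)) →
      (∀ z : F, (x : MP d F) ≠ z • (1 : MP d F)) → GoodE d m x) :
    RhsS i c (2 * d) m := by
  classical
  have hr : r.Prime := Fact.out
  have hrodd : Odd r := hr.odd_of_ne_two hr2
  have hrq := odd_hrq (F := F) (p := p) r hrp
  have hd1 : 1 ≤ d := by omega
  have hfin : finrank F (VP d F) = 2 * d := br_finrank d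
  have hV : Nd (pol (QP d F)) ⊤ := br_nd_top d
  have hplus : PlusQ (QP d F) ⊤ := br_plus_top d
  obtain ⟨hipos, hcpos, hceven⟩ := asm_c_pos (F := F) r hrq i c hi hc
  -- Step 0: `c ≤ 2d`
  have hcd : c ≤ 2 * d := by
    by_contra hcon
    have hno : ∀ g : Module.End F (VP d F), IsomQ (QP d F) g → g ^ r = 1 →
        (∀ v, (∀ u ∈ (⊤ : Submodule F (VP d F)), pol (QP d F) u v = 0) → g v = v) → g = 1 :=
      fun g hg hgr hgC => no_isomQ_of_small r hV hr2 hrq i c hi hc
        (C := ⊤) (by rw [finrank_top, hfin]; omega) g hg hgr hgC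
    have hnd := not_dvd_card_typeQ hV hV r hno m hme (by omega)
      (by rw [finrank_top, hfin]; omega) False
    apply hnd
    have hcard : Nat.card {W : Submodule F (VP d F) // W ≤ ⊤ ∧ Nd (pol (QP d F)) W ∧
        finrank F W = m ∧ (PlusQ (QP d F) W ↔ False)} =
        Nat.card {W : Submodule F (VP d F) // IsEll d m W} := by
      apply Nat.card_congr
      apply Equiv.subtypeEquivRight
      intro W
      rw [isEll_iff]
      exact ⟨fun h => h.2, fun h => ⟨le_top, h⟩⟩
    rw [hcard]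
    exact hrΩ
  rw [rhsS_iff_rhsD i c (2 * d) m hcpos hc]
  by_cases hside : Odd i ∨ (2 * d) % c ≠ 0 ∨ Even ((2 * d) / c)
  swap
  · push Not at hside
    obtain ⟨h1, h2, h3⟩ := hside
    exact Or.inr ⟨h1, Or.inl ⟨h2, Or.inl (Nat.not_even_iff_odd.1 h3)⟩⟩
  -- Step 2: the element with the largest moved part
  obtain ⟨x, hxI, hxr, hxfix⟩ := exists_max_isom (F := F) (p := p) r hr2 hrp d hd1 i c hi hc hcd hside
  have hxΩ := mem_omegaGL_of_pow_eq_one (F := F) (p := p) d r hr2 hrp x hxI hxr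
  set f : Module.End F (VP d F) := Matrix.toLin' (x : MP d F) with hf
  have hfQ : IsomQ (QP d F) f := br_isomQ d x hxI
  have hAr : (x : MP d F) ^ r = 1 := by
    rw [← Units.val_pow_eq_pow_val, hxr, Units.val_one]
  have hfr : f ^ r = 1 := by
    rw [hf, ← Matrix.toLin'_pow, hAr, Matrix.toLin'_one]
    rfl
  have hklt : (2 * d) % c < c := Nat.mod_lt _ hcpos
  have hns : ∀ z : F, (x : MP d F) ≠ z • (1 : MP d F) := by
    intro z hz
    have hzz := Cfsg.Agent.Lib.Helper81.On.scalar_pm_one d hd1 x hxI z hz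
    have hz1 : z = 1 := by
      rcases hzz with rfl | rfl
      · rfl
      · -- `(-1)^r = 1` forces `-1 = 1`
        rw [hz, _root_.smul_pow, one_pow, hrodd.neg_one_pow] at hAr
        have h3 := congrFun (congrFun hAr (Sum.inl ⟨0, hd1⟩)) (Sum.inl ⟨0, hd1⟩)
        rw [Matrix.smul_apply, Matrix.one_apply_eq, smul_eq_mul, mul_one] at h3
        exact h3
    rw [hz1, one_smul] at hz
    have hf1 : f = 1 := by
      rw [hf, hz, Matrix.toLin'_one]
      rfl
    have htop : Fix f = ⊤ := by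
      rw [hf1]
      show LinearMap.ker ((1 : Module.End F (VP d F)) - 1) = ⊤
      rw [sub_self]
      exact LinearMap.ker_zero
    rw [htop, finrank_top, hfin] at hxfix
    omega
  have hgood := h x hxΩ ⟨1, by rw [hxr, Units.val_one, one_smul]⟩ hns
  have hgoodQ : FixesQ (QP d F) f m False := (goodE_iff d m (x : MP d F)).1 hgood
  have hne : Even (finrank F (VP d F)) := by rw [hfin]; exact even_two_mul d
  have hfd : finrank F ↥(Fix f) = finrank F (VP d F) % c := by rw [hfin]; exact hxfix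
  obtain ⟨hlk, h0, hk⟩ := semi_nec hV hplus hfQ r hr2 hrq hfr i c hi hc m hme hne hfd hgoodQ
  rw [hfin] at hlk hk
  apply rhsD_of_nec (Odd i) ((2 * d) / c) ((2 * d) % c) (m / c) (m % c) hlk h0 hk
  intro hkpos
  by_contra hm0
  have hmc : m < c := by
    have : m / c = 0 := Nat.lt_one_iff.1 (not_le.1 hm0)
    rcases (Nat.div_eq_zero_iff).1 this with h' | h'
    · omega
    · exact h'
  have hmmod : m % c = m := Nat.mod_eq_of_lt hmc
  rw [hmmod] at hlk
  -- the fixed-point congruence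
  have hcong := Cfsg.Agent.Lib.Helper5.Hy.card_modEq_fixed x r hxr (IsEll d m)
    (fun W hW => odd_isEll_map d m x hxI W hW)
  have hdvd : r ∣ Nat.card {W : Submodule F (VP d F) // IsEll d m W ∧
      W.map (Matrix.toLin' (x : MP d F)) ≤ W} :=
    (Nat.ModEq.dvd_iff hcong (dvd_refl r)).1 hrΩ
  obtain ⟨hCnd, -, -⟩ := plusQ_fix_iff r hV hfQ hr2 hrq hfr i c hi hc hne
  have hCdim : finrank F ↥(Fix f) = (2 * d) % c := hxfix
  have hle : ∀ W : Submodule F (VP d F), IsEll d m W →
      W.map (Matrix.toLin' (x : MP d F)) ≤ W → W ≤ Fix f := by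
    intro W hW hWi
    obtain ⟨h1, h2, -⟩ := (isEll_iff d m W).1 hW
    exact le_fix_of_lt r hfQ hr2 hrq hfr i c hi hc ((br_inv d _ W).1 hWi) h1 (by rw [h2]; exact hmc)
  rcases Nat.lt_or_ge m ((2 * d) % c) with hlt | hge
  · -- `m < k`: Witt transitivity count
    have hno : ∀ g : Module.End F (VP d F), IsomQ (QP d F) g → g ^ r = 1 →
        (∀ v, (∀ u ∈ Fix f, pol (QP d F) u v = 0) → g v = v) → g = 1 :=
      fun g hg hgr hgC => no_isomQ_of_small r hV hr2 hrq i c hi hc
        (C := Fix f) (by rw [hCdim]; exact hklt) g hg hgr hgC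
    have hnd := not_dvd_card_typeQ hV hCnd r hno m hme (by omega) (by rw [hCdim]; exact hlt) False
    apply hnd
    have hcard : Nat.card {W : Submodule F (VP d F) // W ≤ Fix f ∧ Nd (pol (QP d F)) W ∧
        finrank F W = m ∧ (PlusQ (QP d F) W ↔ False)} =
        Nat.card {W : Submodule F (VP d F) // IsEll d m W ∧
          W.map (Matrix.toLin' (x : MP d F)) ≤ W} := by
      apply Nat.card_congr
      apply Equiv.subtypeEquivRight
      intro W
      constructor
      · rintro ⟨hWC, hrest⟩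
        exact ⟨(isEll_iff d m W).2 hrest, (br_inv d _ W).2 (asm_inv_of_le_fix hWC)⟩
      · rintro ⟨hW, hWi⟩
        exact ⟨hle W hW hWi, (isEll_iff d m W).1 hW⟩
    rw [hcard]
    exact hdvd
  · -- `m = k`: the only candidate is `Fix f`
    have hmk : m = (2 * d) % c := by omega
    have hsub : Subsingleton {W : Submodule F (VP d F) // IsEll d m W ∧
        W.map (Matrix.toLin' (x : MP d F)) ≤ W} := by
      constructor
      rintro ⟨W₁, hW₁, hi₁⟩ ⟨W₂, hW₂, hi₂⟩
      apply Subtype.ext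
      have e1 : W₁ = Fix f := Submodule.eq_of_le_of_finrank_eq (hle W₁ hW₁ hi₁)
        (by rw [hW₁.1, hCdim, hmk])
      have e2 : W₂ = Fix f := Submodule.eq_of_le_of_finrank_eq (hle W₂ hW₂ hi₂)
        (by rw [hW₂.1, hCdim, hmk])
      show W₁ = W₂
      rw [e1, e2]
    have hnonempty : Nonempty {W : Submodule F (VP d F) // IsEll d m W ∧
        W.map (Matrix.toLin' (x : MP d F)) ≤ W} := by
      obtain ⟨W, hW, hWi⟩ := hgood
      exact ⟨⟨W, hW, hWi⟩⟩
    have hone : Nat.card {W : Submodule F (VP d F) // IsEll d m W ∧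
        W.map (Matrix.toLin' (x : MP d F)) ≤ W} = 1 := by
      rw [Nat.card_eq_one_iff_unique]
      exact ⟨hsub, hnonempty⟩
    rw [hone] at hdvd
    exact hr.one_lt.ne' (Nat.dvd_one.1 hdvd)

end concrete

end Cfsg.Agent.Lib.Helper65.Qe
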