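import Mathlib
import Cfsg.Agent.Lib.Helper65.QeMainP
import Cfsg.Agent.Lib.Helper65.QeLayer
import Cfsg.Agent.Lib.Helper69.QeI3
import Cfsg.Agent.Lib.Helper69.QeI4
import Cfsg.Agent.Lib.Helper13.QeI1
import Cfsg.Agent.Lib.Helper5.QeINV2
import Cfsg.Agent.Lib.Helper81.OnR2

/-! # Qe hive (S5988, helper65): the case `r = 2 ≠ p` -/

set_option autoImplicit false

namespace Cfsg.Agent.Lib.Helper65.Qe

open Polynomial Module Matrix
open Cfsg.Agent.Lib.Helper2.BG Cfsg.Agent.Lib.Helper99 Cfsg.Agent.Lib.Helper48.Ti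
open Cfsg.Agent.Lib.Helper5.Hy

section concrete

variable {F : Type*} [Field F] [Fintype F]

theorem two_ne_zero_of_char {p : ℕ} [Fact p.Prime] [CharP F p] (hp2 : p ≠ 2) : (2 : F) ≠ 0 := by
  intro h
  have h' : ((2 : ℕ) : F) = 0 := by exact_mod_cast h
  rw [CharP.cast_eq_zero_iff F p] at h'
  exact hp2 ((Nat.prime_dvd_prime_iff_eq Fact.out Nat.prime_two).1 h')

omit [Fintype F] in
theorem two_toLin_sq (d : ℕ) (A : MP d F) :
    (Matrix.toLin' A) * (Matrix.toLin' A) = Matrix.toLin' (A * A) := by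
  rw [Matrix.toLin'_mul]
  rfl

omit [Fintype F] in
theorem two_smul_sq (d : ℕ) (z : F) :
    (z • (1 : MP d F)) * (z • (1 : MP d F)) = (z * z) • (1 : MP d F) := by
  rw [Matrix.smul_mul, Matrix.mul_smul, mul_one, smul_smul]

theorem main_two {p : ℕ} [Fact p.Prime] [CharP F p] (hp2 : p ≠ 2) (d m : ℕ) (hd : 4 ≤ d)
    (hm : 2 ≤ m) (hme : Even m) (hmd : m < d) :
    (∀ x : GL (Fin d ⊕ Fin d) F, x ∈ Cfsg.Geo.omegaGL (Cfsg.quadFormPlus d F) →
      (∃ z : F, ((x ^ 2 : GL (Fin d ⊕ Fin d) F) : MP d F) = z • (1 : MP d F)) →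
      (∀ z : F, (x : MP d F) ≠ z • (1 : MP d F)) → GoodE d m x) ↔
    ((Even d ∧ Fintype.card F % 4 = 3 ∧ m % 4 = 2) ∨ (Odd d ∧ Fintype.card F % 8 ≠ 1)) := by
  have h2 : (2 : F) ≠ 0 := two_ne_zero_of_char (p := p) hp2
  have hs : ∀ u v : VP d F, pol (QP d F) u v = pol (QP d F) v u := br_pol_symm d
  have hV : Nd (pol (QP d F)) ⊤ := br_nd_top d
  have hfin : finrank F (VP d F) = 2 * d := br_finrank d
  have hd1 : 1 ≤ d := by omega
  constructor
  · -- all fix ⇒ RHS
    intro h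
    by_contra hD
    have hcase : Even d ∨ Fintype.card F % 8 = 1 := by
      rcases Nat.even_or_odd d with hde | hdo
      · exact Or.inl hde
      · right
        by_contra h8
        exact hD (Or.inr ⟨hdo, h8⟩)
    obtain ⟨x, hxΩ, hxx⟩ := Cfsg.Agent.Lib.Helper81.On.exists_sq_neg_one_mem h2 d hd1 hcase
    have hxI := Cfsg.Agent.Lib.Helper81.On.mem_isom_of_mem_omega d x hxΩ
    have hf : Isom (pol (QP d F)) (Matrix.toLin' (x : MP d F)) := glue_isom (br_isomQ d x hxI)
    have hff : (Matrix.toLin' (x : MP d F)) * (Matrix.toLin' (x : MP d F)) = -1 := by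
      rw [two_toLin_sq, hxx, map_neg, Matrix.toLin'_one]
      rfl
    have hns : ∀ z : F, (x : MP d F) ≠ z • (1 : MP d F) := by
      intro z hz
      have hzz := Cfsg.Agent.Lib.Helper81.On.scalar_pm_one d hd1 x hxI z hz
      have h1 : (x : MP d F) * (x : MP d F) = (z * z) • (1 : MP d F) := by
        rw [hz, two_smul_sq]
      have hzz1 : z * z = 1 := by
        rcases hzz with rfl | rfl <;> ring
      rw [hxx, hzz1, one_smul] at h1
      have h3 := congrFun (congrFun h1 (Sum.inl ⟨0, hd1⟩)) (Sum.inl ⟨0, hd1⟩)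
      rw [Matrix.neg_apply, Matrix.one_apply_eq] at h3
      apply h2
      linear_combination (-1 : F) * h3
    have hgood := h x hxΩ ⟨-1, by
      rw [Units.val_pow_eq_pow_val, pow_two, hxx, neg_smul, one_smul]⟩ hns
    obtain ⟨W, hWi, hWnd, hWm, hWt⟩ := (goodE_iff d m (x : MP d F)).1 hgood
    apply hWt.1
    rw [glue_plusQ_iff h2]
    have hodd : Fintype.card F % 2 = 1 := by
      apply FiniteField.odd_card_of_char_ne_two
      rw [ringChar.eq F p]
      exact hp2
    by_cases hq4 : Fintype.card F % 4 = 3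
    · have hde : Even d := by
        rcases hcase with h | h
        · exact h
        · omega
      have hm4 : m % 4 = 0 := by
        have : ¬ m % 4 = 2 := fun h' => hD (Or.inl ⟨hde, hq4, h'⟩)
        rcases hme with ⟨t, ht⟩
        omega
      rw [plus_iff_of_sq_neg_one h2 hs hq4 hf hff hWi hWnd, hWm]
      exact hm4
    · obtain ⟨ι, hι⟩ := FiniteField.isSquare_neg_one_iff.2 hq4
      exact plus_of_sq_neg_one h2 hs hf hff ι hι.symm hWi hWnd
  · -- RHS ⇒ all fix
    intro hD x hxΩ hsc hns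
    obtain ⟨z, hz⟩ := hsc
    have hxI := Cfsg.Agent.Lib.Helper81.On.mem_isom_of_mem_omega d x hxΩ
    have hf : Isom (pol (QP d F)) (Matrix.toLin' (x : MP d F)) := glue_isom (br_isomQ d x hxI)
    have hx2I : x ^ 2 ∈ Cfsg.isometryGroup F (Cfsg.quadFormPlus d F) := Subgroup.pow_mem _ hxI 2
    have hzz := Cfsg.Agent.Lib.Helper81.On.scalar_pm_one d hd1 (x ^ 2) hx2I z hz
    have hAA : (x : MP d F) * (x : MP d F) = z • (1 : MP d F) := by
      rw [← pow_two, ← Units.val_pow_eq_pow_val]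
      exact hz
    rcases hzz with rfl | rfl
    · -- involution
      have hff : (Matrix.toLin' (x : MP d F)) * (Matrix.toLin' (x : MP d F)) = 1 := by
        rw [two_toLin_sq, hAA, one_smul, Matrix.toLin'_one]
        rfl
      obtain ⟨W, hWi, hWnd, hWm, hWt⟩ :=
        fixes_of_invol_even h2 hs hV hf hff m hme hm (by rw [hfin]; omega) False
      exact (goodE_iff d m (x : MP d F)).2 ⟨W, hWi, hWnd, hWm, by rw [glue_plusQ_iff h2]; exact hWt⟩
    · -- `x² = -1`
      have hxx : (x : MP d F) * (x : MP d F) = -1 := by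
        rw [hAA, neg_smul, one_smul]
      have hff : (Matrix.toLin' (x : MP d F)) * (Matrix.toLin' (x : MP d F)) = -1 := by
        rw [two_toLin_sq, hxx, map_neg, Matrix.toLin'_one]
        rfl
      rcases hD with ⟨hde, hq4, hm4⟩ | ⟨hdo, hq8⟩
      · obtain ⟨W, hWi, hWnd, hWm⟩ :=
          exists_inv_nd_of_sq_neg_one h2 hs hV hf hff m hme (by rw [hfin]; omega)
        refine (goodE_iff d m (x : MP d F)).2 ⟨W, hWi, hWnd, hWm, ?_⟩
        rw [glue_plusQ_iff h2, plus_iff_of_sq_neg_one h2 hs hq4 hf hff hWi hWnd, hWm]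
        constructor
        · intro h; omega
        · exact False.elim
      · exact absurd hxx (Cfsg.Agent.Lib.Helper81.On.sq_neg_one_not_mem h2 d hdo hq8 x hxΩ)

end concrete

end Cfsg.Agent.Lib.Helper65.Qe
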