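import Mathlib
import Cfsg.Agent.Lib.Helper65.QeMainP
import Cfsg.Agent.Lib.Helper65.QeMainTwo
import Cfsg.Agent.Lib.Helper65.QeMainOdd

/-! # Qe hive (S5988, helper65): the main theorem -/

set_option autoImplicit false
open scoped MatrixGroups

namespace Cfsg.Agent.Lib.Helper65.Qe

open Polynomial Module Matrix
open Cfsg.Agent.Lib.Helper2.BG Cfsg.Agent.Lib.Helper99 Cfsg.Agent.Lib.Helper48.Ti
open Cfsg.Agent.Lib.Helper5.Hy

theorem main {F : Type*} [Field F] [Fintype F] {p : ℕ} [Fact p.Prime] [CharP F p] {q : ℕ} (hq : Fintype.card F = q)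
    (d m : ℕ) (hd : 4 ≤ d) (hm : 2 ≤ m) (hme : Even m) (hmd : m < d)
    (r : ℕ) [Fact r.Prime]
    (hrΩ : r ∣ Nat.card {W : Submodule F (Fin d ⊕ Fin d → F) // Module.finrank F ↥W = m ∧ Cfsg.Geo.IsNondegenerateOn (QuadraticMap.polar (Cfsg.quadFormPlus d F)) W ∧ ¬ Cfsg.Geo.IsPlusTypeOn (Cfsg.quadFormPlus d F) W})
    (i c : ℕ) (hi : i = orderOf (q : ZMod r)) (hc : c = if Even i then i else 2 * i) :
    (∀ x : GL (Fin d ⊕ Fin d) F, x ∈ Cfsg.Geo.omegaGL (Cfsg.quadFormPlus d F) →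
      (∃ z : F, ((x ^ r : GL (Fin d ⊕ Fin d) F) : Matrix (Fin d ⊕ Fin d) (Fin d ⊕ Fin d) F) = z • (1 : Matrix (Fin d ⊕ Fin d) (Fin d ⊕ Fin d) F)) →
      (∀ z : F, (x : Matrix (Fin d ⊕ Fin d) (Fin d ⊕ Fin d) F) ≠ z • (1 : Matrix (Fin d ⊕ Fin d) (Fin d ⊕ Fin d) F)) →
      ∃ W : Submodule F (Fin d ⊕ Fin d → F), (Module.finrank F ↥W = m ∧ Cfsg.Geo.IsNondegenerateOn (QuadraticMap.polar (Cfsg.quadFormPlus d F)) W ∧ ¬ Cfsg.Geo.IsPlusTypeOn (Cfsg.quadFormPlus d F) W) ∧ W.map (Matrix.toLin' (x : Matrix (Fin d ⊕ Fin d) (Fin d ⊕ Fin d) F)) ≤ W) ↔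
    ((r = 2 ∧ p ≠ 2 ∧ ((Even d ∧ q % 4 = 3 ∧ m % 4 = 2) ∨ (Odd d ∧ q % 8 ≠ 1))) ∨
     (r ≠ p ∧ 2 < r ∧ Odd i ∧ c ≤ m ∧ 0 < m % c ∧ m % c < (2 * d) % c) ∨
     (r ≠ p ∧ 2 < r ∧ Even i ∧
       (((2 * d) % c = 0 ∧ (Odd ((2 * d) / i) ∨ (m % c = 0 ∧ Odd (m / i)))) ∨
        (i ≤ m ∧ ((0 < m % c ∧ m % c < (2 * d) % c) ∨
                  (0 < m % c ∧ m % c = (2 * d) % c ∧ Odd ((2 * d + m - 2 * ((2 * d) % c)) / i)) ∨
                  (m % c = 0 ∧ 0 < (2 * d) % c ∧ Odd (m / i))))))) := by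
  subst hq
  have hr : r.Prime := Fact.out
  by_cases hrp : r = p
  · -- `r = p`
    constructor
    · intro h
      exfalso
      apply main_p (F := F) (p := p) d m hd hme
      intro x hx hsc hns
      exact h x hx (by rw [hrp]; exact hsc) hns
    · rintro (⟨h2, hp2, -⟩ | ⟨hne, -⟩ | ⟨hne, -⟩)
      · exact absurd (hrp.symm.trans h2) hp2
      · exact absurd hrp hne
      · exact absurd hrp hne
  · by_cases hr2 : r = 2
    · -- `r = 2 ≠ p`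
      have hp2 : p ≠ 2 := fun h => hrp (hr2.trans h.symm)
      have key := main_two (F := F) (p := p) hp2 d m hd hm hme hmd
      subst hr2
      constructor
      · intro h
        exact Or.inl ⟨rfl, hp2, key.1 h⟩
      · rintro (⟨-, -, hD⟩ | ⟨-, h3, -⟩ | ⟨-, h3, -⟩)
        · exact key.2 hD
        · omega
        · omega
    · -- `r` odd, `r ≠ p`
      have h2r : 2 < r := by
        have := hr.two_le
        omega
      have key : (∀ x : GL (Fin d ⊕ Fin d) F, x ∈ Cfsg.Geo.omegaGL (Cfsg.quadFormPlus d F) →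
          (∃ z : F, ((x ^ r : GL (Fin d ⊕ Fin d) F) : MP d F) = z • (1 : MP d F)) →
          (∀ z : F, (x : MP d F) ≠ z • (1 : MP d F)) → GoodE d m x) ↔ RhsS i c (2 * d) m :=
        ⟨odd_nec (F := F) (p := p) r hr2 hrp d m hd hm hme hmd i c hi hc hrΩ,
          fun hR x hx hsc _ => odd_suff (F := F) (p := p) r hr2 hrp d m hd hm hme hmd i c hi hc hR x hx hsc⟩
      constructor
      · intro h
        rcases key.1 h with ⟨hio, h'⟩ | ⟨hie, h'⟩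
        · exact Or.inr (Or.inl ⟨hrp, h2r, hio, h'⟩)
        · exact Or.inr (Or.inr ⟨hrp, h2r, hie, h'⟩)
      · rintro (⟨h2, -⟩ | ⟨-, -, hio, h'⟩ | ⟨-, -, hie, h'⟩)
        · exact absurd h2 hr2
        · exact key.2 (Or.inl ⟨hio, h'⟩)
        · exact key.2 (Or.inr ⟨hie, h'⟩)

end Cfsg.Agent.Lib.Helper65.Qe
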