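import Mathlib

set_option autoImplicit false

namespace Cfsg.Agent.Lib.Helper65

open Module

/-- trace of left multiplication by a group element on the group algebra -/
theorem trace_mulLeft_of {Γ : Type*} [Group Γ] [Fintype Γ] [DecidableEq Γ] (g : Γ) :
    LinearMap.trace ℂ (MonoidAlgebra ℂ Γ) (LinearMap.mulLeft ℂ (MonoidAlgebra.of ℂ Γ g))
      = if g = 1 then (Fintype.card Γ : ℂ) else 0 := by
  rw [LinearMap.trace_eq_matrix_trace ℂ (MonoidAlgebra.basis Γ ℂ)]
  simp only [Matrix.trace, Matrix.diag, LinearMap.toMatrix_apply, MonoidAlgebra.basis_apply,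
    LinearMap.mulLeft_apply, MonoidAlgebra.of_apply, MonoidAlgebra.single_mul_single, mul_one]
  have h : ∀ x : Γ, ((MonoidAlgebra.basis Γ ℂ).repr (MonoidAlgebra.single (g * x) (1:ℂ))) x
      = if g = 1 then 1 else 0 := by
    intro x
    show (MonoidAlgebra.single (g * x) (1:ℂ)).coeff x = _
    rw [MonoidAlgebra.coeff_single, Finsupp.single_apply]
    simp
  simp only [h]
  split_ifs <;> simp

/-- trace of a blockwise scalar map on a product of matrix algebras -/
theorem trace_pi_smul {n : ℕ} (d : Fin n → ℕ) (c : Fin n → ℂ)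
    (f : (Π i, Matrix (Fin (d i)) (Fin (d i)) ℂ) →ₗ[ℂ] (Π i, Matrix (Fin (d i)) (Fin (d i)) ℂ))
    (hf : ∀ x i, f x i = c i • x i) :
    LinearMap.trace ℂ _ f = ∑ i, c i * (d i : ℂ) ^ 2 := by
  classical
  let b := Pi.basis (fun i => Matrix.stdBasis ℂ (Fin (d i)) (Fin (d i)))
  rw [LinearMap.trace_eq_matrix_trace ℂ b]
  have hfb : ∀ idx, f (b idx) = c idx.1 • b idx := by
    rintro ⟨i, jk⟩
    funext i'
    rw [hf, Pi.smul_apply]
    by_cases h : i' = i
    · subst h; rfl
    · have : (b ⟨i, jk⟩) i' = 0 := by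
        show (Pi.basis (fun i => Matrix.stdBasis ℂ (Fin (d i)) (Fin (d i))) ⟨i, jk⟩) i' = 0
        rw [Pi.basis_apply]
        exact Pi.single_eq_of_ne h _
      rw [this, smul_zero, smul_zero]
  simp only [Matrix.trace, Matrix.diag, LinearMap.toMatrix_apply, hfb, map_smul,
    Basis.repr_self, Finsupp.smul_apply, Finsupp.single_eq_same, smul_eq_mul, mul_one]
  rw [Fintype.sum_sigma]
  refine Finset.sum_congr rfl fun i _ => ?_
  simp [pow_two, mul_comm]

/-- central group elements are central in the group algebra -/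
theorem of_central_comm {Γ : Type*} [Group Γ] {z : Γ} (hz : z ∈ Subgroup.center Γ)
    (b : MonoidAlgebra ℂ Γ) :
    MonoidAlgebra.of ℂ Γ z * b = b * MonoidAlgebra.of ℂ Γ z := by
  induction b using MonoidAlgebra.induction_on with
  | of g =>
    rw [← map_mul, ← map_mul, Subgroup.mem_center_iff.mp hz g]
  | add x y hx hy => rw [mul_add, add_mul, hx, hy]
  | smul r x hx => rw [mul_smul_comm, smul_mul_assoc, hx]

/-- sum of a multiplicative function over a finite group -/
theorem sum_mulchar_eq {Z : Type*} [Group Z] [Fintype Z] (χ : Z → ℂ)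
    (hmul : ∀ a b, χ (a * b) = χ a * χ b) (hne : ∃ z, χ z ≠ 1) : ∑ z, χ z = 0 := by
  obtain ⟨z₁, hz₁⟩ := hne
  have h1 : ∑ z, χ z = χ z₁ * ∑ z, χ z := by
    rw [Finset.mul_sum]
    rw [← Equiv.sum_comp (Equiv.mulLeft z₁) χ]
    refine Finset.sum_congr rfl fun z _ => ?_
    rw [Equiv.coe_mulLeft, hmul]
  have h2 : (χ z₁ - 1) * ∑ z, χ z = 0 := by
    rw [sub_mul, one_mul, ← h1, sub_self]
  rcases mul_eq_zero.mp h2 with h | h
  · exact absurd (sub_eq_zero.mp h) hz₁
  · exact h


/-- Schur: for a central subgroup `Z` inside the commutator subgroup of a finite group,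
the square of the exponent of `Z` divides the index. -/
theorem exponent_sq_dvd_index {Γ : Type*} [Group Γ] [Finite Γ] (Z : Subgroup Γ)
    (hZc : Z ≤ Subgroup.center Γ) (hZd : Z ≤ commutator Γ) :
    (Monoid.exponent Z) ^ 2 ∣ Z.index := by
  classical
  have _ : Fintype Γ := Fintype.ofFinite Γ
  have _ : NeZero (Nat.card Γ : ℂ) := ⟨by exact_mod_cast (Nat.card_pos (α := Γ)).ne'⟩
  obtain ⟨n, d, hd, ⟨φ⟩⟩ :=
    IsSemisimpleRing.exists_algEquiv_pi_matrix_of_isAlgClosed ℂ (MonoidAlgebra ℂ Γ)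
  let _ : CommGroup Z :=
    { (inferInstance : Group Z) with
      mul_comm := fun a b => Subtype.ext (Subgroup.mem_center_iff.mp (hZc b.2) a.1) }
  have hexp0 : Monoid.exponent Z ≠ 0 := Monoid.exponent_ne_zero_of_finite
  have _ : NeZero (Monoid.exponent Z) := ⟨hexp0⟩
  obtain ⟨ψ⟩ := CommGroup.monoidHom_mulEquiv_of_hasEnoughRootsOfUnity Z ℂ
  obtain ⟨z₀, hz₀⟩ := Monoid.exists_orderOf_eq_exponent (G := Z)
    (Monoid.exponent_ne_zero.mp hexp0)
  let lam : Z →* ℂˣ := ψ.symm z₀
  have hlam : orderOf lam = Monoid.exponent Z := by rw [MulEquiv.orderOf_eq, hz₀]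
  -- the representations
  let ρ : (i : Fin n) → Γ →* Matrix (Fin (d i)) (Fin (d i)) ℂ := fun i =>
    (Pi.evalMonoidHom (fun j => Matrix (Fin (d j)) (Fin (d j)) ℂ) i).comp
      ((φ : MonoidAlgebra ℂ Γ →* (Π j, Matrix (Fin (d j)) (Fin (d j)) ℂ)).comp
        (MonoidAlgebra.of ℂ Γ))
  have hρ : ∀ i g, ρ i g = φ (MonoidAlgebra.of ℂ Γ g) i := fun i g => rfl
  -- central elements act by scalars
  have hscal : ∀ i (z : Z), ∃ c : ℂ, ρ i z = c • (1 : Matrix (Fin (d i)) (Fin (d i)) ℂ) := by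
    intro i z
    have hcomm : ∀ m : Matrix (Fin (d i)) (Fin (d i)) ℂ, Commute m (ρ i z) := by
      intro m
      have h1 := congrArg (fun x => φ x i)
        (of_central_comm (hZc z.2) (φ.symm (Pi.single i m)))
      simp only [map_mul, AlgEquiv.apply_symm_apply, Pi.mul_apply, Pi.single_eq_same] at h1
      exact h1.symm
    obtain ⟨c, hc⟩ := Matrix.mem_range_scalar_of_commute_single
      (M := ρ i z) (fun j k _ => hcomm _)
    refine ⟨c, ?_⟩
    rw [← hc, Matrix.scalar_apply, Matrix.smul_one_eq_diagonal]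
  choose μ hμ using hscal
  have hne : ∀ i, Nonempty (Fin (d i)) := fun i => ⟨⟨0, Nat.pos_of_ne_zero (hd i).out⟩⟩
  have hsmul_inj : ∀ i (a b : ℂ), a • (1 : Matrix (Fin (d i)) (Fin (d i)) ℂ) = b • 1 → a = b := by
    intro i a b h
    have := hne i
    rw [Matrix.smul_one_eq_diagonal, Matrix.smul_one_eq_diagonal, ← Matrix.scalar_apply,
      ← Matrix.scalar_apply] at h
    exact Matrix.scalar_inj.mp h
  have hμ1 : ∀ i, μ i 1 = 1 := by
    intro i
    apply hsmul_inj i
    rw [← hμ, one_smul]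
    show ρ i (1 : Γ) = 1
    rw [map_one]
  have hμmul : ∀ i (a b : Z), μ i (a * b) = μ i a * μ i b := by
    intro i a b
    apply hsmul_inj i
    rw [← hμ]
    show ρ i ((a : Γ) * (b : Γ)) = _
    rw [map_mul, hμ, hμ, smul_mul_smul_comm, one_mul]
  have hμpow : ∀ i (z : Z), μ i z ^ d i = 1 := by
    intro i z
    let f : Γ →* ℂˣ := (Matrix.detMonoidHom.comp (ρ i)).toHomUnits
    have h1 : f z = 1 := by
      have := Abelianization.commutator_subset_ker f (hZd z.2)
      exact this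
    have h2 : ((f z : ℂˣ) : ℂ) = (ρ i z).det := by
      rw [MonoidHom.coe_toHomUnits]; rfl
    rw [h1, hμ, Matrix.det_smul, Matrix.det_one, mul_one, Fintype.card_fin, Units.val_one] at h2
    exact h2.symm
  -- trace identity
  have htrace : ∀ z : Z, ∑ i, μ i z * (d i : ℂ) ^ 2
      = if (z : Γ) = 1 then (Fintype.card Γ : ℂ) else 0 := by
    intro z
    rw [← trace_mulLeft_of (z : Γ)]
    rw [← LinearMap.trace_conj' (LinearMap.mulLeft ℂ (MonoidAlgebra.of ℂ Γ (z : Γ)))
      φ.toLinearEquiv]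
    symm
    apply trace_pi_smul d (fun i => μ i z)
    intro x i
    rw [LinearEquiv.conj_apply]
    show (φ (MonoidAlgebra.of ℂ Γ (z : Γ) * φ.symm x)) i = _
    rw [map_mul, AlgEquiv.apply_symm_apply, Pi.mul_apply, ← hρ, hμ, smul_mul_assoc, one_mul]
  -- orthogonality
  let I : Finset (Fin n) := Finset.univ.filter (fun i => ∀ z : Z, μ i z = ((lam z : ℂˣ) : ℂ))
  have hS : ∀ i, ∑ z : Z, μ i z * (((lam z)⁻¹ : ℂˣ) : ℂ)
      = if i ∈ I then (Fintype.card Z : ℂ) else 0 := by
    intro i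
    split_ifs with hi
    · have hi' : ∀ z : Z, μ i z = ((lam z : ℂˣ) : ℂ) := (Finset.mem_filter.mp hi).2
      have : ∀ z : Z, μ i z * (((lam z)⁻¹ : ℂˣ) : ℂ) = 1 := by
        intro z
        rw [hi' z, ← Units.val_mul, mul_inv_cancel, Units.val_one]
      simp only [this, Finset.sum_const, Finset.card_univ, nsmul_eq_mul, mul_one]
    · apply sum_mulchar_eq
      · intro a b
        rw [hμmul, map_mul, mul_inv, Units.val_mul]
        ring
      · by_contra hcon
        push Not at hcon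
        apply hi
        refine Finset.mem_filter.mpr ⟨Finset.mem_univ _, fun z => ?_⟩
        have h1 := hcon z
        have h2 : μ i z = μ i z * (((lam z)⁻¹ : ℂˣ) : ℂ) * ((lam z : ℂˣ) : ℂ) := by
          rw [mul_assoc, ← Units.val_mul, inv_mul_cancel, Units.val_one, mul_one]
        rw [h2, h1, one_mul]
  -- double counting
  have hcount : (Fintype.card Γ : ℂ) = ∑ i ∈ I, (Fintype.card Z : ℂ) * (d i : ℂ) ^ 2 := by
    have h1 : ∑ z : Z, (((lam z)⁻¹ : ℂˣ) : ℂ) * ∑ i, μ i z * (d i : ℂ) ^ 2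
        = (Fintype.card Γ : ℂ) := by
      simp only [htrace]
      rw [Finset.sum_eq_single (1 : Z)]
      · simp
      · intro z _ hz
        have : (z : Γ) ≠ 1 := fun h => hz (Subtype.ext h)
        rw [if_neg this, mul_zero]
      · intro h; exact absurd (Finset.mem_univ _) h
    rw [← h1]
    simp only [Finset.mul_sum]
    rw [Finset.sum_comm]
    have h2 : ∀ i, ∑ z : Z, (((lam z)⁻¹ : ℂˣ) : ℂ) * (μ i z * (d i : ℂ) ^ 2)
        = (if i ∈ I then (Fintype.card Z : ℂ) else 0) * (d i : ℂ) ^ 2 := by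
      intro i
      rw [← hS i, Finset.sum_mul]
      refine Finset.sum_congr rfl fun z _ => ?_
      ring
    simp only [h2, ite_mul, zero_mul]
    rw [← Finset.sum_filter]
    congr 1
    ext i
    simp
  -- back to natural numbers
  have hnat : Fintype.card Γ = Fintype.card Z * ∑ i ∈ I, (d i) ^ 2 := by
    have : (Fintype.card Γ : ℂ) = ((Fintype.card Z * ∑ i ∈ I, (d i) ^ 2 : ℕ) : ℂ) := by
      rw [hcount, Finset.mul_sum]
      push_cast
      rfl
    exact_mod_cast this
  have hidx : Z.index = ∑ i ∈ I, (d i) ^ 2 := by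
    have h1 := Subgroup.index_mul_card Z
    rw [Nat.card_eq_fintype_card, Nat.card_eq_fintype_card, hnat, mul_comm] at h1
    exact Nat.eq_of_mul_eq_mul_left Fintype.card_pos h1
  rw [hidx]
  apply Finset.dvd_sum
  intro i hi
  have hi' : ∀ z : Z, μ i z = ((lam z : ℂˣ) : ℂ) := (Finset.mem_filter.mp hi).2
  apply pow_dvd_pow_of_dvd
  rw [← hlam, orderOf_dvd_iff_pow_eq_one]
  refine MonoidHom.ext fun z => ?_
  apply Units.ext
  rw [MonoidHom.pow_apply, Units.val_pow_eq_pow_val, ← hi', hμpow]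
  rfl

end Cfsg.Agent.Lib.Helper65
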