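import Mathlib

/-!
# A double cover of the symmetric / alternating group from an anticommuting system

Given a ring `A` of characteristic 3 with `-1 ≠ 1` and elements `γ_1, …, γ_n` with `γ_i² = 1`,
`γ_i γ_j = -γ_j γ_i`, the elements `t_{ij} = γ_i - γ_j` satisfy `t_{ij}² = -1` and
`t_{ij} t_{kl} = - t_{σk σl} t_{ij}` with `σ = (i j)`. Inside `Aˣ × Perm (Fin n)` the pairs
`τ_{ij} = (t_{ij}, (i j))` generate a group `H n` mapping onto `Perm (Fin n)` with kernel `{1, z}`,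
`z = (-1, 1)`.
-/

set_option autoImplicit false

namespace Cfsg.Agent.Lib.Helper65.SpinCover

open Equiv
open scoped commutatorElement

/-- An anticommuting system in a ring of characteristic three. -/
structure CSys (n : ℕ) (A : Type*) [Ring A] where
  γ : Fin n → A
  sq : ∀ i, γ i * γ i = 1
  anti : ∀ i j, i ≠ j → γ i * γ j = -(γ j * γ i)
  three : (3 : A) = 0
  ne : (-1 : A) ≠ 1

variable {n : ℕ} {A : Type*} [Ring A] (S : CSys n A)

namespace CSys

/-- `t i j = γ i - γ j`. -/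
def t (i j : Fin n) : A := S.γ i - S.γ j

lemma two_eq (S : CSys n A) : (2 : A) = -1 := by
  have h : (2 : A) = 3 - 1 := by norm_num
  rw [h, S.three, zero_sub]

lemma t_sq {i j : Fin n} (h : i ≠ j) : S.t i j * S.t i j = -1 := by
  unfold t
  have e : (S.γ i - S.γ j) * (S.γ i - S.γ j)
      = S.γ i * S.γ i - S.γ i * S.γ j - S.γ j * S.γ i + S.γ j * S.γ j := by noncomm_ring
  rw [e, S.sq i, S.sq j, S.anti i j h, ← two_eq S]
  noncomm_ring
  simp

lemma t_swap (i j : Fin n) : S.t j i = -S.t i j := by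
  unfold t; noncomm_ring

lemma t_mul_γ {i j : Fin n} (h : i ≠ j) (k : Fin n) :
    S.t i j * S.γ k = -(S.γ (swap i j k) * S.t i j) := by
  unfold t
  by_cases hki : k = i
  · subst hki
    rw [swap_apply_left, sub_mul, mul_sub, S.sq k, S.sq j]
    noncomm_ring
  · by_cases hkj : k = j
    · subst hkj
      rw [swap_apply_right, sub_mul, mul_sub, S.sq k, S.sq i]
      noncomm_ring
    · rw [swap_apply_of_ne_of_ne hki hkj, sub_mul, mul_sub, S.anti i k (Ne.symm hki),
        S.anti j k (Ne.symm hkj)]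
      noncomm_ring

lemma t_mul_t {i j : Fin n} (h : i ≠ j) (k l : Fin n) :
    S.t i j * S.t k l = -(S.t (swap i j k) (swap i j l) * S.t i j) := by
  have h1 := S.t_mul_γ h k
  have h2 := S.t_mul_γ h l
  calc S.t i j * S.t k l = S.t i j * S.γ k - S.t i j * S.γ l := by unfold t; noncomm_ring
    _ = -(S.γ (swap i j k) * S.t i j) - -(S.γ (swap i j l) * S.t i j) := by rw [h1, h2]
    _ = -(S.t (swap i j k) (swap i j l) * S.t i j) := by
        show _ = -((S.γ (swap i j k) - S.γ (swap i j l)) * S.t i j)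
        noncomm_ring

/-- the unit `t i j` (or `1` when `i = j`). -/
def u (i j : Fin n) : Aˣ :=
  if h : i ≠ j then
    ⟨S.t i j, -S.t i j, by rw [mul_neg, S.t_sq h, neg_neg], by rw [neg_mul, S.t_sq h, neg_neg]⟩
  else 1

lemma u_val {i j : Fin n} (h : i ≠ j) : ((S.u i j : Aˣ) : A) = S.t i j := by
  unfold u; rw [dif_pos h]

/-- the ambient group -/
abbrev G₀ (_S : CSys n A) := Aˣ × Perm (Fin n)

/-- the central element `(-1, 1)`. -/
def z : S.G₀ := (-1, 1)

/-- the generator `(t i j, swap i j)`. -/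
def τ (i j : Fin n) : S.G₀ := (S.u i j, swap i j)

lemma z_mul_z : S.z * S.z = 1 := by
  unfold z
  ext
  · simp
  · simp

lemma z_comm (x : S.G₀) : S.z * x = x * S.z := by
  unfold z
  refine Prod.ext ?_ ?_
  · apply Units.ext; simp
  · simp

lemma z_ne_one : S.z ≠ 1 := by
  intro h
  have h1 : (S.z).1 = 1 := by rw [h]; rfl
  have h2 : ((-1 : Aˣ) : A) = 1 := by
    have : (S.z).1 = (-1 : Aˣ) := rfl
    rw [← this, h1]; rfl
  apply S.ne
  simpa using h2

lemma z_inv : S.z⁻¹ = S.z := by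
  rw [inv_eq_iff_mul_eq_one, S.z_mul_z]

lemma τ_mul_self {i j : Fin n} (h : i ≠ j) : S.τ i j * S.τ i j = S.z := by
  unfold τ z
  refine Prod.ext ?_ ?_
  · apply Units.ext
    simp only [Prod.mk_mul_mk, Units.val_mul, S.u_val h, S.t_sq h]
    simp
  · simp

lemma τ_swap {i j : Fin n} (h : i ≠ j) : S.τ j i = S.z * S.τ i j := by
  unfold τ z
  refine Prod.ext ?_ ?_
  · apply Units.ext
    simp only [Prod.mk_mul_mk, Units.val_mul, S.u_val h, S.u_val (Ne.symm h), S.t_swap i j]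
    simp
  · simp [swap_comm]

lemma τ_inv {i j : Fin n} (h : i ≠ j) : (S.τ i j)⁻¹ = S.z * S.τ i j := by
  rw [inv_eq_iff_mul_eq_one, S.z_comm, ← mul_assoc, S.τ_mul_self h, S.z_mul_z]

lemma τ_mul_τ {i j : Fin n} (h : i ≠ j) {k l : Fin n} (hkl : k ≠ l) :
    S.τ i j * S.τ k l = S.z * S.τ (swap i j k) (swap i j l) * S.τ i j := by
  have hne : swap i j k ≠ swap i j l := fun e => hkl ((swap i j).injective e)
  unfold τ z
  refine Prod.ext ?_ ?_
  · apply Units.ext
    simp only [Prod.mk_mul_mk, Units.val_mul, S.u_val h, S.u_val hkl, S.u_val hne,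
      S.t_mul_t h k l]
    simp
  · simp only [Prod.mk_mul_mk, one_mul]
    rw [swap_apply_apply]
    simp [mul_assoc]

/-- generators involving only the first `m` points -/
def gen (m : ℕ) : Set S.G₀ :=
  {x | x = S.z ∨ ∃ i j : Fin n, i ≠ j ∧ i.val < m ∧ j.val < m ∧ x = S.τ i j}

/-- the subgroup generated by `gen m`. -/
def H (m : ℕ) : Subgroup S.G₀ := Subgroup.closure (S.gen m)

lemma z_mem (m : ℕ) : S.z ∈ S.H m := Subgroup.subset_closure (Or.inl rfl)

lemma τ_mem {m : ℕ} {i j : Fin n} (h : i ≠ j) (hi : i.val < m) (hj : j.val < m) :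
    S.τ i j ∈ S.H m := Subgroup.subset_closure (Or.inr ⟨i, j, h, hi, hj, rfl⟩)

lemma H_mono {m m' : ℕ} (h : m ≤ m') : S.H m ≤ S.H m' := by
  apply Subgroup.closure_mono
  rintro x (hx | ⟨i, j, hij, hi, hj, rfl⟩)
  · exact Or.inl hx
  · exact Or.inr ⟨i, j, hij, lt_of_lt_of_le hi h, lt_of_lt_of_le hj h, rfl⟩

lemma H_fixes {m : ℕ} {x : S.G₀} (hx : x ∈ S.H m) (k : Fin n) (hk : m ≤ k.val) : x.2 k = k := by
  induction hx using Subgroup.closure_induction with
  | mem x hx =>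
    rcases hx with rfl | ⟨i, j, hij, hi, hj, rfl⟩
    · rfl
    · show swap i j k = k
      apply swap_apply_of_ne_of_ne
      · intro e; rw [e] at hk; omega
      · intro e; rw [e] at hk; omega
  | one => rfl
  | mul x y _ _ hx hy =>
    show x.2 (y.2 k) = k
    rw [hy, hx]
  | inv x _ hx =>
    show (x.2)⁻¹ k = k
    rw [Perm.inv_eq_iff_eq]; exact hx.symm

/-- the coset form. -/
def Form (m : ℕ) (p : Fin n) (x : S.G₀) : Prop :=
  x ∈ S.H m ∨ ∃ k : Fin n, k.val < m ∧ ∃ h ∈ S.H m, x = h * S.τ k p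

lemma form_mul_z {m : ℕ} {p : Fin n} {x : S.G₀} (hx : S.Form m p x) : S.Form m p (x * S.z) := by
  rcases hx with hx | ⟨k, hk, h, hh, rfl⟩
  · exact Or.inl (mul_mem hx (S.z_mem m))
  · refine Or.inr ⟨k, hk, h * S.z, mul_mem hh (S.z_mem m), ?_⟩
    rw [mul_assoc, mul_assoc, S.z_comm]

lemma form_mul_τ_lt {m : ℕ} {p : Fin n} (hp : p.val = m) {x : S.G₀} (hx : S.Form m p x)
    {a b : Fin n} (hab : a ≠ b) (ha : a.val < m) (hb : b.val < m) :
    S.Form m p (x * S.τ a b) := by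
  rcases hx with hx | ⟨k, hk, h, hh, rfl⟩
  · exact Or.inl (mul_mem hx (S.τ_mem hab ha hb))
  · have hpa : p ≠ a := fun e => by rw [e] at hp; omega
    have hpb : p ≠ b := fun e => by rw [e] at hp; omega
    have hkp : k ≠ p := fun e => by rw [e] at hk; omega
    have hsk : swap a b k ≠ p := by
      intro e
      have : swap a b k = swap a b p := by rw [e, swap_apply_of_ne_of_ne hpa hpb]
      exact hkp ((swap a b).injective this)
    have hskm : (swap a b k).val < m := by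
      by_cases h1 : k = a
      · rw [h1, swap_apply_left]; exact hb
      · by_cases h2 : k = b
        · rw [h2, swap_apply_right]; exact ha
        · rw [swap_apply_of_ne_of_ne h1 h2]; exact hk
    -- τ a b * τ (σk) p = z * τ k p * τ a b
    have R := S.τ_mul_τ hab hsk
    rw [swap_apply_self, swap_apply_of_ne_of_ne hpa hpb] at R
    -- so τ k p * τ a b = z * τ a b * τ (σ k) p
    have R' : S.τ k p * S.τ a b = S.z * S.τ a b * S.τ (swap a b k) p := by
      rw [mul_assoc, R, ← mul_assoc, ← mul_assoc, S.z_mul_z, one_mul]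
    refine Or.inr ⟨swap a b k, hskm, h * S.z * S.τ a b,
      mul_mem (mul_mem hh (S.z_mem m)) (S.τ_mem hab ha hb), ?_⟩
    rw [mul_assoc h, R']
    simp only [mul_assoc]

lemma form_mul_τ_p {m : ℕ} {p : Fin n} (hp : p.val = m) {x : S.G₀} (hx : S.Form m p x)
    {a : Fin n} (ha : a.val < m) :
    S.Form m p (x * S.τ a p) := by
  have hap : a ≠ p := fun e => by rw [e] at ha; omega
  rcases hx with hx | ⟨k, hk, h, hh, rfl⟩
  · exact Or.inr ⟨a, ha, x, hx, rfl⟩
  · have hkp : k ≠ p := fun e => by rw [e] at hk; omega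
    by_cases hka : k = a
    · subst hka
      left
      rw [mul_assoc, S.τ_mul_self hkp]
      exact mul_mem hh (S.z_mem m)
    · have R := S.τ_mul_τ hkp hap
      rw [swap_apply_of_ne_of_ne (Ne.symm hka) hap, swap_apply_right] at R
      refine Or.inr ⟨k, hk, h * S.z * S.τ a k,
        mul_mem (mul_mem hh (S.z_mem m)) (S.τ_mem (Ne.symm hka) ha hk), ?_⟩
      rw [mul_assoc h, R]
      simp only [mul_assoc]

lemma form_mul_gen {m : ℕ} {p : Fin n} (hp : p.val = m) {x : S.G₀} (hx : S.Form m p x)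
    {y : S.G₀} (hy : y ∈ S.gen (m + 1)) : S.Form m p (x * y) := by
  rcases hy with rfl | ⟨a, b, hab, ha, hb, rfl⟩
  · exact S.form_mul_z hx
  · by_cases ha' : a.val < m
    · by_cases hb' : b.val < m
      · exact S.form_mul_τ_lt hp hx hab ha' hb'
      · have : b = p := Fin.ext (by omega)
        subst this
        exact S.form_mul_τ_p hp hx ha'
    · have hap : a = p := Fin.ext (by omega)
      subst hap
      have hb' : b.val < m := by
        rcases Nat.lt_or_ge b.val m with h | h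
        · exact h
        · exfalso; apply hab; exact Fin.ext (by omega)
      rw [S.τ_swap (Ne.symm hab), ← mul_assoc]
      exact S.form_mul_τ_p hp (S.form_mul_z hx) hb'

lemma form_of_mem {m : ℕ} {p : Fin n} (hp : p.val = m) {x : S.G₀} (hx : x ∈ S.H (m + 1)) :
    S.Form m p x := by
  induction hx using Subgroup.closure_induction_right with
  | one => exact Or.inl (one_mem _)
  | mul_right x _ y hy ih => exact S.form_mul_gen hp ih hy
  | mul_inv_cancel x _ y hy ih =>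
    rcases hy with rfl | ⟨a, b, hab, ha, hb, rfl⟩
    · rw [S.z_inv]; exact S.form_mul_z ih
    · rw [S.τ_inv hab, ← mul_assoc]
      exact S.form_mul_gen hp (S.form_mul_z ih) (Or.inr ⟨a, b, hab, ha, hb, rfl⟩)

lemma H_zero {x : S.G₀} (hx : x ∈ S.H 0) : x = 1 ∨ x = S.z := by
  induction hx using Subgroup.closure_induction with
  | mem x hx =>
    rcases hx with rfl | ⟨i, j, _, hi, _, _⟩
    · exact Or.inr rfl
    · omega
  | one => exact Or.inl rfl
  | mul x y _ _ hx hy =>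
    rcases hx with rfl | rfl <;> rcases hy with rfl | rfl
    · left; simp
    · right; simp
    · right; simp
    · left; exact S.z_mul_z
  | inv x _ hx =>
    rcases hx with rfl | rfl
    · left; simp
    · right; exact S.z_inv

theorem ker_H : ∀ (m : ℕ), m ≤ n → ∀ x ∈ S.H m, x.2 = 1 → x = 1 ∨ x = S.z := by
  intro m
  induction m with
  | zero => intro _ x hx _; exact S.H_zero hx
  | succ m ih =>
    intro hm x hx hx1
    have hm' : m < n := hm
    set p : Fin n := ⟨m, hm'⟩ with hp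
    rcases S.form_of_mem (p := p) rfl hx with h | ⟨k, hk, h, hh, rfl⟩
    · exact ih (Nat.le_of_lt hm') x h hx1
    · exfalso
      have h1 : (h * S.τ k p).2 p = h.2 k := by
        show h.2 (swap k p p) = h.2 k
        rw [swap_apply_right]
      rw [hx1] at h1
      have h2 : h.2 p = p := S.H_fixes hh p (le_refl _)
      have h3 : h.2 k = h.2 p := by rw [h2, ← h1]; rfl
      have := h.2.injective h3
      rw [this] at hk
      simp [hp] at hk

theorem exists_lift (π : Perm (Fin n)) : ∃ x ∈ S.H n, x.2 = π := by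
  induction π using Equiv.Perm.swap_induction_on with
  | one => exact ⟨1, one_mem _, rfl⟩
  | swap_mul f x y hxy ih =>
    obtain ⟨g, hg, rfl⟩ := ih
    exact ⟨S.τ x y * g, mul_mem (S.τ_mem hxy x.isLt y.isLt) hg, rfl⟩

lemma conj_τ {i j : Fin n} (h : i ≠ j) {k l : Fin n} (hkl : k ≠ l) :
    S.τ i j * S.τ k l * (S.τ i j)⁻¹ = S.z * S.τ (swap i j k) (swap i j l) := by
  rw [S.τ_mul_τ h hkl, mul_inv_cancel_right]

lemma conj_z_mul (x y : S.G₀) : x * (S.z * y) * x⁻¹ = S.z * (x * y * x⁻¹) := by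
  calc x * (S.z * y) * x⁻¹ = (x * S.z) * y * x⁻¹ := by group
    _ = (S.z * x) * y * x⁻¹ := by rw [S.z_comm]
    _ = S.z * (x * y * x⁻¹) := by group

/-- the key commutator: lifts of `(01)(23)` and `(02)(13)` have commutator `z`. -/
lemma comm_eq_z {i0 i1 i2 i3 : Fin n} (h01 : i0 ≠ i1) (h02 : i0 ≠ i2) (h03 : i0 ≠ i3)
    (h12 : i1 ≠ i2) (h13 : i1 ≠ i3) (h23 : i2 ≠ i3) :
    (S.τ i0 i1 * S.τ i2 i3) * (S.τ i0 i2 * S.τ i1 i3) * (S.τ i0 i1 * S.τ i2 i3)⁻¹
      * (S.τ i0 i2 * S.τ i1 i3)⁻¹ = S.z := by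
  -- conj by τ23 then τ01 of τ02
  have c1 : S.τ i2 i3 * S.τ i0 i2 * (S.τ i2 i3)⁻¹ = S.z * S.τ i0 i3 := by
    rw [S.conj_τ h23 h02, swap_apply_of_ne_of_ne h02 h03, swap_apply_left]
  have c2 : S.τ i2 i3 * S.τ i1 i3 * (S.τ i2 i3)⁻¹ = S.z * S.τ i1 i2 := by
    rw [S.conj_τ h23 h13, swap_apply_of_ne_of_ne h12 h13, swap_apply_right]
  have c3 : S.τ i0 i1 * S.τ i0 i3 * (S.τ i0 i1)⁻¹ = S.z * S.τ i1 i3 := by
    rw [S.conj_τ h01 h03, swap_apply_left, swap_apply_of_ne_of_ne (Ne.symm h03) (Ne.symm h13)]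
  have c4 : S.τ i0 i1 * S.τ i1 i2 * (S.τ i0 i1)⁻¹ = S.z * S.τ i0 i2 := by
    rw [S.conj_τ h01 h12, swap_apply_right, swap_apply_of_ne_of_ne (Ne.symm h02) (Ne.symm h12)]
  have c5 : S.τ i1 i3 * S.τ i0 i2 * (S.τ i1 i3)⁻¹ = S.z * S.τ i0 i2 := by
    rw [S.conj_τ h13 h02, swap_apply_of_ne_of_ne h01 h03,
      swap_apply_of_ne_of_ne (Ne.symm h12) h23]
  set A1 := S.τ i0 i1
  set A2 := S.τ i2 i3
  set B1 := S.τ i0 i2
  set B2 := S.τ i1 i3
  have d1 : (A1 * A2) * B1 * (A1 * A2)⁻¹ = B2 := by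
    calc (A1 * A2) * B1 * (A1 * A2)⁻¹ = A1 * (A2 * B1 * A2⁻¹) * A1⁻¹ := by group
      _ = A1 * (S.z * S.τ i0 i3) * A1⁻¹ := by rw [c1]
      _ = S.z * (A1 * S.τ i0 i3 * A1⁻¹) := S.conj_z_mul _ _
      _ = S.z * (S.z * B2) := by rw [c3]
      _ = B2 := by rw [← mul_assoc, S.z_mul_z, one_mul]
  have d2 : (A1 * A2) * B2 * (A1 * A2)⁻¹ = B1 := by
    calc (A1 * A2) * B2 * (A1 * A2)⁻¹ = A1 * (A2 * B2 * A2⁻¹) * A1⁻¹ := by group
      _ = A1 * (S.z * S.τ i1 i2) * A1⁻¹ := by rw [c2]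
      _ = S.z * (A1 * S.τ i1 i2 * A1⁻¹) := S.conj_z_mul _ _
      _ = S.z * (S.z * B1) := by rw [c4]
      _ = B1 := by rw [← mul_assoc, S.z_mul_z, one_mul]
  calc (A1 * A2) * (B1 * B2) * (A1 * A2)⁻¹ * (B1 * B2)⁻¹
      = ((A1 * A2) * B1 * (A1 * A2)⁻¹) * ((A1 * A2) * B2 * (A1 * A2)⁻¹) * (B1 * B2)⁻¹ := by group
    _ = B2 * B1 * (B1 * B2)⁻¹ := by rw [d1, d2]
    _ = (B2 * B1 * B2⁻¹) * B1⁻¹ := by group
    _ = S.z * B1 * B1⁻¹ := by rw [c5]
    _ = S.z := by group

/-- the even subgroup: preimage of the alternating group. -/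
def Γs : Subgroup S.G₀ :=
  S.H n ⊓ (alternatingGroup (Fin n)).comap (MonoidHom.snd Aˣ (Perm (Fin n)))

lemma mem_Γs {x : S.G₀} : x ∈ S.Γs ↔ x ∈ S.H n ∧ x.2 ∈ alternatingGroup (Fin n) := by
  unfold Γs
  rw [Subgroup.mem_inf, Subgroup.mem_comap]
  rfl

/-- the projection onto the alternating group -/
def ψ : S.Γs →* alternatingGroup (Fin n) where
  toFun x := ⟨x.1.2, (S.mem_Γs.1 x.2).2⟩
  map_one' := rfl
  map_mul' _ _ := rfl

lemma ψ_surj : Function.Surjective S.ψ := by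
  rintro ⟨π, hπ⟩
  obtain ⟨x, hx, rfl⟩ := S.exists_lift π
  exact ⟨⟨x, S.mem_Γs.2 ⟨hx, hπ⟩⟩, rfl⟩

/-- the central involution in the even subgroup -/
def zΓ : S.Γs := ⟨S.z, S.mem_Γs.2 ⟨S.z_mem n, one_mem _⟩⟩

lemma ψ_ker : S.ψ.ker = Subgroup.zpowers S.zΓ := by
  ext x
  rw [MonoidHom.mem_ker, Subgroup.mem_zpowers_iff]
  constructor
  · intro h
    have h1 : x.1.2 = 1 := congrArg Subtype.val h
    rcases S.ker_H n le_rfl x.1 (S.mem_Γs.1 x.2).1 h1 with h2 | h2
    · exact ⟨0, by rw [zpow_zero]; exact Subtype.ext h2.symm⟩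
    · exact ⟨1, by rw [zpow_one]; exact Subtype.ext h2.symm⟩
  · rintro ⟨k, rfl⟩
    rw [map_zpow]
    have : S.ψ S.zΓ = 1 := rfl
    rw [this, one_zpow]

lemma zΓ_sq : S.zΓ ^ 2 = 1 := by
  apply Subtype.ext
  show S.z ^ 2 = 1
  rw [pow_two, S.z_mul_z]

lemma zΓ_ne : S.zΓ ≠ 1 := fun h => S.z_ne_one (congrArg Subtype.val h)

lemma orderOf_zΓ : orderOf S.zΓ = 2 := orderOf_eq_prime S.zΓ_sq S.zΓ_ne

lemma zΓ_center : S.zΓ ∈ Subgroup.center S.Γs := by
  rw [Subgroup.mem_center_iff]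
  intro g
  apply Subtype.ext
  exact (S.z_comm g.1).symm

lemma finite_Γs : Finite S.Γs := by
  have h1 : Finite (S.Γs ⧸ S.ψ.ker) :=
    Finite.of_equiv _ (QuotientGroup.quotientKerEquivOfSurjective S.ψ S.ψ_surj).symm.toEquiv
  have h2 : Finite S.ψ.ker := by
    rw [S.ψ_ker]
    have : IsOfFinOrder S.zΓ := isOfFinOrder_iff_pow_eq_one.2 ⟨2, by norm_num, S.zΓ_sq⟩
    exact Set.finite_coe_iff.2 (finite_zpowers.2 this)
  exact Finite.of_equiv _ (Subgroup.groupEquivQuotientProdSubgroup (s := S.ψ.ker)).symm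

lemma zΓ_mem_commutator (hn : 4 ≤ n) : S.zΓ ∈ commutator S.Γs := by
  have h0 : 0 < n := by omega
  have h1 : 1 < n := by omega
  have h2 : 2 < n := by omega
  have h3 : 3 < n := by omega
  set i0 : Fin n := ⟨0, h0⟩
  set i1 : Fin n := ⟨1, h1⟩
  set i2 : Fin n := ⟨2, h2⟩
  set i3 : Fin n := ⟨3, h3⟩
  have h01 : i0 ≠ i1 := by simp [i0, i1, Fin.ext_iff]
  have h02 : i0 ≠ i2 := by simp [i0, i2, Fin.ext_iff]
  have h03 : i0 ≠ i3 := by simp [i0, i3, Fin.ext_iff]
  have h12 : i1 ≠ i2 := by simp [i1, i2, Fin.ext_iff]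
  have h13 : i1 ≠ i3 := by simp [i1, i3, Fin.ext_iff]
  have h23 : i2 ≠ i3 := by simp [i2, i3, Fin.ext_iff]
  have hmem : ∀ {a b c d : Fin n}, a ≠ b → c ≠ d → S.τ a b * S.τ c d ∈ S.Γs := by
    intro a b c d hab hcd
    refine S.mem_Γs.2 ⟨mul_mem (S.τ_mem hab a.isLt b.isLt) (S.τ_mem hcd c.isLt d.isLt), ?_⟩
    show swap a b * swap c d ∈ alternatingGroup (Fin n)
    rw [Equiv.Perm.mem_alternatingGroup, map_mul, Equiv.Perm.sign_swap hab,
      Equiv.Perm.sign_swap hcd]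
    rfl
  let a : S.Γs := ⟨S.τ i0 i1 * S.τ i2 i3, hmem h01 h23⟩
  let b : S.Γs := ⟨S.τ i0 i2 * S.τ i1 i3, hmem h02 h13⟩
  have hab : ⁅a, b⁆ = S.zΓ := by
    apply Subtype.ext
    rw [commutatorElement_def]
    exact S.comm_eq_z h01 h02 h03 h12 h13 h23
  rw [← hab, commutator_def]
  exact Subgroup.commutator_mem_commutator (Subgroup.mem_top a) (Subgroup.mem_top b)

theorem main (hn : 4 ≤ n) :
    ∃ (_ : Finite S.Γs) (z : S.Γs) (_ : z ∈ Subgroup.center S.Γs), orderOf z = 2 ∧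
      z ∈ commutator S.Γs ∧ ∃ _ : (Subgroup.zpowers z).Normal,
        Nonempty (S.Γs ⧸ Subgroup.zpowers z ≃* alternatingGroup (Fin n)) := by
  refine ⟨S.finite_Γs, S.zΓ, S.zΓ_center, S.orderOf_zΓ, S.zΓ_mem_commutator hn, ?_⟩
  have hN : (Subgroup.zpowers S.zΓ).Normal := by
    rw [← S.ψ_ker]; infer_instance
  exact ⟨hN, ⟨(QuotientGroup.quotientMulEquivOfEq S.ψ_ker.symm).trans
    (QuotientGroup.quotientKerEquivOfSurjective S.ψ S.ψ_surj)⟩⟩

end CSys

/-! ### The Clifford algebra instance -/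

/-- the sum-of-squares form over `ZMod 3`. -/
noncomputable def Qf (n : ℕ) : QuadraticForm (ZMod 3) (Fin n → ZMod 3) :=
  QuadraticMap.weightedSumSquares (ZMod 3) (fun _ : Fin n => (1 : ZMod 3))

lemma Qf_apply (n : ℕ) (v : Fin n → ZMod 3) : Qf n v = ∑ i, v i * v i := by
  unfold Qf
  rw [QuadraticMap.weightedSumSquares_apply]
  simp

/-- two is invertible in `ZMod 3`. -/
@[instance_reducible] def invertibleTwo : Invertible (2 : ZMod 3) := ⟨2, by decide, by decide⟩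

/-- the anticommuting system in the Clifford algebra. -/
noncomputable def cliffSys (n : ℕ) : CSys n (CliffordAlgebra (Qf n)) where
  γ i := CliffordAlgebra.ι (Qf n) (Pi.single i 1)
  sq i := by
    rw [CliffordAlgebra.ι_sq_scalar, Qf_apply]
    have : ∑ j, (Pi.single i (1 : ZMod 3) : Fin n → ZMod 3) j * (Pi.single i (1 : ZMod 3) : Fin n → ZMod 3) j = 1 := by
      rw [Finset.sum_eq_single i]
      · simp
      · intro b _ hb; simp [hb]
      · intro h; exact absurd (Finset.mem_univ i) h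
    rw [this, map_one]
  anti i j h := by
    apply CliffordAlgebra.ι_mul_ι_comm_of_isOrtho
    rw [QuadraticMap.isOrtho_def, Qf_apply, Qf_apply, Qf_apply, ← Finset.sum_add_distrib]
    apply Finset.sum_congr rfl
    intro k _
    simp only [Pi.add_apply, Pi.single_apply]
    have hji : j ≠ i := Ne.symm h
    by_cases h1 : k = i
    · subst h1
      simp [h]
    · by_cases h2 : k = j
      · subst h2
        simp [hji]
      · simp [h1, h2]
  three := by
    have h : (3 : CliffordAlgebra (Qf n)) = algebraMap (ZMod 3) _ (3 : ZMod 3) := by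
      rw [map_ofNat]
    rw [h]
    have : (3 : ZMod 3) = 0 := by decide
    rw [this, map_zero]
  ne := by
    have := invertibleTwo
    intro h
    have h3 : (3 : CliffordAlgebra (Qf n)) = 0 := by
      have h' : (3 : CliffordAlgebra (Qf n)) = algebraMap (ZMod 3) _ (3 : ZMod 3) := by
        rw [map_ofNat]
      rw [h']
      have : (3 : ZMod 3) = 0 := by decide
      rw [this, map_zero]
    have h1 : (1 : CliffordAlgebra (Qf n)) = 0 := by
      have e : (1 : CliffordAlgebra (Qf n)) = 3 - 1 - 1 := by norm_num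
      rw [e, h3]
      nth_rewrite 1 [← h]
      noncomm_ring
    exact one_ne_zero h1

/-- Existence of the double cover `2.A_n` for `n ≥ 4`. -/
theorem exists_double_cover (n : ℕ) (hn : 4 ≤ n) :
    ∃ (Γ : Type) (_ : Group Γ) (_ : Finite Γ) (z : Γ) (_ : z ∈ Subgroup.center Γ),
      orderOf z = 2 ∧ z ∈ commutator Γ ∧ ∃ _ : (Subgroup.zpowers z).Normal,
        Nonempty (Γ ⧸ Subgroup.zpowers z ≃* alternatingGroup (Fin n)) := by
  obtain ⟨hfin, z, hz, h2, hc, hN, he⟩ := (cliffSys n).main hn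
  exact ⟨(cliffSys n).Γs, inferInstance, hfin, z, hz, h2, hc, hN, he⟩

end Cfsg.Agent.Lib.Helper65.SpinCover
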