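import Cfsg.Agent.Lib.Helper65.SpinCover
import Cfsg.Prelude.Def_KGroupFacts

/-!
# Pulling back the spin double cover of `Perm (Fin n)` along a permutation representation

If `ρ : G →* Perm (Fin n)` and `A, B ∈ G` commute with `ρ A = (i0 i1)(i2 i3)`,
`ρ B = (i0 i2)(i1 i3)`, then `G` has a stem extension with kernel of order two.
-/

set_option autoImplicit false

namespace Cfsg.Agent.Lib.Helper65.SpinCover

open Equiv
open scoped commutatorElement

universe u

variable {n : ℕ} {G : Type u} [Group G]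

/-- the pullback of the spin cover along `ρ` -/
def pull (ρ : G →* Perm (Fin n)) : Subgroup ((cliffSys n).G₀ × G) where
  carrier := {x | x.1 ∈ (cliffSys n).H n ∧ x.1.2 = ρ x.2}
  mul_mem' := by
    rintro x y ⟨hx1, hx2⟩ ⟨hy1, hy2⟩
    refine ⟨mul_mem hx1 hy1, ?_⟩
    show x.1.2 * y.1.2 = ρ (x.2 * y.2)
    rw [hx2, hy2, map_mul]
  one_mem' := ⟨one_mem _, by show (1 : Perm (Fin n)) = ρ 1; rw [map_one]⟩
  inv_mem' := by
    rintro x ⟨hx1, hx2⟩
    refine ⟨inv_mem hx1, ?_⟩
    show (x.1.2)⁻¹ = ρ (x.2)⁻¹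
    rw [hx2, map_inv]

/-- the projection of the pullback onto `G` -/
noncomputable def pullProj (ρ : G →* Perm (Fin n)) : pull ρ →* G :=
  (MonoidHom.snd _ _).comp (pull ρ).subtype

lemma pullProj_surj (ρ : G →* Perm (Fin n)) : Function.Surjective (pullProj ρ) := by
  intro g
  obtain ⟨x, hx, hx2⟩ := (cliffSys n).exists_lift (ρ g)
  exact ⟨⟨(x, g), ⟨hx, hx2⟩⟩, rfl⟩

/-- the central involution of the pullback -/
noncomputable def pullZ (ρ : G →* Perm (Fin n)) : pull ρ :=
  ⟨((cliffSys n).z, 1), ⟨(cliffSys n).z_mem n, by show (1 : Perm (Fin n)) = ρ 1; rw [map_one]⟩⟩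

lemma pullZ_ne (ρ : G →* Perm (Fin n)) : pullZ ρ ≠ 1 := by
  intro h
  have h1 : ((pullZ ρ : pull ρ) : (cliffSys n).G₀ × G).1 = 1 := by rw [h]; rfl
  exact (cliffSys n).z_ne_one h1

lemma pullZ_sq (ρ : G →* Perm (Fin n)) : pullZ ρ ^ 2 = 1 := by
  apply Subtype.ext
  show ((cliffSys n).z, (1 : G)) ^ 2 = 1
  rw [pow_two]
  refine Prod.ext ?_ ?_
  · exact (cliffSys n).z_mul_z
  · simp

lemma mem_ker_pullProj (ρ : G →* Perm (Fin n)) (y : pull ρ) :
    y ∈ (pullProj ρ).ker ↔ y = 1 ∨ y = pullZ ρ := by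
  constructor
  · intro hy
    have h2 : y.1.2 = 1 := hy
    have h3 : y.1.1.2 = 1 := by rw [y.2.2, h2, map_one]
    rcases (cliffSys n).ker_H n le_rfl y.1.1 y.2.1 h3 with h | h
    · left
      apply Subtype.ext
      exact Prod.ext h h2
    · right
      apply Subtype.ext
      exact Prod.ext h h2
  · rintro (rfl | rfl)
    · exact one_mem _
    · rfl

lemma pullZ_center (ρ : G →* Perm (Fin n)) : pullZ ρ ∈ Subgroup.center (pull ρ) := by
  rw [Subgroup.mem_center_iff]
  intro g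
  apply Subtype.ext
  refine Prod.ext ?_ ?_
  · exact ((cliffSys n).z_comm g.1.1).symm
  · show g.1.2 * 1 = 1 * g.1.2
    rw [mul_one, one_mul]

theorem exists_stem_card_two [Finite G] (ρ : G →* Perm (Fin n)) (A B : G) (hAB : A * B = B * A)
    {i0 i1 i2 i3 : Fin n} (h01 : i0 ≠ i1) (h02 : i0 ≠ i2) (h03 : i0 ≠ i3)
    (h12 : i1 ≠ i2) (h13 : i1 ≠ i3) (h23 : i2 ≠ i3)
    (hA : ρ A = swap i0 i1 * swap i2 i3) (hB : ρ B = swap i0 i2 * swap i1 i3) :
    ∃ (Γ : Type u) (_ : Group Γ) (_ : Finite Γ) (σ : Γ →* G),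
      Cfsg.IsStemExtension σ ∧ Nat.card σ.ker = 2 := by
  set S := cliffSys n
  have hker : (pullProj ρ).ker = Subgroup.zpowers (pullZ ρ) := by
    ext y
    rw [mem_ker_pullProj, Subgroup.mem_zpowers_iff]
    constructor
    · rintro (rfl | rfl)
      · exact ⟨0, zpow_zero _⟩
      · exact ⟨1, zpow_one _⟩
    · rintro ⟨k, rfl⟩
      rcases Int.even_or_odd k with ⟨m, rfl⟩ | ⟨m, rfl⟩
      · left
        rw [← two_mul, zpow_mul, zpow_ofNat, pullZ_sq, one_zpow]
      · right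
        rw [zpow_add, zpow_mul, zpow_ofNat, pullZ_sq, one_zpow, one_mul, zpow_one]
  have hord : orderOf (pullZ ρ) = 2 := orderOf_eq_prime (pullZ_sq ρ) (pullZ_ne ρ)
  have hcard : Nat.card (pullProj ρ).ker = 2 := by
    rw [hker, Nat.card_zpowers, hord]
  have hfin : Finite (pull ρ) := by
    have h1 : Finite (pull ρ ⧸ (pullProj ρ).ker) :=
      Finite.of_equiv _
        (QuotientGroup.quotientKerEquivOfSurjective (pullProj ρ) (pullProj_surj ρ)).symm.toEquiv
    have h2 : Finite (pullProj ρ).ker := Nat.finite_of_card_ne_zero (by rw [hcard]; norm_num)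
    exact Finite.of_equiv _ (Subgroup.groupEquivQuotientProdSubgroup (s := (pullProj ρ).ker)).symm
  refine ⟨pull ρ, inferInstance, hfin, pullProj ρ, ⟨pullProj_surj ρ, ?_, ?_⟩, hcard⟩
  · intro y hy
    rcases (mem_ker_pullProj ρ y).1 hy with rfl | rfl
    · exact one_mem _
    · exact pullZ_center ρ
  · intro y hy
    rcases (mem_ker_pullProj ρ y).1 hy with rfl | rfl
    · exact one_mem _
    · have hmem : ∀ {a b c d : Fin n} (g : G), a ≠ b → c ≠ d → ρ g = swap a b * swap c d →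
          ((S.τ a b * S.τ c d, g) : S.G₀ × G) ∈ pull ρ := by
        intro a b c d g hab hcd hg
        refine ⟨mul_mem (S.τ_mem hab a.isLt b.isLt) (S.τ_mem hcd c.isLt d.isLt), ?_⟩
        show swap a b * swap c d = ρ g
        exact hg.symm
      let a : pull ρ := ⟨(S.τ i0 i1 * S.τ i2 i3, A), hmem A h01 h23 hA⟩
      let b : pull ρ := ⟨(S.τ i0 i2 * S.τ i1 i3, B), hmem B h02 h13 hB⟩
      have hab : ⁅a, b⁆ = pullZ ρ := by
        apply Subtype.ext
        rw [commutatorElement_def]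
        refine Prod.ext ?_ ?_
        · exact S.comm_eq_z h01 h02 h03 h12 h13 h23
        · show A * B * A⁻¹ * B⁻¹ = 1
          rw [hAB]; group
      rw [← hab, commutator_def]
      exact Subgroup.commutator_mem_commutator (Subgroup.mem_top a) (Subgroup.mem_top b)

end Cfsg.Agent.Lib.Helper65.SpinCover
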