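import Cfsg.Agent.Lib.Helper65.SchurCover
import Cfsg.Agent.Lib.Helper65.SylowMult

/-!
# General lemmas on stem extensions

* `pow_index_eq_one_of_trivial_mult`: if every stem extension of the subgroup `H` is trivial, then
  the kernel of every stem extension of `G` has exponent dividing `[G : H]`.
* `stem_ker_eq_bot_of_isCyclic`: stem extensions of cyclic groups are trivial.
* `card_ker_le_two_of_two_involutions`: stem extensions of groups generated by two involutions
  have kernel of order at most two.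
-/

set_option autoImplicit false

namespace Cfsg.Agent.Lib.Helper65

open scoped commutatorElement

universe u v

/-- if `H` has only trivial stem extensions, then `multSub H` is trivial -/
theorem multSub_subsingleton_of_trivial {H : Type u} [Group H] [Finite H]
    (hH : ∀ (Γ : Type u) [Group Γ] [Finite Γ] (σ : Γ →* H), Cfsg.IsStemExtension σ → σ.ker = ⊥) :
    Subsingleton (multSub H) := by
  obtain ⟨Γ, hG, hF, σ, hσ, ⟨e⟩⟩ := (hasSchurMultiplier_multSub H).1
  have hk : σ.ker = ⊥ := hH Γ σ hσ
  have : Subsingleton σ.ker := by rw [hk]; infer_instance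
  exact e.symm.toEquiv.subsingleton

/-- L1: if every stem extension of the subgroup `H` is trivial, then the kernel of every stem
extension of `G` is killed by the index of `H`. -/
theorem pow_index_eq_one_of_trivial_mult {G : Type u} [Group G] [Finite G] (H : Subgroup G)
    (hH : ∀ (Γ : Type u) [Group Γ] [Finite Γ] (σ : Γ →* H), Cfsg.IsStemExtension σ → σ.ker = ⊥)
    {Γ : Type v} [Group Γ] (σ : Γ →* G) (hσ : Cfsg.IsStemExtension σ) (z : Γ) (hz : z ∈ σ.ker) :
    z ^ H.index = 1 := by
  have hsub : Subsingleton (multSub H) := multSub_subsingleton_of_trivial hH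
  obtain ⟨t, ht⟩ := exists_mult_transfer G H
  obtain ⟨π, hπ⟩ := exists_surj_of_stem G σ hσ
  obtain ⟨x, hx⟩ := hπ ⟨z, hz⟩
  have h1 : x ^ H.index = 1 := by
    rw [← ht x, Subsingleton.elim (t x) 1, map_one]
  have h2 : (⟨z, hz⟩ : σ.ker) ^ H.index = 1 := by
    rw [← hx, ← map_pow, h1, map_one]
  have := congrArg Subtype.val h2
  simpa using this

/-- stem extensions of cyclic groups are trivial -/
theorem stem_ker_eq_bot_of_isCyclic {P : Type u} [Group P] [IsCyclic P] {Q : Type v} [Group Q]
    (σ : Q →* P) (hσ : Cfsg.IsStemExtension σ) : σ.ker = ⊥ := by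
  have hmc : IsMulCommutative Q := MonoidHom.isMulCommutative_of_isCyclic_of_ker_le_center σ hσ.2.1
  have hcomm : ∀ a b : Q, a * b = b * a := fun a b => hmc.is_comm.comm a b
  have hc : commutator Q = ⊥ := by
    rw [commutator_def, Subgroup.commutator_eq_bot_iff_le_centralizer]
    intro a _
    rw [Subgroup.mem_centralizer_iff]
    intro b _
    exact hcomm b a
  have := hσ.2.2
  rw [hc] at this
  exact le_bot_iff.1 this

section TwoInvolutions

variable {P : Type u} [Group P] {Q : Type v} [Group Q]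

/-- in a group, if `g c g⁻¹ = c⁻¹` then `g` normalizes `zpowers c` -/
theorem mem_normalizer_zpowers_of_conj_inv {X : Type*} [Group X] {g c : X}
    (h : g * c * g⁻¹ = c⁻¹) : g ∈ Subgroup.normalizer (Subgroup.zpowers c : Set X) := by
  have h' : g⁻¹ * c * g = c⁻¹ := by
    have e : g * c⁻¹ * g⁻¹ = c := by
      have := congrArg (fun t => t⁻¹) h
      simpa [mul_assoc] using this
    calc g⁻¹ * c * g = g⁻¹ * (g * c⁻¹ * g⁻¹) * g := by rw [e]
      _ = c⁻¹ := by group
  rw [Subgroup.mem_normalizer_iff]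
  intro x
  constructor
  · intro hx
    obtain ⟨k, rfl⟩ := Subgroup.mem_zpowers_iff.1 hx
    rw [Subgroup.mem_zpowers_iff]
    refine ⟨-k, ?_⟩
    have : g * c ^ k * g⁻¹ = (g * c * g⁻¹) ^ k := by
      rw [conj_zpow]
    rw [this, h, inv_zpow, zpow_neg]
  · intro hx
    obtain ⟨k, hk⟩ := Subgroup.mem_zpowers_iff.1 hx
    rw [Subgroup.mem_zpowers_iff]
    refine ⟨-k, ?_⟩
    have hx : x = g⁻¹ * (g * x * g⁻¹) * g := by group
    rw [hx, ← hk]
    have : g⁻¹ * c ^ k * g = (g⁻¹ * c * g) ^ k := by
      have := conj_zpow (a := g⁻¹) (b := c) (i := k)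
      simpa using this.symm
    rw [this, h', inv_zpow, zpow_neg]

theorem card_ker_le_two_of_two_involutions [Finite Q] {a b : P} (ha : a ^ 2 = 1) (hb : b ^ 2 = 1)
    (hgen : Subgroup.closure {a, b} = ⊤) (σ : Q →* P) (hσ : Cfsg.IsStemExtension σ) :
    Nat.card σ.ker ≤ 2 := by
  obtain ⟨hsurj, hcen, hcomm⟩ := hσ
  obtain ⟨α, rfl⟩ := hsurj a
  obtain ⟨β, rfl⟩ := hsurj b
  have hα2 : α ^ 2 ∈ Subgroup.center Q := hcen (by rw [MonoidHom.mem_ker, map_pow, ha])
  have hβ2 : β ^ 2 ∈ Subgroup.center Q := hcen (by rw [MonoidHom.mem_ker, map_pow, hb])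
  rw [Subgroup.mem_center_iff, pow_two] at hα2 hβ2
  set c : Q := α * β * α⁻¹ * β⁻¹ with hc
  have h1 : α * c * α⁻¹ = c⁻¹ := by
    have e := hα2 β
    calc α * c * α⁻¹ = ((α * α) * β) * α⁻¹ * β⁻¹ * α⁻¹ := by rw [hc]; group
      _ = (β * (α * α)) * α⁻¹ * β⁻¹ * α⁻¹ := by rw [e]
      _ = c⁻¹ := by rw [hc]; group
  have h2 : β * c * β⁻¹ = c⁻¹ := by
    have e := hβ2 α⁻¹
    calc β * c * β⁻¹ = β * α * β⁻¹ * ((β * β) * α⁻¹) * β⁻¹ * β⁻¹ := by rw [hc]; group
      _ = β * α * β⁻¹ * (α⁻¹ * (β * β)) * β⁻¹ * β⁻¹ := by rw [e]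
      _ = c⁻¹ := by rw [hc]; group
  set N : Subgroup Q := Subgroup.zpowers c with hN
  -- generation
  have hgenQ : ∀ g : Q, ∃ x ∈ Subgroup.closure ({α, β} : Set Q), ∃ ζ ∈ σ.ker, g = x * ζ := by
    intro g
    have hmap : (Subgroup.closure ({α, β} : Set Q)).map σ = ⊤ := by
      rw [MonoidHom.map_closure, ← hgen]
      congr 1
      simp [Set.image_pair]
    have : σ g ∈ (Subgroup.closure ({α, β} : Set Q)).map σ := by rw [hmap]; trivial
    obtain ⟨x, hx, hxg⟩ := this
    refine ⟨x, hx, x⁻¹ * g, ?_, by group⟩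
    rw [MonoidHom.mem_ker, map_mul, map_inv, hxg, inv_mul_cancel]
  -- normality of N
  have hnorm : Subgroup.normalizer (N : Set Q) = ⊤ := by
    rw [eq_top_iff]
    intro g _
    obtain ⟨x, hx, ζ, hζ, rfl⟩ := hgenQ g
    apply mul_mem
    · have hle : Subgroup.closure ({α, β} : Set Q) ≤ Subgroup.normalizer (N : Set Q) := by
        rw [Subgroup.closure_le]
        rintro y (rfl | rfl)
        · exact mem_normalizer_zpowers_of_conj_inv h1
        · exact mem_normalizer_zpowers_of_conj_inv h2
      exact hle hx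
    · have hζc := hcen hζ
      rw [Subgroup.mem_center_iff] at hζc
      rw [Subgroup.mem_normalizer_iff]
      intro y
      have : ζ * y * ζ⁻¹ = y := by rw [← hζc y]; group
      rw [this]
  have hNn : N.Normal := Subgroup.normalizer_eq_top_iff.1 hnorm
  -- the quotient is commutative
  have hquot : ∀ x y : Q ⧸ N, x * y = y * x := by
    set T : Set (Q ⧸ N) := (QuotientGroup.mk' N) '' ({α, β} ∪ (σ.ker : Set Q)) with hT
    have hTtop : Subgroup.closure T = ⊤ := by
      rw [eq_top_iff]
      intro x _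
      induction x using QuotientGroup.induction_on with
      | H g =>
        obtain ⟨x, hx, ζ, hζ, rfl⟩ := hgenQ g
        rw [QuotientGroup.mk_mul]
        apply mul_mem
        · have : (QuotientGroup.mk' N) x ∈ (Subgroup.closure ({α, β} : Set Q)).map (QuotientGroup.mk' N) :=
            ⟨x, hx, rfl⟩
          rw [MonoidHom.map_closure] at this
          exact Subgroup.closure_mono (Set.image_mono Set.subset_union_left) this
        · exact Subgroup.subset_closure ⟨ζ, Or.inr hζ, rfl⟩
    have hTcomm : ∀ s ∈ T, ∀ t ∈ T, s * t = t * s := by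
      have hαβ : (QuotientGroup.mk' N α) * (QuotientGroup.mk' N β)
          = (QuotientGroup.mk' N β) * (QuotientGroup.mk' N α) := by
        rw [← map_mul, ← map_mul]
        apply QuotientGroup.eq.2
        have : (α * β)⁻¹ * (β * α) = (β⁻¹ * α⁻¹ * c * α * β)⁻¹ := by rw [hc]; group
        rw [this]
        apply inv_mem
        have hn := (inferInstance : N.Normal).conj_mem c (Subgroup.mem_zpowers c) (β⁻¹ * α⁻¹)
        have e : β⁻¹ * α⁻¹ * c * (β⁻¹ * α⁻¹)⁻¹ = β⁻¹ * α⁻¹ * c * α * β := by group
        rwa [e] at hn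
      have hker : ∀ ζ ∈ σ.ker, ∀ g : Q, (QuotientGroup.mk' N ζ) * (QuotientGroup.mk' N g)
          = (QuotientGroup.mk' N g) * (QuotientGroup.mk' N ζ) := by
        intro ζ hζ g
        have hζc := hcen hζ
        rw [Subgroup.mem_center_iff] at hζc
        rw [← map_mul, ← map_mul, hζc g]
      rintro s ⟨g, hg, rfl⟩ t ⟨g', hg', rfl⟩
      rcases hg with (rfl | rfl) | hg
      · rcases hg' with (rfl | rfl) | hg'
        · rfl
        · exact hαβ
        · exact (hker g' hg' g).symm
      · rcases hg' with (rfl | rfl) | hg'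
        · exact hαβ.symm
        · rfl
        · exact (hker g' hg' g).symm
      · exact hker g hg g'
    have hcenT : T ⊆ Subgroup.center (Q ⧸ N) := by
      intro s hs
      rw [SetLike.mem_coe, Subgroup.mem_center_iff]
      have hle : Subgroup.closure T ≤ Subgroup.centralizer {s} := by
        rw [Subgroup.closure_le]
        intro t ht
        rw [SetLike.mem_coe, Subgroup.mem_centralizer_iff]
        rintro _ rfl
        exact hTcomm _ hs t ht
      intro g
      have : g ∈ Subgroup.centralizer {s} := hle (by rw [hTtop]; trivial)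
      rw [Subgroup.mem_centralizer_iff] at this
      exact (this s rfl).symm
    have : Subgroup.center (Q ⧸ N) = ⊤ := by
      rw [eq_top_iff, ← hTtop, Subgroup.closure_le]
      exact hcenT
    intro x y
    have hy : y ∈ Subgroup.center (Q ⧸ N) := by rw [this]; trivial
    rw [Subgroup.mem_center_iff] at hy
    exact (hy x)
  -- commutator ≤ N
  have hcomN : commutator Q ≤ N := by
    rw [commutator_def, Subgroup.commutator_le]
    intro g₁ _ g₂ _
    rw [← QuotientGroup.eq_one_iff, commutatorElement_def]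
    simp only [QuotientGroup.mk_mul, QuotientGroup.mk_inv]
    rw [hquot (g₁ : Q ⧸ N) g₂]
    group
  have hkerN : σ.ker ≤ N := hcomm.trans hcomN
  -- every element of the kernel squares to one
  have hsq : ∀ ζ ∈ σ.ker, ζ ^ 2 = 1 := by
    intro ζ hζ
    obtain ⟨k, hk⟩ := Subgroup.mem_zpowers_iff.1 (hkerN hζ)
    subst hk
    have hζc := hcen hζ
    rw [Subgroup.mem_center_iff] at hζc
    have e1 : α * c ^ k * α⁻¹ = (c ^ k)⁻¹ := by
      rw [← conj_zpow, h1, inv_zpow]
    have e2 : α * c ^ k * α⁻¹ = c ^ k := by rw [hζc α]; group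
    rw [e2] at e1
    rw [pow_two]
    nth_rewrite 1 [e1]
    exact inv_mul_cancel _
  -- the kernel is cyclic
  have : IsCyclic N := by rw [hN]; infer_instance
  have : IsCyclic σ.ker :=
    isCyclic_of_surjective (Subgroup.subgroupOfEquivOfLe hkerN).toMonoidHom
      (Subgroup.subgroupOfEquivOfLe hkerN).surjective
  obtain ⟨g, hg⟩ := IsCyclic.exists_generator (α := σ.ker)
  have hg2 : g ^ 2 = 1 := Subtype.ext (by simpa using hsq g.1 g.2)
  have : Nat.card σ.ker = orderOf g := (orderOf_eq_card_of_forall_mem_zpowers hg).symm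
  rw [this]
  exact Nat.le_of_dvd (by norm_num) (orderOf_dvd_of_pow_eq_one hg2)

end TwoInvolutions

end Cfsg.Agent.Lib.Helper65
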