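import Mathlib
import Cfsg.Agent.S1137
import Cfsg.Agent.Lib.Helper86.SuzDefs

/-! helper65: task SuzT2 (SuzRestrict) of helper86's skeleton for S1138 (Higman). -/

set_option autoImplicit false
set_option linter.style.haveILetI false
set_option linter.unusedSectionVars false

namespace Cfsg.Agent.Lib.Helper86.Suz

universe u v
variable {𝕂 : Type v} [Group 𝕂] {G : Type u} [Group G] {φ : 𝕂 →* MulAut G}

private theorem t2_isSuzuki (h : Ctx φ) (hcyc : IsCyclic 𝕂) : Cfsg.IsSuzukiTwoGroup G := by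
  refine ⟨h.fin, h.pg, h.nonab, h.two, φ.range, ?_, ?_⟩
  · exact isCyclic_of_surjective φ.rangeRestrict φ.rangeRestrict_surjective
  · intro x y hx1 hx hy1 hy
    obtain ⟨k, hk⟩ := h.trans x y hx1 hx hy1 hy
    refine ⟨⟨φ k, k, rfl⟩, hk, ?_⟩
    rintro ⟨σ, l, rfl⟩ hl
    have hl' : φ l x = y := hl
    have h1 : φ (k⁻¹ * l) x = x := by
      rw [map_mul, map_inv, MulAut.mul_apply, hl', ← hk]
      exact (φ k).symm_apply_apply x
    have h2 := h.free _ x hx1 hx h1
    have h3 : l = k := by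
      have : k * (k⁻¹ * l) = k * 1 := by rw [h2]
      simpa using this
    subst h3
    rfl

private theorem t2_mem_center_iff (h : Ctx φ) (hcyc : IsCyclic 𝕂) (x : G) :
    x ∈ Subgroup.center G ↔ x * x = 1 := by
  have hS := Cfsg.Agent.S1137.result (t2_isSuzuki h hcyc)
  constructor
  · intro hx
    exact hS.2 x hx
  · intro hx
    by_cases hx1 : x = 1
    · rw [hx1]; exact Subgroup.one_mem _
    · exact ((hS.1 x).mp ⟨hx1, hx⟩).1

-- T2 SuzRestrict
theorem Ctx.center_le (h : Ctx φ) (hcyc : IsCyclic 𝕂) (H : Subgroup G) (hH : Inv φ H)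
    (hne : H ≠ ⊥) : Subgroup.center G ≤ H := by
  haveI := h.fin
  -- H contains an involution
  have hpH : IsPGroup 2 H := h.pg.to_subgroup H
  haveI : Nontrivial H := (Subgroup.nontrivial_iff_ne_bot H).mpr hne
  have h2 : 2 ∣ Nat.card H := by
    obtain ⟨n, hn⟩ := IsPGroup.iff_card.mp hpH
    rw [hn]
    have hn0 : n ≠ 0 := by
      rintro rfl
      have : 1 < Nat.card H := Finite.one_lt_card
      omega
    exact dvd_pow_self 2 hn0
  haveI : Fact (Nat.Prime 2) := ⟨Nat.prime_two⟩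
  obtain ⟨s, hs⟩ := exists_prime_orderOf_dvd_card' 2 h2
  have hs1 : (s : G) ≠ 1 := by
    intro e
    have : s = 1 := Subtype.ext e
    rw [this, orderOf_one] at hs
    omega
  have hss : (s : G) * s = 1 := by
    have : s ^ 2 = 1 := by rw [← hs]; exact pow_orderOf_eq_one s
    have := congrArg Subtype.val this
    simpa [pow_two] using this
  intro z hz
  by_cases hz1 : z = 1
  · rw [hz1]; exact H.one_mem
  · have hzz := (t2_mem_center_iff h hcyc z).mp hz
    obtain ⟨k, hk⟩ := h.trans s z hs1 hss hz1 hzz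
    rw [← hk]
    exact hH k s s.2

theorem Ctx.res (h : Ctx φ) (hcyc : IsCyclic 𝕂) (H : Subgroup G) (hH : Inv φ H)
    (hna : ∃ x ∈ H, ∃ y ∈ H, x * y ≠ y * x) : Ctx (res φ H hH) := by
  haveI := h.fin
  have hne : H ≠ ⊥ := by
    rintro rfl
    obtain ⟨x, hx, y, hy, hxy⟩ := hna
    rw [Subgroup.mem_bot] at hx hy
    subst hx; subst hy
    exact hxy rfl
  have hc := h.center_le hcyc H hH hne
  have hinvH : ∀ s : G, s * s = 1 → s ∈ H := fun s hs =>
    hc ((t2_mem_center_iff h hcyc s).mpr hs)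
  refine ⟨inferInstance, h.pg.to_subgroup H, ?_, ?_, ?_, ?_⟩
  · obtain ⟨x, hx, y, hy, hxy⟩ := hna
    refine ⟨⟨x, hx⟩, ⟨y, hy⟩, ?_⟩
    intro e
    exact hxy (congrArg Subtype.val e)
  · obtain ⟨s, t, hst, hs1, hs, ht1, ht⟩ := h.two
    refine ⟨⟨s, hinvH s hs⟩, ⟨t, hinvH t ht⟩, ?_, ?_, ?_, ?_, ?_⟩
    · intro e; exact hst (congrArg Subtype.val e)
    · intro e; exact hs1 (congrArg Subtype.val e)
    · exact Subtype.ext hs
    · intro e; exact ht1 (congrArg Subtype.val e)
    · exact Subtype.ext ht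
  · intro s t hs1 hs ht1 ht
    have hs1' : (s : G) ≠ 1 := fun e => hs1 (Subtype.ext e)
    have ht1' : (t : G) ≠ 1 := fun e => ht1 (Subtype.ext e)
    have hs' : (s : G) * s = 1 := congrArg Subtype.val hs
    have ht' : (t : G) * t = 1 := congrArg Subtype.val ht
    obtain ⟨k, hk⟩ := h.trans s t hs1' hs' ht1' ht'
    exact ⟨k, Subtype.ext hk⟩
  · intro k s hs1 hs hk
    have hs1' : (s : G) ≠ 1 := fun e => hs1 (Subtype.ext e)
    have hs' : (s : G) * s = 1 := congrArg Subtype.val hs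
    exact h.free k s hs1' hs' (congrArg Subtype.val hk)

theorem Ctx.card_center_res (h : Ctx φ) (hcyc : IsCyclic 𝕂) (H : Subgroup G) (hH : Inv φ H)
    (hna : ∃ x ∈ H, ∃ y ∈ H, x * y ≠ y * x) :
    Nat.card (Subgroup.center H) = Nat.card (Subgroup.center G) := by
  haveI := h.fin
  have hne : H ≠ ⊥ := by
    rintro rfl
    obtain ⟨x, hx, y, hy, hxy⟩ := hna
    rw [Subgroup.mem_bot] at hx hy
    subst hx; subst hy
    exact hxy rfl
  have hc := h.center_le hcyc H hH hne
  have hR := h.res hcyc H hH hna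
  refine Nat.card_congr ?_
  refine
    { toFun := fun z => ⟨(z : H), ?_⟩
      invFun := fun z => ⟨⟨(z : G), hc z.2⟩, ?_⟩
      left_inv := fun z => by apply Subtype.ext; apply Subtype.ext; rfl
      right_inv := fun z => by apply Subtype.ext; rfl }
  · have hz := (t2_mem_center_iff hR hcyc (z : H)).mp z.2
    exact (t2_mem_center_iff h hcyc _).mpr (congrArg Subtype.val hz)
  · have hz := (t2_mem_center_iff h hcyc (z : G)).mp z.2
    exact (t2_mem_center_iff hR hcyc _).mpr (Subtype.ext hz)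

end Cfsg.Agent.Lib.Helper86.Suz
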