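import Mathlib

/-!
# The triple cover `3.A₆` as the monomial automorphism group of the hexacode

We realise `3.A₆` inside the wreath product `C₃ ≀ S₆` (the group `Mon` of monomial maps of
`F₄⁶`) as the stabiliser of the hexacode.  Only the combinatorics of the hexacode as a *set*
of 64 vectors is used; the verification is by kernel computation.
-/

set_option autoImplicit false

namespace Cfsg.Agent.Lib.Helper65.TripleA6

open Equiv

/-- the field with four elements, as `0, 1, ω, ω²`; addition is bitwise xor -/
abbrev F4 := Fin 4

/-- addition in `F₄` -/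
def xor4 (a b : F4) : F4 := ⟨(a.val ^^^ b.val) % 4, Nat.mod_lt _ (by norm_num)⟩

/-- multiplication by `ω ^ k` -/
def rot (k : ZMod 3) (c : F4) : F4 :=
  if c.val = 0 then 0 else ⟨((c.val - 1 + k.val) % 3 + 1) % 4, Nat.mod_lt _ (by norm_num)⟩

theorem rot_add : ∀ (x y : ZMod 3) (c : F4), rot (x + y) c = rot x (rot y c) := by decide

theorem rot_zero : ∀ c : F4, rot 0 c = c := by decide

/-- monomial maps: the wreath product `C₃ ≀ S₆` -/
@[ext] structure Mon where
  /-- the diagonal part (exponents of `ω`) -/
  d : Fin 6 → ZMod 3
  /-- the permutation part -/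
  p : Perm (Fin 6)

instance : DecidableEq Mon := fun a b =>
  decidable_of_iff (a.d = b.d ∧ a.p = b.p) Mon.ext_iff.symm

instance : Mul Mon := ⟨fun a b => ⟨fun i => a.d i + b.d (a.p⁻¹ i), a.p * b.p⟩⟩
instance : One Mon := ⟨⟨0, 1⟩⟩
instance : Inv Mon := ⟨fun a => ⟨fun i => - a.d (a.p i), a.p⁻¹⟩⟩

theorem mul_d (a b : Mon) (i : Fin 6) : (a * b).d i = a.d i + b.d (a.p⁻¹ i) := rfl
theorem mul_p (a b : Mon) : (a * b).p = a.p * b.p := rfl
theorem one_d (i : Fin 6) : (1 : Mon).d i = 0 := rfl
theorem one_p : (1 : Mon).p = 1 := rfl
theorem inv_d (a : Mon) (i : Fin 6) : (a⁻¹).d i = - a.d (a.p i) := rfl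
theorem inv_p (a : Mon) : (a⁻¹).p = a.p⁻¹ := rfl

instance : Group Mon where
  mul_assoc a b c := by
    apply Mon.ext
    · funext i
      simp only [mul_d, mul_p, mul_inv_rev, Perm.mul_apply, add_assoc]
    · simp only [mul_p, mul_assoc]
  one_mul a := by
    apply Mon.ext
    · funext i
      simp only [mul_d, one_d, one_p, inv_one, Perm.one_apply, zero_add]
    · simp only [mul_p, one_p, one_mul]
  mul_one a := by
    apply Mon.ext
    · funext i
      simp only [mul_d, one_d, add_zero]
    · simp only [mul_p, one_p, mul_one]
  inv_mul_cancel a := by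
    apply Mon.ext
    · funext i
      simp only [mul_d, inv_d, inv_p, inv_inv, one_d, neg_add_cancel]
    · simp only [mul_p, inv_p, inv_mul_cancel, one_p]

instance : Finite Mon :=
  Finite.of_injective (fun a : Mon => (a.d, a.p)) (by
    intro a b h
    simp only [Prod.mk.injEq] at h
    exact Mon.ext h.1 h.2)

/-- the projection onto the permutation part -/
def rho : Mon →* Perm (Fin 6) where
  toFun := Mon.p
  map_one' := rfl
  map_mul' _ _ := rfl

/-- the monomial action on vectors -/
def act (a : Mon) (v : Fin 6 → F4) : Fin 6 → F4 := fun i => rot (a.d i) (v (a.p⁻¹ i))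

theorem act_mul (a b : Mon) (v : Fin 6 → F4) : act (a * b) v = act a (act b v) := by
  funext i
  simp only [act, mul_d, mul_p, mul_inv_rev, Perm.mul_apply, rot_add]

theorem act_one (v : Fin 6 → F4) : act 1 v = v := by
  funext i
  simp only [act, one_d, one_p, inv_one, Perm.one_apply, rot_zero]

/-- the hexacode words in systematic form -/
def gen (x : F4 × F4 × F4) : Fin 6 → F4 :=
  ![x.1, x.2.1, x.2.2, xor4 (xor4 x.1 x.2.1) x.2.2,
    xor4 (xor4 (rot 2 x.1) (rot 1 x.2.1)) x.2.2,
    xor4 (xor4 (rot 1 x.1) (rot 2 x.2.1)) x.2.2]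

/-- membership in the hexacode -/
def inHex (v : Fin 6 → F4) : Prop := v = gen (v 0, v 1, v 2)

instance : DecidablePred inHex := fun v => by unfold inHex; infer_instance

theorem inHex_gen (x : F4 × F4 × F4) : inHex (gen x) := by
  unfold inHex
  rfl

theorem stab_iff (a : Mon) :
    (∀ v, inHex v → inHex (act a v)) ↔ ∀ x : F4 × F4 × F4, inHex (act a (gen x)) := by
  constructor
  · intro h x
    exact h _ (inHex_gen x)
  · intro h v hv
    rw [hv]
    exact h _

/-- the stabiliser of the hexacode -/
def Stab : Subgroup Mon where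
  carrier := {a | ∀ v, inHex v → inHex (act a v)}
  mul_mem' := by
    intro a b ha hb v hv
    rw [act_mul]
    exact ha _ (hb _ hv)
  one_mem' := by
    intro v hv
    rw [act_one]
    exact hv
  inv_mem' := by
    intro a ha v hv
    let f : {v // inHex v} → {v // inHex v} := fun w => ⟨act a w.1, ha _ w.2⟩
    have hinj : Function.Injective f := by
      intro w w' h
      have h1 : act a w.1 = act a w'.1 := congrArg Subtype.val h
      have h2 := congrArg (act a⁻¹) h1
      rw [← act_mul, ← act_mul, inv_mul_cancel, act_one, act_one] at h2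
      exact Subtype.ext h2
    obtain ⟨w, hw⟩ := (Finite.injective_iff_surjective.1 hinj) ⟨v, hv⟩
    have h1 : act a w.1 = v := congrArg Subtype.val hw
    have h2 := congrArg (act a⁻¹) h1
    rw [← act_mul, inv_mul_cancel, act_one] at h2
    rw [← h2]
    exact w.2

theorem mem_Stab {a : Mon} : a ∈ Stab ↔ ∀ x : F4 × F4 × F4, inHex (act a (gen x)) :=
  stab_iff a

/-- the table of normalised lifts: `(code of σ, code of d)` -/
def table : List (ℕ × ℕ) :=
  [(1870, 0), (1895, 723), (1935, 366), (2045, 0), (2120, 366), (2140, 723), (2265, 723), (2285, 366), 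
  (2360, 0), (2470, 366), (2510, 723), (2535, 0), (2945, 567), (2985, 210), (3010, 312), (3310, 567), 
  (3395, 312), (3445, 210), (3515, 210), (3595, 312), (3645, 567), (3735, 312), (3790, 210), 
  (3835, 567), (4210, 405), (4265, 132), (4310, 552), (4385, 405), (4495, 552), (4510, 132), 
  (4820, 132), (4835, 552), (4945, 405), (5020, 552), (5065, 132), (5120, 405), (5495, 426), 
  (5540, 600), (5595, 63), (5685, 426), (5735, 63), (5815, 600), (5885, 600), (5935, 63), (6020, 426), 
  (6320, 63), (6345, 600), (6385, 426), (6795, 420), (6820, 624), (6860, 45), (6970, 420), (7045, 45), 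
  (7065, 624), (7190, 624), (7210, 45), (7285, 420), (7395, 45), (7435, 624), (7460, 420), (8345, 0), 
  (8385, 723), (8410, 366), (8530, 0), (8585, 366), (8630, 723), (8735, 723), (8780, 366), (8835, 0), 
  (8955, 366), (8980, 723), (9020, 0), (10510, 405), (10535, 426), (10575, 420), (11045, 405), 
  (11190, 420), (11200, 426), (11265, 426), (11345, 420), (11430, 405), (11470, 420), (11580, 426), 
  (11595, 405), (11765, 567), (11840, 600), (11860, 624), (12130, 567), (12245, 624), (12300, 600), 
  (12545, 600), (12630, 624), (12710, 567), (12770, 624), (12820, 600), (12900, 567), (13065, 210), 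
  (13085, 132), (13160, 45), (13415, 210), (13530, 45), (13575, 132), (13640, 132), (13685, 45), 
  (13800, 210), (14055, 45), (14130, 132), (14150, 210), (14350, 312), (14390, 552), (14415, 63), 
  (14715, 312), (14800, 63), (14850, 552), (14920, 552), (15000, 63), (15050, 312), (15140, 63), 
  (15195, 552), (15240, 312), (15910, 567), (15935, 210), (15975, 312), (16265, 567), (16375, 312), 
  (16390, 210), (16485, 210), (16535, 312), (16615, 567), (16690, 312), (16765, 210), (16785, 567), 
  (16985, 405), (17025, 426), (17050, 420), (17530, 405), (17645, 420), (17700, 426), (17735, 426), 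
  (17850, 420), (17895, 405), (17955, 420), (18040, 426), (18090, 405), (19510, 0), (19595, 63), 
  (19645, 45), (19685, 0), (19830, 45), (19840, 63), (20335, 63), (20345, 45), (20490, 0), (20530, 45), 
  (20580, 63), (20665, 0), (20795, 723), (20875, 552), (20925, 624), (20985, 723), (21065, 624), 
  (21150, 552), (21395, 552), (21450, 624), (21565, 723), (21835, 624), (21855, 552), (21930, 723), 
  (22095, 366), (22150, 132), (22195, 600), (22270, 366), (22380, 600), (22395, 132), (22705, 132), 
  (22720, 600), (22830, 366), (22905, 600), (22950, 132), (23005, 366), (23645, 405), (23720, 132), 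
  (23740, 552), (23830, 405), (23915, 552), (23965, 132), (24245, 132), (24295, 552), (24380, 405), 
  (24470, 552), (24490, 132), (24565, 405), (24730, 567), (24785, 600), (24830, 624), (25085, 567), 
  (25230, 624), (25240, 600), (25520, 600), (25565, 624), (25680, 567), (25720, 624), (25800, 600), 
  (25850, 567), (25985, 0), (26095, 63), (26110, 45), (26170, 0), (26285, 45), (26340, 63), (26795, 63), 
  (26850, 45), (26965, 0), (27025, 45), (27040, 63), (27150, 0), (28580, 366), (28595, 312), 
  (28705, 420), (28745, 366), (28830, 420), (28910, 312), (28975, 312), (28985, 420), (29130, 366), 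
  (29600, 420), (29640, 312), (29665, 366), (29860, 723), (29905, 210), (29960, 426), (30050, 723), 
  (30100, 426), (30180, 210), (30250, 210), (30300, 426), (30385, 723), (30685, 426), (30710, 210), 
  (30750, 723), (31425, 426), (31445, 600), (31520, 63), (31595, 426), (31675, 63), (31725, 600), 
  (31820, 600), (31835, 63), (31945, 426), (32235, 63), (32275, 600), (32300, 426), (32495, 210), 
  (32540, 132), (32595, 45), (32865, 210), (32945, 45), (33030, 132), (33065, 132), (33150, 45), 
  (33230, 210), (33500, 45), (33555, 132), (33600, 210), (33765, 723), (33815, 552), (33895, 624), 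
  (33935, 723), (34050, 624), (34095, 552), (34375, 552), (34385, 624), (34530, 723), (34785, 624), 
  (34830, 552), (34885, 723), (35045, 366), (35095, 312), (35180, 420), (35240, 366), (35285, 420), 
  (35400, 312), (35435, 312), (35490, 420), (35605, 366), (36085, 420), (36110, 312), (36150, 366), 
  (37640, 0), (37665, 567), (37705, 405), (37815, 0), (37890, 405), (37910, 567), (38035, 567), 
  (38055, 405), (38130, 0), (38240, 405), (38280, 567), (38305, 0), (39190, 420), (39230, 624), 
  (39255, 45), (39375, 420), (39430, 45), (39475, 624), (39580, 624), (39625, 45), (39680, 420), 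
  (39800, 45), (39825, 624), (39865, 420), (40275, 312), (40300, 552), (40340, 63), (40630, 312), 
  (40740, 63), (40755, 552), (40850, 552), (40900, 63), (40980, 312), (41055, 63), (41130, 552), 
  (41150, 312), (41530, 366), (41605, 132), (41625, 600), (41715, 366), (41800, 600), (41850, 132), 
  (42130, 132), (42180, 600), (42265, 366), (42355, 600), (42375, 132), (42450, 366), (42830, 723), 
  (42850, 210), (42925, 426), (43000, 723), (43080, 426), (43130, 210), (43225, 210), (43240, 426), 
  (43350, 723), (43640, 426), (43680, 210), (43705, 723), (44115, 0), (44155, 567), (44180, 405), 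
  (44300, 0), (44355, 405), (44400, 567), (44505, 567), (44550, 405), (44605, 0), (44725, 405), 
  (44750, 567), (44790, 0)]

/-- the code of a permutation -/
def code (σ : Perm (Fin 6)) : ℕ :=
  (σ 0).val + 6 * (σ 1).val + 36 * (σ 2).val + 216 * (σ 3).val + 1296 * (σ 4).val
    + 7776 * (σ 5).val

/-- the diagonal part of the normalised lift of `σ` -/
def dtab (σ : Perm (Fin 6)) : Fin 6 → ZMod 3 :=
  fun i => (((table.lookup (code σ)).getD 0 / 3 ^ i.val : ℕ) : ZMod 3)

theorem lift_mem : ∀ σ : Perm (Fin 6), Perm.sign σ = 1 →
    ∀ x : F4 × F4 × F4, inHex (act ⟨dtab σ, σ⟩ (gen x)) := by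
  decide +kernel

end Cfsg.Agent.Lib.Helper65.TripleA6
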