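import Cfsg.Agent.Lib.Helper65.TripleA6
import Cfsg.Prelude.Def_KGroupFacts

set_option autoImplicit false

namespace Cfsg.Agent.Lib.Helper65.TripleA6

open Equiv
open scoped commutatorElement

/-- the central element: the scalar `ω` -/
def zeta : Mon := ⟨fun _ => 1, 1⟩

theorem zeta_comm (a : Mon) : zeta * a = a * zeta := by
  apply Mon.ext
  · funext i
    simp only [mul_d, zeta, inv_one, Perm.one_apply, add_comm]
  · simp only [mul_p, zeta, one_mul, mul_one]

theorem zeta_mem_Stab : zeta ∈ Stab := by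
  rw [mem_Stab]
  decide

theorem zeta_pow_three : zeta ^ 3 = 1 := by decide

theorem zeta_ne_one : zeta ≠ 1 := by decide

/-- the group `3.A₆` -/
def T : Subgroup Mon := Stab ⊓ (alternatingGroup (Fin 6)).comap rho

theorem mem_T {a : Mon} : a ∈ T ↔ a ∈ Stab ∧ a.p ∈ alternatingGroup (Fin 6) := Iff.rfl

/-- the projection `3.A₆ → A₆` -/
def tau : T →* alternatingGroup (Fin 6) where
  toFun a := ⟨a.1.p, a.2.2⟩
  map_one' := rfl
  map_mul' _ _ := rfl

theorem tau_surj : Function.Surjective tau := by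
  rintro ⟨σ, hσ⟩
  exact ⟨⟨⟨dtab σ, σ⟩, ⟨mem_Stab.2 (lift_mem σ (Perm.mem_alternatingGroup.1 hσ)), hσ⟩⟩, rfl⟩

/-- the central element in `3.A₆` -/
def zetaT : T := ⟨zeta, mem_T.2 ⟨zeta_mem_Stab, one_mem _⟩⟩

theorem diag_const : ∀ d0 d1 d2 d3 d4 d5 : ZMod 3,
    (∀ x : F4 × F4 × F4, inHex (act ⟨![d0, d1, d2, d3, d4, d5], 1⟩ (gen x))) →
      d1 = d0 ∧ d2 = d0 ∧ d3 = d0 ∧ d4 = d0 ∧ d5 = d0 := by
  decide +kernel

theorem const_eq_pow : ∀ c : ZMod 3, (⟨fun _ => c, 1⟩ : Mon) = zeta ^ c.val := by decide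

theorem ker_tau : tau.ker = Subgroup.zpowers zetaT := by
  apply le_antisymm
  · intro a ha
    have hp : a.1.p = 1 := congrArg Subtype.val ha
    have hS : a.1 ∈ Stab := a.2.1
    have hd : a.1.d = ![a.1.d 0, a.1.d 1, a.1.d 2, a.1.d 3, a.1.d 4, a.1.d 5] := by
      funext i
      fin_cases i <;> rfl
    have ha1 : a.1 = ⟨![a.1.d 0, a.1.d 1, a.1.d 2, a.1.d 3, a.1.d 4, a.1.d 5], 1⟩ :=
      Mon.ext hd hp
    rw [mem_Stab, ha1] at hS
    obtain ⟨h1, h2, h3, h4, h5⟩ := diag_const _ _ _ _ _ _ hS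
    have hconst : a.1 = ⟨fun _ => a.1.d 0, 1⟩ := by
      refine Mon.ext ?_ hp
      rw [hd]
      funext i
      fin_cases i
      · rfl
      · exact h1
      · exact h2
      · exact h3
      · exact h4
      · exact h5
    rw [Subgroup.mem_zpowers_iff]
    refine ⟨((a.1.d 0).val : ℤ), ?_⟩
    apply Subtype.ext
    rw [zpow_natCast, Subgroup.coe_pow]
    show zeta ^ (a.1.d 0).val = a.1
    exact (const_eq_pow _).symm.trans hconst.symm
  · rw [Subgroup.zpowers_le]
    rfl

theorem zetaT_center : zetaT ∈ Subgroup.center T := by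
  rw [Subgroup.mem_center_iff]
  intro g
  apply Subtype.ext
  exact (zeta_comm g.1).symm

theorem orderOf_zetaT : orderOf zetaT = 3 := by
  have : Fact (Nat.Prime 3) := ⟨by norm_num⟩
  apply orderOf_eq_prime
  · apply Subtype.ext
    rw [Subgroup.coe_pow]
    exact zeta_pow_three
  · intro h
    exact zeta_ne_one (congrArg Subtype.val h)

/-- first element of the commutator -/
def aa : Mon := ⟨![0, 1, 2, 2, 2, 2], swap 3 4 * swap 4 5⟩
/-- second element of the commutator -/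
def bb : Mon := ⟨![0, 0, 0, 0, 2, 1], swap 0 1 * swap 1 2⟩

theorem aa_mem : aa ∈ T := by
  refine mem_T.2 ⟨?_, ?_⟩
  · rw [mem_Stab]; decide
  · show swap (3 : Fin 6) 4 * swap 4 5 ∈ alternatingGroup (Fin 6)
    rw [Perm.mem_alternatingGroup, map_mul, Perm.sign_swap (by decide), Perm.sign_swap (by decide)]
    rfl

theorem bb_mem : bb ∈ T := by
  refine mem_T.2 ⟨?_, ?_⟩
  · rw [mem_Stab]; decide
  · show swap (0 : Fin 6) 1 * swap 1 2 ∈ alternatingGroup (Fin 6)
    rw [Perm.mem_alternatingGroup, map_mul, Perm.sign_swap (by decide), Perm.sign_swap (by decide)]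
    rfl

theorem comm_aa_bb : aa * bb * aa⁻¹ * bb⁻¹ = zeta := by decide

theorem zetaT_mem_commutator : zetaT ∈ commutator T := by
  have h : ⁅(⟨aa, aa_mem⟩ : T), ⟨bb, bb_mem⟩⁆ = zetaT := by
    apply Subtype.ext
    rw [commutatorElement_def]
    exact comm_aa_bb
  rw [← h, commutator_def]
  exact Subgroup.commutator_mem_commutator (Subgroup.mem_top _) (Subgroup.mem_top _)

/-- `3.A₆`: a stem extension of `A₆` with kernel of order three -/
theorem exists_triple_cover :
    ∃ (T : Type) (_ : Group T) (_ : Finite T) (τ : T →* alternatingGroup (Fin 6)),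
      Cfsg.IsStemExtension τ ∧ Nat.card τ.ker = 3 := by
  refine ⟨T, inferInstance, inferInstance, tau, ⟨tau_surj, ?_, ?_⟩, ?_⟩
  · rw [ker_tau, Subgroup.zpowers_le]
    exact zetaT_center
  · rw [ker_tau, Subgroup.zpowers_le]
    exact zetaT_mem_commutator
  · rw [ker_tau, Nat.card_zpowers, orderOf_zetaT]

end Cfsg.Agent.Lib.Helper65.TripleA6
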