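import Mathlib
import Cfsg.Prelude.Def_KGroupFacts
import Cfsg.Agent.Lib.Helper52.AltPresentation

/-!
# The triple cover `3.A₇`

Using Carmichael's presentation of `A₇` (`Cfsg.Agent.Lib.Helper52.AltPres`), we build `3.A₇` as the
subgroup of `Perm (Fin 63) × A₇` generated by the pairs `(Mᵢ, xᵢ)`, where the `Mᵢ` are explicit
permutations of 63 points (found by coset enumeration) satisfying the Carmichael relations up to
the central element `Mz` of order 3.
-/

set_option autoImplicit false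

namespace Cfsg.Agent.Lib.Helper65.TripleA7

open Equiv Cfsg.Agent.Lib.Helper52.AltPres
open scoped commutatorElement

def f0 : Fin 63 → Fin 63 := ![0, 1, 2, 7, 3, 10, 11, 4, 5, 6, 8, 9, 26, 20, 22, 13, 17, 27, 14, 19, 15, 38, 18, 12, 24, 35, 23, 16, 28, 32, 40, 25, 37, 41, 21, 31, 45, 29, 34, 30, 39, 42, 33, 51, 36, 44, 52, 49, 46, 53, 43, 50, 48, 47, 62, 54, 57, 61, 60, 58, 59, 56, 55]
def g0 : Fin 63 → Fin 63 := ![0, 1, 2, 4, 7, 8, 9, 3, 10, 11, 5, 6, 23, 15, 18, 20, 27, 16, 22, 19, 13, 34, 14, 26, 24, 31, 12, 17, 28, 37, 39, 35, 29, 42, 38, 25, 44, 32, 21, 40, 30, 33, 41, 50, 45, 36, 48, 53, 52, 47, 51, 43, 46, 49, 55, 62, 61, 56, 59, 60, 58, 57, 54]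
def f1 : Fin 63 → Fin 63 := ![0, 1, 2, 3, 4, 14, 6, 7, 12, 9, 16, 11, 8, 25, 5, 21, 10, 18, 17, 33, 29, 15, 23, 22, 30, 13, 27, 26, 36, 20, 24, 32, 31, 19, 35, 34, 28, 38, 37, 40, 39, 42, 41, 43, 45, 44, 46, 47, 54, 59, 57, 56, 55, 58, 48, 52, 51, 50, 53, 49, 60, 61, 62]
def g1 : Fin 63 → Fin 63 := ![0, 1, 2, 3, 4, 14, 6, 7, 12, 9, 16, 11, 8, 25, 5, 21, 10, 18, 17, 33, 29, 15, 23, 22, 30, 13, 27, 26, 36, 20, 24, 32, 31, 19, 35, 34, 28, 38, 37, 40, 39, 42, 41, 43, 45, 44, 46, 47, 54, 59, 57, 56, 55, 58, 48, 52, 51, 50, 53, 49, 60, 61, 62]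
def f2 : Fin 63 → Fin 63 := ![0, 1, 2, 8, 5, 4, 15, 10, 3, 13, 7, 20, 12, 9, 14, 6, 16, 27, 22, 19, 11, 21, 18, 26, 24, 25, 23, 17, 28, 29, 46, 35, 37, 43, 38, 31, 47, 32, 34, 52, 48, 50, 51, 33, 49, 53, 30, 36, 40, 44, 41, 42, 39, 45, 55, 54, 57, 56, 59, 58, 60, 61, 62]
def g2 : Fin 63 → Fin 63 := ![0, 1, 2, 8, 5, 4, 15, 10, 3, 13, 7, 20, 12, 9, 14, 6, 16, 27, 22, 19, 11, 21, 18, 26, 24, 25, 23, 17, 28, 29, 46, 35, 37, 43, 38, 31, 47, 32, 34, 52, 48, 50, 51, 33, 49, 53, 30, 36, 40, 44, 41, 42, 39, 45, 55, 54, 57, 56, 59, 58, 60, 61, 62]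
def f3 : Fin 63 → Fin 63 := ![4, 3, 7, 1, 0, 5, 6, 2, 8, 9, 10, 11, 12, 24, 14, 19, 16, 18, 17, 15, 28, 33, 23, 22, 13, 30, 27, 26, 20, 36, 25, 41, 42, 21, 45, 44, 29, 40, 39, 38, 37, 31, 32, 43, 35, 34, 46, 47, 51, 50, 49, 48, 53, 52, 56, 58, 54, 59, 55, 57, 60, 61, 62]
def g3 : Fin 63 → Fin 63 := ![4, 3, 7, 1, 0, 5, 6, 2, 8, 9, 10, 11, 12, 24, 14, 19, 16, 18, 17, 15, 28, 33, 23, 22, 13, 30, 27, 26, 20, 36, 25, 41, 42, 21, 45, 44, 29, 40, 39, 38, 37, 31, 32, 43, 35, 34, 46, 47, 51, 50, 49, 48, 53, 52, 56, 58, 54, 59, 55, 57, 60, 61, 62]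
def f4 : Fin 63 → Fin 63 := ![0, 1, 2, 9, 6, 15, 4, 11, 13, 3, 20, 7, 25, 8, 21, 5, 29, 37, 38, 19, 10, 14, 34, 35, 24, 12, 31, 32, 28, 16, 30, 26, 27, 33, 22, 23, 36, 17, 18, 40, 39, 42, 41, 43, 45, 44, 46, 47, 52, 53, 51, 50, 48, 49, 55, 54, 57, 56, 59, 58, 60, 61, 62]
def g4 : Fin 63 → Fin 63 := ![0, 1, 2, 9, 6, 15, 4, 11, 13, 3, 20, 7, 25, 8, 21, 5, 29, 37, 38, 19, 10, 14, 34, 35, 24, 12, 31, 32, 28, 16, 30, 26, 27, 33, 22, 23, 36, 17, 18, 40, 39, 42, 41, 43, 45, 44, 46, 47, 52, 53, 51, 50, 48, 49, 55, 54, 57, 56, 59, 58, 60, 61, 62]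
def fz : Fin 63 → Fin 63 := ![1, 2, 0, 7, 3, 8, 9, 4, 10, 11, 5, 6, 16, 20, 12, 13, 14, 22, 23, 24, 15, 25, 26, 27, 28, 29, 17, 18, 19, 21, 36, 37, 38, 30, 31, 32, 33, 34, 35, 44, 45, 40, 39, 46, 42, 41, 47, 43, 53, 51, 48, 52, 49, 50, 58, 59, 55, 54, 57, 56, 61, 62, 60]
def gz : Fin 63 → Fin 63 := ![2, 0, 1, 4, 7, 10, 11, 3, 5, 6, 8, 9, 14, 15, 16, 20, 12, 26, 27, 28, 13, 29, 17, 18, 19, 21, 22, 23, 24, 25, 33, 34, 35, 36, 37, 38, 30, 31, 32, 42, 41, 45, 44, 47, 39, 40, 43, 46, 50, 52, 53, 49, 51, 48, 57, 56, 59, 58, 54, 55, 62, 60, 61]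

def M0 : Perm (Fin 63) := ⟨f0, g0, by decide +kernel, by decide +kernel⟩
def M1 : Perm (Fin 63) := ⟨f1, g1, by decide +kernel, by decide +kernel⟩
def M2 : Perm (Fin 63) := ⟨f2, g2, by decide +kernel, by decide +kernel⟩
def M3 : Perm (Fin 63) := ⟨f3, g3, by decide +kernel, by decide +kernel⟩
def M4 : Perm (Fin 63) := ⟨f4, g4, by decide +kernel, by decide +kernel⟩
def Mz : Perm (Fin 63) := ⟨fz, gz, by decide +kernel, by decide +kernel⟩

/-- the model generators, indexed by `ℕ` -/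
def Mg : ℕ → Perm (Fin 63)
  | 0 => M0
  | 1 => M1
  | 2 => M2
  | 3 => M3
  | 4 => M4
  | _ => 1

theorem Mz_cube : Mz ^ 3 = 1 := by decide +kernel
theorem Mz_ne_one : Mz ≠ 1 := by decide +kernel
theorem Mz_comm : ∀ i < 5, Mz * Mg i = Mg i * Mz := by decide +kernel
theorem Mrel0 : Mg 0 ^ 3 = 1 := by decide +kernel
theorem Mrel1 : ∀ i < 5, 1 ≤ i → Mg i ^ 2 = 1 := by decide +kernel
theorem Mrel2 : ∀ i < 4, (Mg i * Mg (i + 1)) ^ 3 = 1 := by decide +kernel
theorem Mrel3 : ∀ j < 5, ∀ i < j, i + 1 < j →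
    ((Mg i * Mg j) ^ 2 = 1 ∨ (Mg i * Mg j) ^ 2 = Mz) := by decide +kernel
theorem Mcomm : ⁅Mg 0, Mg 2 * Mg 3⁆ = Mz ^ 2 := by decide +kernel

/-- the alternating group of degree 7, as the target of Carmichael's presentation -/
abbrev A7 := alternatingGroup (Fin (5 + 2))

/-- the ambient group -/
abbrev Amb := Perm (Fin 63) × A7

/-- images of the Carmichael generators in `A₇` -/
noncomputable def xg (i : ℕ) : A7 := psiAlt 5 (X 5 i)

theorem xg_val {i : ℕ} (hi : i < 5) : ((xg i : A7) : Perm (Fin (5 + 2))) = gim 5 i :=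
  psi_X 5 hi

theorem xg_cube : xg 0 ^ 3 = 1 := by
  unfold xg
  rw [← map_pow, X_cube, map_one]

theorem xg_sq {i : ℕ} (hi : 1 ≤ i) : xg i ^ 2 = 1 := by
  unfold xg
  rw [← map_pow, X_sq 5 hi, map_one]

theorem xg_r2 {i : ℕ} (hi : i + 1 < 5) : (xg i * xg (i + 1)) ^ 3 = 1 := by
  unfold xg
  rw [← map_mul, ← map_pow, X_r2 5 hi, map_one]

theorem xg_r3 {i j : ℕ} (hij : i + 1 < j) (hj : j < 5) : (xg i * xg j) ^ 2 = 1 := by
  unfold xg
  rw [← map_mul, ← map_pow, X_r3 5 hij hj, map_one]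

theorem xg_comm : ⁅xg 0, xg 2 * xg 3⁆ = 1 := by
  apply Subtype.ext
  rw [commutatorElement_def]
  simp only [Subgroup.coe_mul, Subgroup.coe_inv, Subgroup.coe_one]
  rw [xg_val (by norm_num), xg_val (by norm_num), xg_val (by norm_num)]
  decide +kernel

/-- the generators of `3.A₇` -/
noncomputable def e (i : ℕ) : Amb := (Mg i, xg i)

/-- the central element -/
def zeta : Amb := (Mz, 1)

/-- the triple cover as a subgroup of the ambient group -/
noncomputable def T : Subgroup Amb := Subgroup.closure (Set.range fun i : Fin 5 => e i)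

theorem e_mem {i : ℕ} (hi : i < 5) : e i ∈ T := Subgroup.subset_closure ⟨⟨i, hi⟩, rfl⟩

theorem zeta_cube : zeta ^ 3 = 1 := by
  unfold zeta
  rw [Prod.pow_mk, Mz_cube, one_pow]
  rfl

theorem zeta_ne_one : zeta ≠ 1 := by
  intro h
  exact Mz_ne_one (congrArg Prod.fst h)

theorem zeta_sq_eq : zeta ^ 2 = ⁅e 0, e 2 * e 3⁆ := by
  unfold zeta e
  rw [commutatorElement_def]
  apply Prod.ext
  · have := Mcomm
    rw [commutatorElement_def] at this
    simp only [Prod.pow_mk, Prod.mk_mul_mk, Prod.inv_mk]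
    exact this.symm
  · have := xg_comm
    rw [commutatorElement_def] at this
    simp only [Prod.pow_mk, Prod.mk_mul_mk, Prod.inv_mk, one_pow]
    exact this.symm

theorem zeta_sq_mem : zeta ^ 2 ∈ T := by
  rw [zeta_sq_eq, commutatorElement_def]
  have h0 := e_mem (show 0 < 5 by norm_num)
  have h23 := mul_mem (e_mem (show 2 < 5 by norm_num)) (e_mem (show 3 < 5 by norm_num))
  exact mul_mem (mul_mem (mul_mem h0 h23) (inv_mem h0)) (inv_mem h23)

theorem zeta_eq : zeta = (zeta ^ 2) ^ 2 := by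
  rw [← pow_mul]
  have : zeta ^ (2 * 2) = zeta ^ 3 * zeta := by rw [← pow_succ]
  rw [this, zeta_cube, one_mul]

theorem zeta_mem : zeta ∈ T := by
  rw [zeta_eq]
  exact pow_mem zeta_sq_mem 2

theorem zeta_comm_e {i : ℕ} (hi : i < 5) : zeta * e i = e i * zeta := by
  unfold zeta e
  rw [Prod.mk_mul_mk, Prod.mk_mul_mk, Mz_comm i hi, one_mul, mul_one]

theorem zeta_comm {t : Amb} (ht : t ∈ T) : zeta * t = t * zeta := by
  have hle : T ≤ Subgroup.centralizer {zeta} := by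
    unfold T
    rw [Subgroup.closure_le]
    rintro _ ⟨i, rfl⟩
    rw [SetLike.mem_coe, Subgroup.mem_centralizer_iff]
    intro h hh
    rw [Set.mem_singleton_iff] at hh
    rw [hh]
    exact zeta_comm_e i.isLt
  have := Subgroup.mem_centralizer_iff.1 (hle ht) zeta rfl
  exact this

/-- the central element, in `T` -/
noncomputable def zetaT : T := ⟨zeta, zeta_mem⟩

theorem zetaT_comm (t : T) : zetaT * t = t * zetaT := Subtype.ext (zeta_comm t.2)

theorem zetaT_cube : zetaT ^ 3 = 1 := Subtype.ext (by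
  rw [Subgroup.coe_pow]; exact zeta_cube)

theorem zetaT_ne_one : zetaT ≠ 1 := fun h => zeta_ne_one (congrArg Subtype.val h)

theorem orderOf_zetaT : orderOf zetaT = 3 := by
  have : Fact (Nat.Prime 3) := ⟨Nat.prime_three⟩
  exact orderOf_eq_prime zetaT_cube zetaT_ne_one

/-- the kernel-to-be -/
noncomputable def N : Subgroup T := Subgroup.zpowers zetaT

instance : N.Normal := by
  constructor
  intro n hn g
  obtain ⟨k, rfl⟩ := Subgroup.mem_zpowers_iff.1 hn
  have hc : Commute zetaT g := zetaT_comm g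
  have : g * zetaT ^ k * g⁻¹ = zetaT ^ k := by
    rw [← (hc.zpow_left k).eq, mul_inv_cancel_right]
  rw [this]
  exact Subgroup.zpow_mem_zpowers zetaT k

/-- the generators in `T` -/
noncomputable def eT (i : ℕ) : T := if h : i < 5 then ⟨e i, e_mem h⟩ else 1

theorem eT_val {i : ℕ} (hi : i < 5) : ((eT i : T) : Amb) = e i := by
  unfold eT
  rw [dif_pos hi]

theorem mem_N_of_val {t : T} (h : (t : Amb) = 1 ∨ (t : Amb) = zeta) : t ∈ N := by
  rcases h with h | h
  · have : t = 1 := Subtype.ext h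
    rw [this]
    exact one_mem _
  · have : t = zetaT := Subtype.ext h
    rw [this]
    exact Subgroup.mem_zpowers zetaT

theorem rel0 : eT 0 ^ 3 ∈ N := by
  apply mem_N_of_val
  left
  rw [Subgroup.coe_pow, eT_val (by norm_num)]
  unfold e
  rw [Prod.pow_mk, Mrel0, xg_cube]
  rfl

theorem rel1 {i : ℕ} (hi : 1 ≤ i) (hi' : i < 5) : eT i ^ 2 ∈ N := by
  apply mem_N_of_val
  left
  rw [Subgroup.coe_pow, eT_val hi']
  unfold e
  rw [Prod.pow_mk, Mrel1 i hi' hi, xg_sq hi]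
  rfl

theorem rel2 {i : ℕ} (hi : i + 1 < 5) : (eT i * eT (i + 1)) ^ 3 ∈ N := by
  apply mem_N_of_val
  left
  rw [Subgroup.coe_pow, Subgroup.coe_mul, eT_val (by omega), eT_val hi]
  unfold e
  rw [Prod.mk_mul_mk, Prod.pow_mk, Mrel2 i (by omega), xg_r2 hi]
  rfl

theorem rel3 {i j : ℕ} (hij : i + 1 < j) (hj : j < 5) : (eT i * eT j) ^ 2 ∈ N := by
  apply mem_N_of_val
  rw [Subgroup.coe_pow, Subgroup.coe_mul, eT_val (by omega), eT_val hj]
  unfold e zeta
  rw [Prod.mk_mul_mk, Prod.pow_mk, xg_r3 hij hj]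
  rcases Mrel3 j hj i (by omega) hij with h | h
  · left
    rw [h]
    rfl
  · right
    rw [h]

/-- the map from the presented group -/
noncomputable def phi : P 5 →* T ⧸ N :=
  liftP 5 (fun i => (QuotientGroup.mk' N) (eT i))
    (fun _ => by
      rw [← map_pow]
      exact (QuotientGroup.eq_one_iff _).2 rel0)
    (fun i h1 h2 => by
      rw [← map_pow]
      exact (QuotientGroup.eq_one_iff _).2 (rel1 h1 h2))
    (fun i h => by
      rw [← map_mul, ← map_pow]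
      exact (QuotientGroup.eq_one_iff _).2 (rel2 h))
    (fun i j h1 h2 => by
      rw [← map_mul, ← map_pow]
      exact (QuotientGroup.eq_one_iff _).2 (rel3 h1 h2))

theorem phi_X {i : ℕ} (hi : i < 5) : phi (X 5 i) = (QuotientGroup.mk' N) (eT i) :=
  liftP_X _ _ _ _ _ _ hi

/-- the projection to `A₇` -/
noncomputable def tau : T →* A7 := (MonoidHom.snd (Perm (Fin 63)) A7).comp T.subtype

theorem tau_eT {i : ℕ} (hi : i < 5) : tau (eT i) = xg i := by
  show ((eT i : T) : Amb).2 = xg i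
  rw [eT_val hi]
  rfl

theorem N_le_ker : N ≤ tau.ker := by
  unfold N
  rw [Subgroup.zpowers_le]
  rw [MonoidHom.mem_ker]
  rfl

/-- the induced map on the quotient -/
noncomputable def tauBar : T ⧸ N →* A7 := QuotientGroup.lift N tau N_le_ker

theorem tauBar_mk (t : T) : tauBar ((QuotientGroup.mk' N) t) = tau t := rfl

theorem tauBar_comp_phi : tauBar.comp phi = psiAlt 5 := by
  apply PresentedGroup.ext
  intro i
  show tauBar (phi (PresentedGroup.of i)) = psiAlt 5 (PresentedGroup.of i)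
  rw [← X_of i.isLt, phi_X i.isLt, tauBar_mk, tau_eT i.isLt]
  rfl

theorem phi_surjective : Function.Surjective phi := by
  let S' : Subgroup Amb := ((phi.range).comap (QuotientGroup.mk' N)).map T.subtype
  have hle : T ≤ S' := by
    unfold T
    rw [Subgroup.closure_le]
    rintro _ ⟨i, rfl⟩
    refine ⟨eT i, ?_, eT_val i.isLt⟩
    rw [SetLike.mem_coe, Subgroup.mem_comap]
    exact ⟨X 5 i, phi_X i.isLt⟩
  intro q
  induction q using QuotientGroup.induction_on with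
  | H t =>
    obtain ⟨t', ht', htt⟩ := hle t.2
    have : t' = t := Subtype.ext htt
    rw [this] at ht'
    exact ht'

theorem tauBar_injective : Function.Injective tauBar := by
  intro a b hab
  obtain ⟨p, rfl⟩ := phi_surjective a
  obtain ⟨q, rfl⟩ := phi_surjective b
  have h1 : psiAlt 5 p = psiAlt 5 q := by
    rw [← tauBar_comp_phi]
    exact hab
  rw [(psiAlt_bijective 5).1 h1]

theorem tau_surjective : Function.Surjective tau := by
  intro a
  obtain ⟨p, hp⟩ := psiAlt_surjective 5 a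
  rw [← tauBar_comp_phi] at hp
  obtain ⟨t, ht⟩ := QuotientGroup.mk'_surjective N (phi p)
  refine ⟨t, ?_⟩
  rw [← tauBar_mk, ht]
  exact hp

theorem ker_tau : tau.ker = N := by
  apply le_antisymm
  · intro t ht
    rw [MonoidHom.mem_ker, ← tauBar_mk] at ht
    have h1 : tauBar ((QuotientGroup.mk' N) t) = tauBar 1 := by rw [ht, map_one]
    have := tauBar_injective h1
    exact (QuotientGroup.eq_one_iff t).1 this
  · exact N_le_ker

theorem zetaT_mem_commutator : zetaT ∈ commutator T := by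
  have h1 : zetaT ^ 2 = ⁅eT 0, eT 2 * eT 3⁆ := by
    apply Subtype.ext
    rw [commutatorElement_def]
    simp only [Subgroup.coe_pow, Subgroup.coe_mul, Subgroup.coe_inv]
    rw [eT_val (by norm_num), eT_val (by norm_num), eT_val (by norm_num)]
    have := zeta_sq_eq
    rw [commutatorElement_def] at this
    exact this
  have h2 : zetaT = (zetaT ^ 2) ^ 2 := Subtype.ext (by
    simp only [Subgroup.coe_pow]
    exact zeta_eq)
  rw [h2, h1]
  apply pow_mem
  rw [commutator_def]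
  exact Subgroup.commutator_mem_commutator (Subgroup.mem_top _) (Subgroup.mem_top _)

/-- existence of a triple cover of `A₇` -/
theorem exists_triple_cover :
    ∃ (T : Type) (_ : Group T) (_ : Finite T) (τ : T →* alternatingGroup (Fin 7)),
      Cfsg.IsStemExtension τ ∧ Nat.card τ.ker = 3 := by
  refine ⟨T, inferInstance, inferInstance, tau, ⟨tau_surjective, ?_, ?_⟩, ?_⟩
  · rw [ker_tau]
    unfold N
    rw [Subgroup.zpowers_le, Subgroup.mem_center_iff]
    intro g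
    exact (zetaT_comm g).symm
  · rw [ker_tau]
    unfold N
    rw [Subgroup.zpowers_le]
    exact zetaT_mem_commutator
  · rw [ker_tau]
    unfold N
    rw [Nat.card_zpowers, orderOf_zetaT]

end Cfsg.Agent.Lib.Helper65.TripleA7
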