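import Mathlib
import Cfsg.Agent.Lib.Helper28.PSetup

/-! U62-COMM (leaf of helper57's U62 hive, round 2): an element fixing the point reached by a word `g`
from the base point commutes with the `g`-conjugate of every element centralised by `H`. -/

set_option autoImplicit false

namespace Cfsg.Agent.Lib.Helper57.U62

open Cfsg.Agent.Lib.Helper28

theorem comm_of_fix {C : Cert} {G : Type*} [Group G] {H : Subgroup G} {gam : ℕ → G}
    {φ : G →* Equiv.Perm ℕ} (hS : Setup C H gam φ) (z : G) (hz : ∀ h ∈ H, h * z = z * h)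
    (g : List ℕ) (hg : ∀ l ∈ g, l < 2 * C.k) (h : G) (hfix : φ h (walkT C 0 g) = walkT C 0 g) :
    h * ((evw gam g)⁻¹ * z * evw gam g) = ((evw gam g)⁻¹ * z * evw gam g) * h := by
  obtain ⟨h1, hlt⟩ := PSetup.act_word hS g hg 0 (PSetup.pos_n hS)
  rw [psi_zero C H gam hS.hglob] at h1
  have h2 := (hS.psi_equiv h).2 (walkT C 0 g) hlt
  have h3 : rN φ (walkT C 0 g) h⁻¹ = walkT C 0 g := by
    simp [rN, hfix]
  rw [h3] at h2
  have h4 : h • psi C H gam (walkT C 0 g) = psi C H gam (walkT C 0 g) := by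
    have : ract (psi C H gam (walkT C 0 g)) h⁻¹ = h • psi C H gam (walkT C 0 g) := by
      simp [ract]
    rw [← this]; exact h2.symm
  rw [← h1] at h4
  have h5 : (evw gam g * h * (evw gam g)⁻¹) • basePt H = basePt H := by
    rw [mul_smul, mul_smul, h4, smul_inv_smul]
  have hmem : evw gam g * h * (evw gam g)⁻¹ ∈ H := by
    unfold basePt at h5
    have h6 : ((evw gam g * h * (evw gam g)⁻¹ * 1 : G) : G ⧸ H) = ((1 : G) : G ⧸ H) := h5
    rw [QuotientGroup.eq] at h6
    have := H.inv_mem h6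
    simpa using this
  have hc := hz _ hmem
  calc h * ((evw gam g)⁻¹ * z * evw gam g)
      = (evw gam g)⁻¹ * (evw gam g * h * (evw gam g)⁻¹ * z) * evw gam g := by group
    _ = (evw gam g)⁻¹ * (z * (evw gam g * h * (evw gam g)⁻¹)) * evw gam g := by rw [hc]
    _ = ((evw gam g)⁻¹ * z * evw gam g) * h := by group

end Cfsg.Agent.Lib.Helper57.U62
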