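import Mathlib
import Cfsg.Agent.Lib.Helper65.UndDefs
import Cfsg.Agent.Lib.Helper55.UndC1
import Cfsg.Agent.Lib.Helper55.UndC4core
import Cfsg.Agent.Lib.Helper69.UndC67core
import Cfsg.Agent.Lib.Helper46.UndC3

/-! # S5954 (Und hive): wrappers C4-C7 from the landed cores (helper55, helper69) and C3 (helper46) -/

set_option autoImplicit false

namespace Cfsg.Agent.Lib.Helper65.Und

open Cfsg.Agent.Lib.Helper40.Herm Cfsg.Agent.Lib.Helper2.BG Cfsg.Agent.Lib.Helper14.Tu Polynomial Module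

section absC
variable {F : Type*} [Field F] [Fintype F] {q : ℕ} {hF : Fintype.card F = q ^ 2}
  {V : Type*} [AddCommGroup V] [Module F V] [FiniteDimensional F V]
  {H : V →ₗ[F] V →ₛₗ[tauHom hF] F} {g : Module.End F V} {N : ℕ}

theorem glue_dvd_finrank_nd_moved {r : ℕ} (hc : Ctx hF H g r) (hr : r.Prime) (hr2 : r ≠ 2)
    {M : Submodule F V} (hMi : Inv g M) (hM : HNondegOn H M)
    (hMfix : ∀ v ∈ M, g v = v → v = 0) : cOf (orderOf (q : ZMod r)) ∣ finrank F ↥M :=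
  h55c4_core hc hr (fun M' h1 h2 h3 h4 => exists_nd_block hc hr hr2 h1 h2 h3 h4) _ M rfl hMi hM hMfix

theorem glue_exists_nd_blocks {r : ℕ} (hc : Ctx hF H g r) (hr : r.Prime) (hr2 : r ≠ 2)
    {M : Submodule F V} (hMi : Inv g M) (hM : HNondegOn H M)
    (hMfix : ∀ v ∈ M, g v = v → v = 0) (j : ℕ)
    (hj : j * cOf (orderOf (q : ZMod r)) ≤ finrank F ↥M) :
    FixesIn H g M (j * cOf (orderOf (q : ZMod r))) :=
  h55c5_core hc hr (fun M' h1 h2 h3 h4 => exists_nd_block hc hr hr2 h1 h2 h3 h4) j M hMi hM hMfix hj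

theorem glue_fixesIn_of_dims {r : ℕ} (hc : Ctx hF H g r) (hr : r.Prime) (hr2 : r ≠ 2)
    (hnd : HNondeg H) (a j : ℕ) (ha : a ≤ finrank F ↥(LinearMap.ker (g - 1)))
    (hj : j * cOf (orderOf (q : ZMod r)) + finrank F ↥(LinearMap.ker (g - 1)) ≤ finrank F V) :
    FixesIn H g ⊤ (a + j * cOf (orderOf (q : ZMod r))) :=
  c6_core hc hr hnd _ (fun h₁ h₂ horth => nd_sup hc.herm h₁ h₂ horth)
    (fun hZ a ha => exists_nd_le hc.herm hZ a ha)
    (fun hMi hM hMfix j hj => glue_exists_nd_blocks hc hr hr2 hMi hM hMfix j hj) a j ha hj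

theorem glue_dims_of_fixesIn {r : ℕ} (hc : Ctx hF H g r) (hr : r.Prime) (hr2 : r ≠ 2)
    (m : ℕ) (h : FixesIn H g ⊤ m) :
    ∃ a j : ℕ, a ≤ finrank F ↥(LinearMap.ker (g - 1)) ∧
      j * cOf (orderOf (q : ZMod r)) + finrank F ↥(LinearMap.ker (g - 1)) ≤ finrank F V ∧
      a + j * cOf (orderOf (q : ZMod r)) = m :=
  c7_core hc hr _ (fun hMi hM hMfix => glue_dvd_finrank_nd_moved hc hr hr2 hMi hM hMfix) m h

end absC

end Cfsg.Agent.Lib.Helper65.Und
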