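import Mathlib
import Cfsg.Agent.Lib.Helper65.UndDefs

/-! # S5954 (Und hive): small bridges (owner's copies, prefixed `glue_`) -/

set_option autoImplicit false

namespace Cfsg.Agent.Lib.Helper65.Und

open Module

section br
variable {F : Type*} [Field F] {q : ℕ}

theorem glue_map_smul_le (n : ℕ) (f : (Fin n → F) →ₗ[F] (Fin n → F)) (w : F) (hw : w ≠ 0)
    (W : Submodule F (Fin n → F)) : W.map (w • f) ≤ W ↔ W.map f ≤ W := by
  constructor
  · rintro h _ ⟨x, hx, rfl⟩
    have h1 : (w • f) x ∈ W := h ⟨x, hx, rfl⟩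
    have h2 : w⁻¹ • ((w • f) x) ∈ W := W.smul_mem _ h1
    rw [LinearMap.smul_apply, smul_smul, inv_mul_cancel₀ hw, one_smul] at h2
    exact h2
  · rintro h _ ⟨x, hx, rfl⟩
    rw [LinearMap.smul_apply]
    exact W.smul_mem _ (h ⟨x, hx, rfl⟩)

theorem glue_fixesNd_smul (n m : ℕ) (A : Matrix (Fin n) (Fin n) F) (w : F) (hw : w ≠ 0) :
    FixesNd n q m (w • A) ↔ FixesNd n q m A := by
  unfold FixesNd
  rw [map_smul]
  constructor
  · rintro ⟨W, h1, h2, h3⟩
    exact ⟨W, h1, h2, (glue_map_smul_le n _ w hw W).mp h3⟩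
  · rintro ⟨W, h1, h2, h3⟩
    exact ⟨W, h1, h2, (glue_map_smul_le n _ w hw W).mpr h3⟩

theorem glue_herm_smul (n : ℕ) (w : F) (x y : Fin n → F) :
    Cfsg.hermForm n F q (w • x) (w • y) = w ^ (q + 1) * Cfsg.hermForm n F q x y := by
  unfold Cfsg.hermForm
  rw [Finset.mul_sum]
  apply Finset.sum_congr rfl
  intro i _
  rw [Pi.smul_apply, Pi.smul_apply, smul_eq_mul, smul_eq_mul, mul_pow, pow_succ]
  ring

theorem glue_isU_smul (n : ℕ) (A : Matrix (Fin n) (Fin n) F) (hA : IsU n q A) (w : F)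
    (hw : w ^ (q + 1) = 1) : IsU n q (w • A) := by
  intro u v
  rw [Matrix.smul_mulVec, Matrix.smul_mulVec, glue_herm_smul, hw, one_mul]
  exact hA u v

theorem glue_isU_pow (n : ℕ) (A : Matrix (Fin n) (Fin n) F) (hA : IsU n q A) (r : ℕ) :
    IsU n q (A ^ r) := by
  induction r with
  | zero =>
    intro u v
    rw [pow_zero, Matrix.one_mulVec, Matrix.one_mulVec]
  | succ k ih =>
    intro u v
    rw [pow_succ, ← Matrix.mulVec_mulVec, ← Matrix.mulVec_mulVec, ih, hA]

theorem glue_scalar_facts [Fintype F] (hq : Fintype.card F = q ^ 2) (n : ℕ) (hn : 0 < n)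
    (A : Matrix (Fin n) (Fin n) F) (hA : IsU n q A) (hdet : A.det = 1) (r : ℕ) (z : F)
    (hz : A ^ r = z • (1 : Matrix (Fin n) (Fin n) F)) : z ^ (q + 1) = 1 ∧ z ^ n = 1 := by
  have hq0 : q ≠ 0 := by
    rintro rfl
    have h1 : 1 < Fintype.card F := Fintype.one_lt_card
    rw [hq] at h1
    simp at h1
  constructor
  · have hU := glue_isU_pow n A hA r
    rw [hz] at hU
    let e : Fin n → F := Pi.single ⟨0, hn⟩ 1
    have he : Cfsg.hermForm n F q e e = 1 := by
      unfold Cfsg.hermForm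
      rw [Finset.sum_eq_single ⟨0, hn⟩]
      · simp [e]
      · intro j _ hj
        simp [e, Pi.single_apply, hj]
      · intro h
        exact absurd (Finset.mem_univ _) h
    have h1 := hU e e
    rw [Matrix.smul_mulVec, Matrix.one_mulVec, glue_herm_smul, he, mul_one] at h1
    exact h1
  · have h1 : (A ^ r).det = 1 := by rw [Matrix.det_pow, hdet, one_pow]
    rw [hz, Matrix.det_smul, Matrix.det_one, mul_one, Fintype.card_fin] at h1
    exact h1

end br

theorem glue_orderOf_eq_two_iff (r : ℕ) (hr : r.Prime) (hr2 : r ≠ 2) (q : ℕ) :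
    orderOf (q : ZMod r) = 2 ↔ r ∣ q + 1 := by
  have : Fact r.Prime := ⟨hr⟩
  have h2 : Fact (Nat.Prime 2) := ⟨Nat.prime_two⟩
  have hne : (-1 : ZMod r) ≠ 1 := by
    intro h
    have h3 : ((2 : ℕ) : ZMod r) = 0 := by
      have : (1 : ZMod r) + 1 = 0 := by
        nth_rewrite 1 [← h]
        ring
      rw [← this]
      norm_num
    rw [ZMod.natCast_eq_zero_iff] at h3
    exact hr2 ((Nat.prime_dvd_prime_iff_eq hr Nat.prime_two).mp h3)
  rw [orderOf_eq_prime_iff]
  constructor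
  · rintro ⟨hsq, hne1⟩
    have h3 : ((q : ZMod r) - 1) * ((q : ZMod r) + 1) = 0 := by
      have : ((q : ZMod r) - 1) * ((q : ZMod r) + 1) = (q : ZMod r) ^ 2 - 1 := by ring
      rw [this, hsq, sub_self]
    rcases mul_eq_zero.mp h3 with h | h
    · exact absurd (sub_eq_zero.mp h) hne1
    · rw [← ZMod.natCast_eq_zero_iff]
      push_cast
      exact h
  · intro h
    rw [← ZMod.natCast_eq_zero_iff] at h
    push_cast at h
    have hq1 : (q : ZMod r) = -1 := eq_neg_of_add_eq_zero_left h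
    rw [hq1]
    exact ⟨by ring, hne⟩

end Cfsg.Agent.Lib.Helper65.Und
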