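import Mathlib
import Cfsg.Prelude.Def_Classical
import Cfsg.Agent.Lib.Helper65.UndDefs
import Cfsg.Agent.Lib.Helper65.UndGlue
import Cfsg.Agent.Lib.Helper65.UndGlue2
import Cfsg.Agent.Lib.Helper25.UndBR5
import Cfsg.Agent.Lib.Helper21.UndE2
import Cfsg.Agent.Lib.Helper21.UndE3
import Cfsg.Agent.Lib.Helper21.UndA2
import Cfsg.Agent.Lib.Helper27.UndD1
import Cfsg.Agent.Lib.Helper95.UndA3
import Cfsg.Agent.Lib.Helper9.UndA1
import Cfsg.Agent.Lib.Helper80.UndE1
import Cfsg.Agent.Lib.Helper25.UndCNT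
import Cfsg.Agent.Lib.Helper2.TuARC
import Cfsg.Agent.Lib.Helper27.TuROOT
import Cfsg.Agent.Lib.Helper27.TuTB
import Cfsg.Agent.Lib.Helper31.UndB

/-! # S5954 (Und hive): the assemblies -/

set_option autoImplicit false

namespace Cfsg.Agent.Lib.Helper65.Und

open Cfsg.Agent.Lib.Helper40.Herm Cfsg.Agent.Lib.Helper2.BG Cfsg.Agent.Lib.Helper14.Tu Polynomial Module

section main
variable {F : Type*} [Field F] [Fintype F] {p : ℕ} [Fact p.Prime] [CharP F p] {q : ℕ}

omit [Fintype F] in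
/-- UND-BR1 -/
theorem allFix_iff (n m r : ℕ) :
    (∀ x : Matrix.SpecialLinearGroup (Fin n) F, x ∈ Cfsg.SU n F q →
      (∃ z : F, ((x ^ r : Matrix.SpecialLinearGroup (Fin n) F) : Matrix (Fin n) (Fin n) F) =
        z • (1 : Matrix (Fin n) (Fin n) F)) →
      (∀ z : F, (x : Matrix (Fin n) (Fin n) F) ≠ z • (1 : Matrix (Fin n) (Fin n) F)) →
      ∃ W : Submodule F (Fin n → F), Module.finrank F ↥W = m ∧
        (∀ u ∈ W, u ≠ 0 → ∃ v ∈ W, Cfsg.hermForm n F q u v ≠ 0) ∧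
        W.map (Matrix.toLin' (x : Matrix (Fin n) (Fin n) F)) ≤ W) ↔ AllFix F n q m r := by
  constructor
  · intro h A hA hdet hz hns
    let x : Matrix.SpecialLinearGroup (Fin n) F := ⟨A, hdet⟩
    have hx : x ∈ Cfsg.SU n F q := fun u v => hA u v
    have hxr : ((x ^ r : Matrix.SpecialLinearGroup (Fin n) F) : Matrix (Fin n) (Fin n) F) = A ^ r := by
      rw [Matrix.SpecialLinearGroup.coe_pow]
    obtain ⟨z, hz⟩ := hz
    exact h x hx ⟨z, by rw [hxr, hz]⟩ hns
  · intro h x hx hz hns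
    obtain ⟨z, hz⟩ := hz
    rw [Matrix.SpecialLinearGroup.coe_pow] at hz
    exact h (x : Matrix (Fin n) (Fin n) F) (fun u v => hx u v) x.2 ⟨z, hz⟩ hns

/-! ### Case A -/

theorem caseA (hq : Fintype.card F = q ^ 2) (n m : ℕ) (hm : m ≤ n) :
    AllFix F n q m p ↔ PartCond p n m := by
  constructor
  · exact partCond_of_allFix hq n m hm
  · intro h A hA _ hz _
    obtain ⟨z, hz⟩ := hz
    exact fixesNd_of_partCond hq n m hm h A hA z hz

/-! ### Case B -/

theorem caseB (hq : Fintype.card F = q ^ 2) (hp2 : p ≠ 2) (n m : ℕ) (hm : 1 ≤ m)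
    (hmn : 2 * m < n) :
    AllFix F n q m 2 ↔
      (Odd n ∨ Even m ∨ (padicValNat 2 n ≤ padicValNat 2 (q + 1) ∧ q % 4 = 3)) := by
  rw [← allFix_iff]
  constructor
  · intro h
    by_contra hcon
    push Not at hcon
    obtain ⟨h1, h2, h3⟩ := hcon
    have hn2 : Even n := Nat.not_odd_iff_even.mp h1
    have hm2 : Odd m := Nat.not_even_iff_odd.mp h2
    have h3' : ¬ (padicValNat 2 n ≤ padicValNat 2 (q + 1) ∧ q % 4 = 3) := by
      rintro ⟨a, b⟩
      exact h3 a b
    obtain ⟨x, hx, hz, hns, hbad⟩ :=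
      Cfsg.Agent.Lib.Helper31.UndB.two_bad hq hp2 n m hm hmn hn2 hm2 h3'
    exact hbad (h x hx hz hns)
  · intro hc x hx hz _
    exact Cfsg.Agent.Lib.Helper31.UndB.two_fix hq hp2 n m hm hmn hc x hx hz


/-! ### Semisimple cases: common part -/

omit [Fintype F] in
theorem main_r_ne_zero {r : ℕ} (hr : r.Prime) (hrp : r ≠ p) : (r : F) ≠ 0 := by
  intro h0
  rw [CharP.cast_eq_zero_iff F p r] at h0
  exact hrp ((Nat.prime_dvd_prime_iff_eq (Fact.out : p.Prime) hr).mp h0).symm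

theorem main_not_dvd_q (hq : Fintype.card F = q ^ 2) {r : ℕ} (hr : r.Prime) (hrp : r ≠ p) :
    ¬ r ∣ q := by
  obtain ⟨f, _, hf⟩ := q_eq_pow (p := p) hq
  intro h
  rw [hf] at h
  exact hrp ((Nat.prime_dvd_prime_iff_eq hr (Fact.out : p.Prime)).mp (hr.dvd_of_dvd_pow h))

theorem main_cOf_pos (hq : Fintype.card F = q ^ 2) {r : ℕ} (hr : r.Prime) (hrp : r ≠ p) :
    0 < cOf (orderOf (q : ZMod r)) := by
  have : Fact r.Prime := ⟨hr⟩
  have hq0 : (q : ZMod r) ≠ 0 := by
    rw [Ne, ZMod.natCast_eq_zero_iff]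
    exact main_not_dvd_q hq hr hrp
  have hipos : 0 < orderOf (q : ZMod r) := by
    apply orderOf_pos_iff.mpr
    rw [isOfFinOrder_iff_pow_eq_one]
    exact ⟨r - 1, by have := hr.two_le; omega, ZMod.pow_card_sub_one_eq_one hq0⟩
  unfold cOf
  split_ifs <;> omega

theorem main_top_fixesIn (hq : Fintype.card F = q ^ 2) (n : ℕ) (g : Module.End F (Fin n → F)) :
    FixesIn (stdHerm hq n) g ⊤ n := by
  refine ⟨⊤, le_refl _, inv_top g, ?_, ?_⟩
  · intro x _ hx
    exact stdHerm_nondeg hq n x (fun y => hx y Submodule.mem_top)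
  · rw [finrank_top, Module.finrank_fintype_fun_eq_card, Fintype.card_fin]

/-- arithmetic: choice of `a`, `j` -/
theorem main_arith (c m n e j' : ℕ) (hc : 0 < c) (hmn : m ≤ n) (hmod : m % c ≤ n % c)
    (hje : j' * c + e = n) :
    ∃ a j : ℕ, a ≤ e ∧ j * c + e ≤ n ∧ a + j * c = m := by
  have hne : n % c = e % c := by
    rw [← hje, add_comm, Nat.add_mul_mod_self_right]
  have hele : e % c ≤ e := Nat.mod_le e c
  by_cases hcase : m / c ≤ j'
  · refine ⟨m % c, m / c, ?_, ?_, ?_⟩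
    · omega
    · have : m / c * c ≤ j' * c := Nat.mul_le_mul_right c hcase
      omega
    · have := Nat.div_add_mod m c
      rw [mul_comm] at this
      omega
  · push Not at hcase
    have h1 : j' * c ≤ m / c * c := Nat.mul_le_mul_right c hcase.le
    have h2 : m / c * c ≤ m := Nat.div_mul_le_self m c
    refine ⟨m - j' * c, j', ?_, ?_, ?_⟩
    · omega
    · omega
    · omega

/-- elements `A` with `A ^ r = w ^ r`, `w` of norm one -/
theorem main_fixes_of_root (hq : Fintype.card F = q ^ 2) (n m : ℕ) (hmn : m ≤ n) (r : ℕ)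
    (hr : r.Prime) (hr2 : r ≠ 2) (hrp : r ≠ p) (A : Matrix (Fin n) (Fin n) F) (hA : IsU n q A)
    (z w : F) (hz : A ^ r = z • (1 : Matrix (Fin n) (Fin n) F)) (hw1 : w ^ (q + 1) = 1)
    (hwr : w ^ r = z)
    (hmod : m % cOf (orderOf (q : ZMod r)) ≤ n % cOf (orderOf (q : ZMod r))) :
    FixesNd n q m A := by
  obtain ⟨c, hcdef⟩ : ∃ c, c = cOf (orderOf (q : ZMod r)) := ⟨_, rfl⟩
  rw [← hcdef] at hmod
  have hcpos : 0 < c := hcdef ▸ main_cOf_pos hq hr hrp
  have hw0 : w ≠ 0 := by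
    rintro rfl
    rw [zero_pow (Nat.succ_ne_zero q)] at hw1
    exact zero_ne_one hw1
  have hwi : (w⁻¹) ^ (q + 1) = 1 := by rw [inv_pow, hw1, inv_one]
  set y : Matrix (Fin n) (Fin n) F := w⁻¹ • A with hy
  have hyU : IsU n q y := glue_isU_smul n A hA w⁻¹ hwi
  have hyr : y ^ r = 1 := by
    rw [hy, _root_.smul_pow, hz, smul_smul, inv_pow, hwr, inv_mul_cancel₀, one_smul]
    rw [← hwr]
    exact pow_ne_zero r hw0
  have hAy : A = w • y := by
    rw [hy, smul_smul, mul_inv_cancel₀ hw0, one_smul]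
  have hctx := ctx_of_isU hq n y hyU r hr.pos (main_r_ne_zero hr hrp) hyr
  have hnd := stdHerm_nondeg hq n
  obtain ⟨a', j', ha', hj', haj'⟩ := glue_dims_of_fixesIn hctx hr hr2 n (main_top_fixesIn hq n _)
  have hfr : finrank F (Fin n → F) = n := by
    rw [Module.finrank_fintype_fun_eq_card, Fintype.card_fin]
  rw [hfr, ← hcdef] at hj'
  rw [← hcdef] at haj'
  obtain ⟨e, he⟩ : ∃ e, e = finrank F ↥(LinearMap.ker (Matrix.toLin' y - 1)) := ⟨_, rfl⟩
  rw [← he] at ha' hj'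
  have hje : j' * c + e = n := by omega
  obtain ⟨a, j, ha, hj, haj⟩ := main_arith c m n e j' hcpos hmn hmod hje
  have hfix := glue_fixesIn_of_dims hctx hr hr2 hnd a j (he ▸ ha)
    (by rw [hfr, ← hcdef, ← he]; exact hj)
  rw [← hcdef, haj] at hfix
  rw [hAy, glue_fixesNd_smul n m y w hw0, fixesNd_iff_fixesIn hq]
  exact hfix

/-! ### Case C : `r ∤ q + 1` -/

theorem caseC (hq : Fintype.card F = q ^ 2) (n m : ℕ) (hn : 0 < n) (hmn : m ≤ n) (r : ℕ)
    (hr : r.Prime) (hr2 : r ≠ 2) (hrp : r ≠ p) (hrq : ¬ r ∣ q + 1)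
    (hrΩ : r ∣ Nat.card {W : Submodule F (Fin n → F) // Module.finrank F ↥W = m ∧
      (∀ u ∈ W, u ≠ 0 → ∃ v ∈ W, Cfsg.hermForm n F q u v ≠ 0)})
    (c : ℕ) (hc : c = cOf (orderOf (q : ZMod r))) :
    AllFix F n q m r ↔ (c ≤ m ∧ m % c ≤ n % c) := by
  have hcpos : 0 < c := hc ▸ main_cOf_pos hq hr hrp
  constructor
  · intro h
    obtain ⟨j0, hj0, hj0n, hdvd⟩ := exists_dvd_of_dvd_card_nd hq n m hmn r hr hrp hrΩ
    rw [dvd_pow_sub_iff r hr hr2 q (main_not_dvd_q hq hr hrp) j0, ← hc] at hdvd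
    have hcj0 : c ≤ j0 := Nat.le_of_dvd (by omega) hdvd
    obtain ⟨A, hAU, hdet, hAr, hns, hker⟩ := exists_test hq r hr hr2 hrp hrq n c hc (by omega)
    have hfix := h A hAU hdet ⟨1, by rw [hAr, one_smul]⟩ hns
    rw [fixesNd_iff_fixesIn hq] at hfix
    have hctx := ctx_of_isU hq n A hAU r hr.pos (main_r_ne_zero hr hrp) hAr
    obtain ⟨a, j, ha, hj, haj⟩ := glue_dims_of_fixesIn hctx hr hr2 m hfix
    rw [hker] at ha
    rw [hker, ← hc, Module.finrank_fintype_fun_eq_card, Fintype.card_fin] at hj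
    rw [← hc] at haj
    have hlt : n % c < c := Nat.mod_lt n hcpos
    have hmc : m % c = a := by
      rw [← haj, Nat.add_mul_mod_self_right, Nat.mod_eq_of_lt (by omega)]
    refine ⟨?_, by omega⟩
    by_contra hlt'
    push Not at hlt'
    have hj0' : j = 0 := by
      by_contra hj1
      have : c ≤ j * c := Nat.le_mul_of_pos_left c (Nat.pos_of_ne_zero hj1)
      omega
    subst hj0'
    obtain ⟨s, rfl⟩ := hdvd
    have hs : s ≤ n / c := by
      rw [Nat.le_div_iff_mul_le hcpos, mul_comm]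
      exact hj0n
    have h1 : c * s ≤ c * (n / c) := Nat.mul_le_mul_left c hs
    have h2 := Nat.div_add_mod n c
    omega
  · rintro ⟨_, hmod⟩ A hAU hdet ⟨z, hz⟩ _
    obtain ⟨hz1, _⟩ := glue_scalar_facts hq n hn A hAU hdet r z hz
    obtain ⟨w, hw1, hwr⟩ := exists_root_of_not_dvd hq r hr hrq z hz1
    exact main_fixes_of_root hq n m hmn r hr hr2 hrp A hAU z w hz hw1 hwr (hc ▸ hmod)

/-! ### Case D : `r ∣ q + 1` -/

theorem caseD (hq : Fintype.card F = q ^ 2) (n m : ℕ) (hn : 0 < n) (hmn : m ≤ n) (r : ℕ)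
    (hr : r.Prime) (hr2 : r ≠ 2) (hrp : r ≠ p) (hrq : r ∣ q + 1) :
    AllFix F n q m r ↔ (r ∣ m ∨ padicValNat r n ≤ padicValNat r (q + 1)) := by
  have hi2 : orderOf (q : ZMod r) = 2 := (glue_orderOf_eq_two_iff r hr hr2 q).mpr hrq
  have hc1 : cOf (orderOf (q : ZMod r)) = 1 := by
    rw [hi2]; rfl
  constructor
  · intro h
    by_contra hcon
    push Not at hcon
    obtain ⟨hrm, hv⟩ := hcon
    obtain ⟨A, z, hAU, hdet, hAr, hno⟩ := exists_typeB hq r hr hr2 hrq n hn hv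
    have hns : ∀ z' : F, A ≠ z' • (1 : Matrix (Fin n) (Fin n) F) := by
      intro z' hA
      rw [hA, _root_.smul_pow, one_pow] at hAr
      have h00 := congrFun (congrFun hAr ⟨0, hn⟩) ⟨0, hn⟩
      rw [Matrix.smul_apply, Matrix.smul_apply, Matrix.one_apply_eq, smul_eq_mul, smul_eq_mul,
        mul_one, mul_one] at h00
      exact hno z' h00
    obtain ⟨W, hWm, _, hWi⟩ := h A hAU hdet ⟨z, hAr⟩ hns
    have := dvd_finrank_of_typeB (p := p) r hr hrp n A z hAr hno W hWi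
    rw [hWm] at this
    exact hrm this
  · intro hRHS A hAU hdet ⟨z, hz⟩ _
    obtain ⟨hz1, _⟩ := glue_scalar_facts hq n hn A hAU hdet r z hz
    by_cases hB : ∃ w : F, w ^ (q + 1) = 1 ∧ w ^ r = z
    · obtain ⟨w, hw1, hwr⟩ := hB
      refine main_fixes_of_root hq n m hmn r hr hr2 hrp A hAU z w hz hw1 hwr ?_
      rw [hc1, Nat.mod_one, Nat.mod_one]
    · let x : Matrix.SpecialLinearGroup (Fin n) F := ⟨A, hdet⟩
      have hxr : ((x ^ r : Matrix.SpecialLinearGroup (Fin n) F) : Matrix (Fin n) (Fin n) F) =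
          z • (1 : Matrix (Fin n) (Fin n) F) := by
        rw [Matrix.SpecialLinearGroup.coe_pow]
        exact hz
      obtain ⟨hirr, hv⟩ := typeB_facts hq r hr hr2 hrq n hn x z hxr hz1 hB
      have hrm : r ∣ m := by
        rcases hRHS with h | h
        · exact h
        · omega
      have hp_q : ((q + 1 : ℕ) : F) ≠ 0 := by
        obtain ⟨f, hf0, hf⟩ := q_eq_pow (p := p) hq
        intro h0
        rw [CharP.cast_eq_zero_iff F p (q + 1)] at h0
        have hpq : p ∣ q := by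
          rw [hf]
          exact dvd_pow_self p (by omega)
        have : p ∣ 1 := (Nat.dvd_add_right hpq).mp h0
        exact (Fact.out : p.Prime).one_lt.ne' (Nat.dvd_one.mp this)
      have hNF : ((r * (q + 1) : ℕ) : F) ≠ 0 := by
        rw [Nat.cast_mul]
        exact mul_ne_zero (main_r_ne_zero hr hrp) hp_q
      have hAN : A ^ (r * (q + 1)) = 1 := by
        rw [pow_mul, hz, _root_.smul_pow, one_pow, hz1, one_smul]
      have hctx := ctx_of_isU hq n A hAU (r * (q + 1)) (Nat.mul_pos hr.pos (Nat.succ_pos q)) hNF hAN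
      have hgz : (Matrix.toLin' A) ^ r = z • (1 : Module.End F (Fin n → F)) := by
        rw [← Matrix.toLin'_pow, hz, map_smul, Matrix.toLin'_one]
        rfl
      obtain ⟨W, hWtop, hWi, hWnd, hWm⟩ := main_top_fixesIn hq n (Matrix.toLin' A)
      have hfix := exists_nd_inv_irr hctx r hr z hgz hirr hWi hWnd m (by rw [hWm]; exact hmn) hrm
      rw [fixesNd_iff_fixesIn hq]
      obtain ⟨W', _, h2, h3, h4⟩ := hfix
      exact ⟨W', le_top, h2, h3, h4⟩


/-! ### The statement -/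

theorem main (hq : Fintype.card F = q ^ 2) (n m : ℕ) (hn : 3 ≤ n) (hm : 1 ≤ m) (hmn : 2 * m < n)
    (r : ℕ) [Fact r.Prime]
    (hrΩ : r ∣ Nat.card {W : Submodule F (Fin n → F) // Module.finrank F ↥W = m ∧
      (∀ u ∈ W, u ≠ 0 → ∃ v ∈ W, Cfsg.hermForm n F q u v ≠ 0)})
    (i c : ℕ) (hi : i = orderOf (q : ZMod r))
    (hc : c = if i % 4 = 0 then i else if i % 4 = 2 then i / 2 else 2 * i) :
    (∀ x : Matrix.SpecialLinearGroup (Fin n) F, x ∈ Cfsg.SU n F q →
      (∃ z : F, ((x ^ r : Matrix.SpecialLinearGroup (Fin n) F) : Matrix (Fin n) (Fin n) F) =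
        z • (1 : Matrix (Fin n) (Fin n) F)) →
      (∀ z : F, (x : Matrix (Fin n) (Fin n) F) ≠ z • (1 : Matrix (Fin n) (Fin n) F)) →
      ∃ W : Submodule F (Fin n → F), Module.finrank F ↥W = m ∧
        (∀ u ∈ W, u ≠ 0 → ∃ v ∈ W, Cfsg.hermForm n F q u v ≠ 0) ∧
        W.map (Matrix.toLin' (x : Matrix (Fin n) (Fin n) F)) ≤ W) ↔
    ((r = p ∧ 2 < p ∧ (∀ μ : Multiset ℕ, (∀ a ∈ μ, 0 < a ∧ a ≤ p) → μ.sum = n →
        ∃ ν : Multiset ℕ, ν ≤ μ ∧ ν.sum = m)) ∨
     (r = p ∧ p = 2 ∧ (Odd n ∨ Even m)) ∨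
     (r = 2 ∧ p ≠ 2 ∧ (Odd n ∨ Even m ∨ (padicValNat 2 n ≤ padicValNat 2 (q + 1) ∧ q % 4 = 3))) ∨
     (r ≠ p ∧ 2 < r ∧ ((i ≠ 2 ∧ c ≤ m ∧ m % c ≤ n % c) ∨
       (i = 2 ∧ (r ∣ m ∨ padicValNat r n ≤ padicValNat r (q + 1)))))) := by
  rw [allFix_iff]
  have hr : r.Prime := Fact.out
  have hp : p.Prime := Fact.out
  have hcc : c = cOf i := hc
  by_cases hrp : r = p
  · subst hrp
    rw [caseA hq n m (by omega)]
    constructor
    · intro h
      by_cases h2 : r = 2
      · right; left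
        refine ⟨rfl, h2, ?_⟩
        rw [h2] at h
        exact (partCond_two_iff n m hm hmn).mp h
      · left
        have := hr.two_le
        exact ⟨rfl, by omega, h⟩
    · rintro (⟨_, _, h⟩ | ⟨_, h2, h⟩ | ⟨h2, h2', _⟩ | ⟨h, _⟩)
      · exact h
      · have : PartCond 2 n m := (partCond_two_iff n m hm hmn).mpr h
        rw [h2]
        exact this
      · exact absurd h2 h2'
      · exact absurd rfl h
  · by_cases hr2 : r = 2
    · subst hr2
      have hp2 : p ≠ 2 := fun h => hrp h.symm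
      rw [caseB hq hp2 n m hm hmn]
      constructor
      · intro h
        right; right; left
        exact ⟨rfl, hp2, h⟩
      · rintro (⟨h, _⟩ | ⟨h, _⟩ | ⟨_, _, h⟩ | ⟨_, h, _⟩)
        · exact absurd h hrp
        · exact absurd h hrp
        · exact h
        · omega
    · have h2r : 2 < r := by
        have := hr.two_le
        omega
      by_cases hi2 : i = 2
      · have hrq : r ∣ q + 1 := by
          rw [← glue_orderOf_eq_two_iff r hr hr2 q, ← hi]
          exact hi2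
        rw [caseD hq n m (by omega) (by omega) r hr hr2 hrp hrq]
        constructor
        · intro h
          right; right; right
          exact ⟨hrp, h2r, Or.inr ⟨hi2, h⟩⟩
        · rintro (⟨h, _⟩ | ⟨h, _⟩ | ⟨h, _⟩ | ⟨_, _, ⟨h, _⟩ | ⟨_, h⟩⟩)
          · exact absurd h hrp
          · exact absurd h hrp
          · exact absurd h hr2
          · exact absurd hi2 h
          · exact h
      · have hrq : ¬ r ∣ q + 1 := by
          rw [← glue_orderOf_eq_two_iff r hr hr2 q, ← hi]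
          exact hi2
        rw [caseC hq n m (by omega) (by omega) r hr hr2 hrp hrq hrΩ c (by rw [hcc, hi])]
        constructor
        · intro h
          right; right; right
          exact ⟨hrp, h2r, Or.inl ⟨hi2, h⟩⟩
        · rintro (⟨h, _⟩ | ⟨h, _⟩ | ⟨h, _⟩ | ⟨_, _, ⟨_, h⟩ | ⟨h, _⟩⟩)
          · exact absurd h hrp
          · exact absurd h hrp
          · exact absurd h hr2
          · exact h
          · exact absurd h hi2

end main

end Cfsg.Agent.Lib.Helper65.Und
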